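/-
Invariant subspaces and invariant decompositions of a linear map in terms of its elementary
divisors.
-/
import Cfsg.Agent.Cls.OrdR
import Cfsg.Agent.Cls.CentUnip
import Cfsg.Agent.Cls.SS

set_option autoImplicit false

namespace CF.Classical

open Module Polynomial CF.Cls

theorem exists_add_map_eq {α β : Type*} {g : α → β} {s : Multiset α} {μ ν : Multiset β}
    (h : s.map g = μ + ν) : ∃ a b, s = a + b ∧ a.map g = μ ∧ b.map g = ν := by
  classical
  induction μ using Multiset.induction_on generalizing s with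
  | empty => exact ⟨0, s, by simp, rfl, by simpa using h⟩
  | cons x μ ih =>
    obtain ⟨y, hy, rfl⟩ := Multiset.mem_map.1 (h ▸ by simp : x ∈ s.map g)
    obtain ⟨s, rfl⟩ := Multiset.exists_cons_of_mem hy
    obtain ⟨a, b, rfl, rfl, rfl⟩ := ih (s := s) (by simpa using h)
    exact ⟨y ::ₘ a, b, by simp, by simp, rfl⟩

theorem le_replicate_add {α : Type*} {a b : α} {e s : ℕ} {ν : Multiset α} :
    ν ≤ Multiset.replicate e a + Multiset.replicate s b ↔ ∃ e' ≤ e, ∃ s' ≤ s,
      ν = Multiset.replicate e' a + Multiset.replicate s' b := by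
  classical
  refine ⟨fun h => ?_, ?_⟩
  · obtain ⟨e', h1, h2⟩ := Multiset.le_replicate_iff.1
      (Multiset.inter_le_right (s := ν) (t := Multiset.replicate e a))
    obtain ⟨s', h3, h4⟩ := Multiset.le_replicate_iff.1 (Multiset.sub_le_iff_le_add'.2 h)
    exact ⟨e', h1, s', h3, by rw [← h2, ← h4, add_comm, Multiset.sub_add_inter]⟩
  · rintro ⟨e', h1, s', h2, rfl⟩
    exact add_le_add ((Multiset.replicate_le_replicate _).2 h1)
      ((Multiset.replicate_le_replicate _).2 h2)

variable {F V W : Type*} [Field F] [AddCommGroup V] [Module F V] [AddCommGroup W] [Module F W]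

theorem sim_prod_restrict {f : End F V} {U U' : Submodule F V} (h : IsCompl U U')
    (hU : ∀ v ∈ U, f v ∈ U) (hU' : ∀ v ∈ U', f v ∈ U') :
    Sim ((f.restrict hU).prodMap (f.restrict hU') : End F (U × U')) f :=
  ⟨U.prodEquivOfIsCompl U' h, fun v => by simp⟩

theorem sim_pi_restrict {ι : Type*} [Fintype ι] [DecidableEq ι] {f : End F V}
    {D : ι → Submodule F V} (h : DirectSum.IsInternal D) (hD : ∀ i, ∀ v ∈ D i, f v ∈ D i) :
    Sim (LinearMap.piMap fun i => f.restrict (hD i) : End F (∀ i, D i)) f := by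
  classical
  refine ⟨(DirectSum.linearEquivFunOnFintype F ι _).symm.trans
    (LinearEquiv.ofBijective (DirectSum.coeLinearMap D) h), fun v => ?_⟩
  have : ∀ w : ∀ i, D i, DirectSum.coeLinearMap D
      ((DirectSum.linearEquivFunOnFintype F ι _).symm w) = ∑ i, (w i : V) := fun w => by
    rw [DirectSum.coeLinearMap_eq_dfinsuppSum, DFinsupp.sum_eq_sum_fintype _ (by simp)]
    rfl
  exact (this _).trans (((congrArg f (this v)).trans (by simp)).symm)

theorem HasED.bind {f : End F V} {s : Multiset F[X]} (h : HasED f s) {u : F[X] → Multiset F[X]}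
    (hu : ∀ a ∈ s, HasED (cyc a) (u a)) : HasED f (s.bind u) := by
  obtain ⟨n, b, rfl, h⟩ := h
  refine HasED.of_sim ?_ h
  clear h
  induction n with
  | zero => simpa using hasED_blk b
  | succ n ih =>
    rw [Fin.univ_val_map, List.ofFn_succ, ← Multiset.cons_coe, Multiset.cons_bind,
      ← Fin.univ_val_map]
    exact ((hu _ (by simp)).prodMap (ih _ fun a ha => hu a (by
      simp only [Multiset.mem_map, Finset.mem_val, Finset.mem_univ, true_and] at ha ⊢
      obtain ⟨i, rfl⟩ := ha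
      exact ⟨_, rfl⟩))).of_sim (sim_piMap_succ _)

theorem HasED.of_bind {f : End F V} {s : Multiset F[X]} {u : F[X] → Multiset F[X]}
    (h : HasED f (s.bind u)) (hu : ∀ a ∈ s, HasED (cyc a) (u a)) : HasED f s := by
  obtain ⟨n, b, rfl⟩ := exists_fin_map_eq s
  exact (hasED_blk b).of_sim (h.sim (HasED.bind (hasED_blk b) hu))

theorem hasED_cyc_prod {s : Multiset F[X]} (hs : ∀ a ∈ s, a.Monic ∧ Irreducible a)
    (h : Squarefree s.prod) : HasED (cyc s.prod) s := by
  have h1 := monic_multiset_prod_of_monic s id fun a ha => (hs a ha).1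
  rw [Multiset.map_id] at h1
  have := fd_adjoinRoot h1.ne_zero
  have h2 := ss_of_squarefree h ((aeval_cyc_eq_zero_iff _ _).2 dvd_rfl)
  convert hasED_ed (cyc s.prod)
  exact eq_of_prod_eq_monic hs (fun a ha => ⟨(ed_isPP _ a ha).monic, h2 a ha⟩)
    (by rw [← charpoly_eq_ed, charpoly_cyc h1])

variable [FiniteDimensional F V] [FiniteDimensional F W]

theorem ed_eq_add_restrict {f : End F V} {U U' : Submodule F V} (h : IsCompl U U')
    (hU : ∀ v ∈ U, f v ∈ U) (hU' : ∀ v ∈ U', f v ∈ U') :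
    ed f = ed (f.restrict hU) + ed (f.restrict hU') := by
  rw [← sim_iff_ed.1 (sim_prod_restrict h hU hU'), ed_prodMap]

theorem ed_piMap {ι : Type*} [Fintype ι] {M : ι → Type*} [∀ i, AddCommGroup (M i)]
    [∀ i, Module F (M i)] [∀ i, FiniteDimensional F (M i)] (f : ∀ i, End F (M i)) :
    ed (LinearMap.piMap f : End F (∀ i, M i)) = ∑ i, ed (f i) :=
  pp_unique (ed_isPP _) (fun a ha => by
    obtain ⟨i, -, hi⟩ := Multiset.mem_sum.1 ha
    exact ed_isPP _ a hi) fun π _ _ k => by
    rw [← kd_eq_ed, kd_piMap, ← Multiset.coe_mapAddMonoidHom, map_sum,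
      ← Multiset.coe_sumAddMonoidHom, map_sum]
    simp [kd_eq_ed]

theorem ed_eq_sum_restrict {ι : Type*} [Fintype ι] [DecidableEq ι] {f : End F V}
    {D : ι → Submodule F V} (h : DirectSum.IsInternal D) (hD : ∀ i, ∀ v ∈ D i, f v ∈ D i) :
    ed f = ∑ i, ed (f.restrict (hD i)) := by
  rw [← sim_iff_ed.1 (sim_pi_restrict h hD), ed_piMap]

theorem exists_compl_of_ed {f : End F V} {s t : Multiset F[X]} (h : ed f = s + t) :
    ∃ U U' : Submodule F V, IsCompl U U' ∧ ∃ (hU : ∀ v ∈ U, f v ∈ U) (hU' : ∀ v ∈ U', f v ∈ U'),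
      ed (f.restrict hU) = s ∧ ed (f.restrict hU') = t := by
  obtain ⟨g, hg⟩ := exists_end_ed (V := Fin (s.map natDegree).sum → F) s
    (fun a ha => ed_isPP f a (by simp [h, ha])) (by simp)
  obtain ⟨k, hk⟩ := exists_end_ed (V := Fin (t.map natDegree).sum → F) t
    (fun a ha => ed_isPP f a (by simp [h, ha])) (by simp)
  obtain ⟨e, he⟩ := (sim_iff_ed (g := f)).2 ((ed_prodMap g k).trans (by rw [hg, hk, h]))
  have h1 := e.injective.comp (LinearMap.inl_injective (R := F))
  have h2 := e.injective.comp (LinearMap.inr_injective (R := F))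
  refine ⟨LinearMap.range (e.toLinearMap ∘ₗ .inl F _ _), LinearMap.range (e.toLinearMap ∘ₗ .inr F _ _),
    ?_, ?_, ?_, ?_, ?_⟩
  · rw [LinearMap.range_comp, LinearMap.range_comp]
    exact (Submodule.orderIsoMapComap e).isCompl LinearMap.isCompl_range_inl_inr
  · rintro _ ⟨x, rfl⟩
    exact ⟨g x, by simp [← he]⟩
  · rintro _ ⟨x, rfl⟩
    exact ⟨k x, by simp [← he]⟩
  · exact (sim_iff_ed.1 ⟨LinearEquiv.ofInjective (e.toLinearMap ∘ₗ .inl F _ _) h1,
      fun v => Subtype.ext (by simp [← he])⟩).symm.trans hg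
  · exact (sim_iff_ed.1 ⟨LinearEquiv.ofInjective (e.toLinearMap ∘ₗ .inr F _ _) h2,
      fun v => Subtype.ext (by simp [← he])⟩).symm.trans hk

theorem exists_compl_of_jt {f : End F V} {μ ν : Multiset ℕ} (h : jt f = μ + ν) :
    ∃ U U' : Submodule F V, IsCompl U U' ∧ ∃ (hU : ∀ v ∈ U, f v ∈ U) (hU' : ∀ v ∈ U', f v ∈ U'),
      jt (f.restrict hU) = μ ∧ jt (f.restrict hU') = ν := by
  obtain ⟨a, b, h1, rfl, rfl⟩ := exists_add_map_eq h
  obtain ⟨U, U', h2, hU, hU', rfl, rfl⟩ := exists_compl_of_ed h1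
  exact ⟨U, U', h2, hU, hU', rfl, rfl⟩

theorem jt_eq_add_restrict {f : End F V} {U U' : Submodule F V} (h : IsCompl U U')
    (hU : ∀ v ∈ U, f v ∈ U) (hU' : ∀ v ∈ U', f v ∈ U') :
    jt f = jt (f.restrict hU) + jt (f.restrict hU') := by
  rw [jt, ed_eq_add_restrict h hU hU', Multiset.map_add]; rfl

theorem exists_compl_iff (f : End F V) (m : ℕ) : (∃ U W : Submodule F V, IsCompl U W ∧
    finrank F U = m ∧ U.map f ≤ U ∧ W.map f ≤ W) ↔ ∃ ν ≤ jt f, ν.sum = m := by
  simp only [Submodule.map_le_iff_le_comap]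
  refine ⟨fun ⟨U, W, h, h1, hU, hW⟩ => ⟨jt (f.restrict hU), ?_, by rw [jt_sum, h1]⟩, ?_⟩
  · rw [jt_eq_add_restrict h hU hW]; exact Multiset.le_add_right _ _
  · rintro ⟨ν, h, rfl⟩
    obtain ⟨μ, h⟩ := Multiset.le_iff_exists_add.1 h
    obtain ⟨U, W, h', hU, hW, rfl, -⟩ := exists_compl_of_jt h
    exact ⟨U, W, h', (jt_sum _).symm, hU, hW⟩

theorem exists_inv_iff {f : End F V} (hf : f.IsSemisimple) (m : ℕ) :
    (∃ U : Submodule F V, finrank F U = m ∧ U.map f ≤ U) ↔ ∃ ν ≤ jt f, ν.sum = m := by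
  rw [← exists_compl_iff]
  refine ⟨fun ⟨U, h1, hU⟩ => ?_, fun ⟨U, _, _, h1, hU, _⟩ => ⟨U, h1, hU⟩⟩
  obtain ⟨W, hW, h⟩ := End.isSemisimple_iff.1 hf U (Submodule.map_le_iff_le_comap.1 hU)
  exact ⟨U, W, h, h1, hU, Submodule.map_le_iff_le_comap.2 hW⟩

theorem exists_flag_iff {f : End F V} (hf : f.IsSemisimple) {m k : ℕ} (hk : k ≤ finrank F V) :
    (∃ U W : Submodule F V, U ≤ W ∧ finrank F U = m ∧ finrank F W = finrank F V - k ∧
      U.map f ≤ U ∧ W.map f ≤ W) ↔ ∃ ν ν', ν + ν' ≤ jt f ∧ ν.sum = m ∧ ν'.sum = k := by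
  simp only [Submodule.map_le_iff_le_comap]
  refine ⟨fun ⟨U, W, h, h1, h2, hU, hW⟩ => ?_, ?_⟩
  · obtain ⟨W', hW', h3⟩ := End.isSemisimple_iff.1 hf W hW
    obtain ⟨ν, h4, h5⟩ := (exists_inv_iff (hf.restrict hW) m).1 ⟨U.comap W.subtype,
      (Submodule.comapSubtypeEquivOfLe h).finrank_eq.trans h1,
      Submodule.map_le_iff_le_comap.2 fun v hv => hU hv⟩
    refine ⟨ν, jt (f.restrict hW'), ?_, h5, ?_⟩
    · rw [jt_eq_add_restrict h3 hW hW']; exact add_le_add_left h4 _
    · have := Submodule.finrank_add_eq_of_isCompl h3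
      rw [jt_sum]; omega
  · rintro ⟨ν, ν', h, rfl, rfl⟩
    obtain ⟨μ, h⟩ := Multiset.le_iff_exists_add.1 h
    obtain ⟨W, W', h1, hW, hW', h2, rfl⟩ := exists_compl_of_jt (h.trans (add_right_comm _ _ _))
    obtain ⟨U, -, -, hU, -, rfl, -⟩ := exists_compl_of_jt h2
    have := Submodule.finrank_add_eq_of_isCompl h1
    refine ⟨U.map W.subtype, W, W.map_subtype_le U, by rw [jt_sum, Submodule.finrank_map_subtype_eq],
      by rw [jt_sum]; omega, ?_, hW⟩
    rintro _ ⟨v, hv, rfl⟩
    exact ⟨_, hU v hv, rfl⟩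

theorem jt_eq_replicate_one {f : End F V} {c : F} (h : f = algebraMap F _ c) :
    jt f = Multiset.replicate (finrank F V) 1 := by
  have h1 : ∀ d ∈ jt f, d = 1 := fun d hd => by
    obtain ⟨a, ha, rfl⟩ := Multiset.mem_map.1 hd
    have := natDegree_le_of_dvd ((aeval_eq_zero_iff_ed f (X - C c)).1 (by simp [h]) a ha)
      (X_sub_C_ne_zero c)
    have := (ed_isPP f a ha).natDegree_pos
    rw [natDegree_X_sub_C] at *; omega
  rw [← jt_sum f, Multiset.eq_replicate_card.2 h1]; simp

theorem jt_eq_singleton_of_irr {f : End F V} [Nontrivial V]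
    (h : ∀ U : Submodule F V, (∀ v ∈ U, f v ∈ U) → U = ⊥ ∨ U = ⊤) : jt f = {finrank F V} := by
  obtain ⟨d, hd⟩ : ∃ d, d ∈ jt f :=
    Multiset.exists_mem_of_ne_zero (Multiset.map_eq_zero.not.2 (ed_ne_zero f))
  obtain ⟨μ, h1⟩ := Multiset.le_iff_exists_add.1 (Multiset.singleton_le.2 hd)
  obtain ⟨U, U', h2, hU, hU', h3, rfl⟩ := exists_compl_of_jt h1
  have h4 := jt_sum (f.restrict hU)
  have := jt_pos f d hd
  rcases h U hU with rfl | rfl
  · simp [h3] at h4; omega
  obtain rfl := eq_bot_of_top_isCompl h2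
  have h5 : jt (f.restrict hU') = 0 := Multiset.eq_zero_of_forall_notMem fun x hx => by
    have := Multiset.single_le_sum (fun _ _ => Nat.zero_le _) x hx
    have := jt_pos _ x hx
    rw [jt_sum, finrank_bot] at *; omega
  rw [h1, h5, ← finrank_top, ← h4, h3]; simp

/-! ### Decompositions permuted by a linear map -/

theorem isInternal_of_finrank {ι : Type*} [Fintype ι] [DecidableEq ι] {D : ι → Submodule F V}
    (h : iSup D = ⊤) (hd : ∑ i, finrank F (D i) = finrank F V) : DirectSum.IsInternal D := by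
  have h1 : Function.Surjective (DirectSum.coeLinearMap D) := by
    rw [← LinearMap.range_eq_top, DirectSum.range_coeLinearMap, h]
  exact ⟨(LinearMap.injective_iff_surjective_of_finrank_eq_finrank
    (by rw [finrank_directSum, hd])).2 h1, h1⟩

omit [FiniteDimensional F V] [FiniteDimensional F W]

/-- `f` permutes a spanning family of subspaces of dimension `a` indexed by `ι`. -/
def Stab (a : ℕ) (ι : Type) (f : End F V) : Prop :=
  ∃ D : ι → Submodule F V, (∀ i, finrank F (D i) = a) ∧ iSup D = ⊤ ∧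
    ∃ σ : Equiv.Perm ι, ∀ j, (D j).map f = D (σ j)

variable {a : ℕ} {ι κ : Type} {f : End F V} {g : End F W}

theorem Stab.of_sim (h : Stab a ι f) (h' : Sim f g) : Stab a ι g := by
  obtain ⟨D, h1, h2, σ, h3⟩ := h
  obtain ⟨e, he⟩ := h'
  refine ⟨fun i => (D i).map e.toLinearMap, fun i => (e.finrank_map_eq _).trans (h1 i), by
    rw [← Submodule.map_iSup, h2, Submodule.map_top, LinearEquiv.range], σ, fun j => ?_⟩
  simp only [← h3, ← Submodule.map_comp]
  congr 1
  exact LinearMap.ext fun v => (he v).symm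

theorem Stab.reindex (h : Stab a ι f) (e : ι ≃ κ) : Stab a κ f := by
  obtain ⟨D, h1, h2, σ, h3⟩ := h
  exact ⟨D ∘ e.symm, fun i => h1 _, (e.symm.iSup_comp).trans h2, e.permCongr σ, fun j => by
    simp [h3]⟩

theorem Stab.smul (h : Stab a ι f) {c : F} (hc : c ≠ 0) : Stab a ι (c • f) := by
  obtain ⟨D, h1, h2, σ, h3⟩ := h
  exact ⟨D, h1, h2, σ, fun j => by rw [Submodule.map_smul _ _ _ hc, h3]⟩

theorem Stab.prod (h : Stab a ι f) (h' : Stab a κ g) :
    Stab a (ι ⊕ κ) (f.prodMap g : End F (V × W)) := by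
  obtain ⟨D, h1, h2, σ, h3⟩ := h
  obtain ⟨E, h4, h5, τ, h6⟩ := h'
  refine ⟨Sum.elim (fun i => (D i).map (.inl F V W)) fun i => (E i).map (.inr F V W), ?_, ?_,
    σ.sumCongr τ, ?_⟩
  · rintro (i | i)
    · exact (Submodule.equivMapOfInjective _ LinearMap.inl_injective _).finrank_eq.symm.trans (h1 i)
    · exact (Submodule.equivMapOfInjective _ LinearMap.inr_injective _).finrank_eq.symm.trans (h4 i)
  · simp only [iSup_sum, Sum.elim_inl, Sum.elim_inr, ← Submodule.map_iSup, h2, h5, Submodule.map_top,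
      LinearMap.sup_range_inl_inr]
  · rintro (i | i)
    · simp only [Sum.elim_inl, Equiv.Perm.sumCongr_apply, Sum.map_inl, ← h3, ← Submodule.map_comp]
      congr 1; ext <;> simp
    · simp only [Sum.elim_inr, Equiv.Perm.sumCongr_apply, Sum.map_inr, ← h6, ← Submodule.map_comp]
      congr 1; ext <;> simp

theorem stab_cyc {z : F} (hz : z ≠ 0) (a r : ℕ) :
    Stab a (Fin (r + 1)) (blk fun _ : Fin a => X ^ (r + 1) - C z) := by
  set P : F[X] := X ^ (r + 1) - C z
  have hP : P.Monic := monic_X_pow_sub_C z r.succ_ne_zero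
  have h0 : AdjoinRoot.root P ^ (r + 1) = algebraMap F _ z := root_X_pow_sub_C_pow _ _
  have hd : (AdjoinRoot.powerBasis' hP).dim = r + 1 := natDegree_X_pow_sub_C
  have : Nontrivial (AdjoinRoot P) := AdjoinRoot.nontrivial _ (by
    rw [degree_X_pow_sub_C r.succ_pos]; exact_mod_cast r.succ_ne_zero)
  have h1 : IsUnit (AdjoinRoot.root P) := (isUnit_pow_iff r.succ_ne_zero).1
    (h0 ▸ (IsUnit.mk0 z hz).map _)
  let M : ℕ → (Fin a → F) →ₗ[F] (Fin a → AdjoinRoot P) := fun u =>
    .piMap fun _ => .toSpanSingleton F _ (AdjoinRoot.root P ^ u)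
  have h2 : ∀ u, (LinearMap.range (M u)).map (blk fun _ : Fin a => P) = LinearMap.range (M (u + 1)) :=
    fun u => by
      rw [← LinearMap.range_comp]
      congr 1
      exact LinearMap.ext fun c => funext fun k => by simp [M, blk, cyc_apply, pow_succ']
  have h3 : Function.Periodic (fun u => LinearMap.range (M u)) (r + 1) := fun u => by
    refine Eq.trans ?_ (LinearMap.range_smul (M u) z hz)
    beta_reduce
    congr 1
    exact LinearMap.ext fun c => funext fun k => by
      simp [M, pow_add _ u, h0, Algebra.smul_def, mul_comm, mul_left_comm]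
  refine ⟨fun u => LinearMap.range (M u), fun u => ?_, top_le_iff.1 fun v _ => ?_,
    Equiv.addRight 1, fun u => ?_⟩
  · rw [LinearMap.finrank_range_of_inj, finrank_fin_fun]
    exact fun c c' h => funext fun k => smul_left_injective F (h1.pow u).ne_zero (congrFun h k)
  · have : v = ∑ u : Fin (r + 1), M u fun k =>
        (AdjoinRoot.powerBasis' hP).basis.repr (v k) (u.cast hd.symm) := funext fun k => by
      rw [Finset.sum_apply, ← (AdjoinRoot.powerBasis' hP).basis.sum_repr (v k),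
        ← (finCongr hd.symm).sum_comp]
      simp [M]
    rw [this]
    exact Submodule.sum_mem _ fun u _ => Submodule.mem_iSup_of_mem u ⟨_, rfl⟩
  · rw [h2, ← h3.map_mod_nat]
    simp [Fin.val_add]

/-- Every map with elementary divisors `s` permutes `t` subspaces of dimension `a`. -/
def PS (a t : ℕ) (s : Multiset F[X]) : Prop :=
  ∃ (n : ℕ) (b : Fin n → F[X]), Finset.univ.val.map b = s ∧ Stab a (Fin t) (blk b)

theorem PS.stab {t : ℕ} {s : Multiset F[X]} (h : PS a t s) (hf : HasED f s) : Stab a (Fin t) f := by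
  obtain ⟨n, b, rfl, h⟩ := h
  exact h.of_sim ((hasED_blk b).sim hf)

theorem Stab.ps {t : ℕ} {s : Multiset F[X]} (h : Stab a (Fin t) f) (hf : HasED f s) : PS a t s := by
  obtain ⟨n, b, rfl, hf⟩ := hf
  exact ⟨n, b, rfl, h.of_sim hf⟩

theorem PS.add {t t' : ℕ} {s s' : Multiset F[X]} (h : PS a t s) (h' : PS a t' s') :
    PS a (t + t') (s + s') := by
  obtain ⟨n, b, rfl, h⟩ := h
  obtain ⟨n', b', rfl, h'⟩ := h'
  exact ((h.prod h').reindex finSumFinEquiv).ps ((hasED_blk b).prodMap (hasED_blk b'))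

theorem ps_zero (a : ℕ) : PS a 0 (0 : Multiset F[X]) :=
  ⟨0, fun i => i.elim0, by simp, fun i => i.elim0, fun i => i.elim0, Subsingleton.elim _ _, 1,
    fun i => i.elim0⟩

theorem ps_cyc {z : F} (hz : z ≠ 0) (a : ℕ) {r : ℕ} (hr : 0 < r) (k : ℕ) :
    PS a (k * r) (Multiset.replicate (k * a) (X ^ r - C z)) := by
  obtain ⟨r, rfl⟩ := Nat.exists_eq_add_one.2 hr
  induction k with
  | zero => simpa using ps_zero a
  | succ k ih =>
    rw [add_one_mul, add_one_mul, Multiset.replicate_add]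
    exact ih.add ⟨a, _, by simp, stab_cyc hz a r⟩

theorem ps_one {s : Multiset F[X]} (hs : ∀ π ∈ s, π.Monic ∧ ¬ X ∣ π) :
    PS (s.map natDegree).sum 1 s := by
  obtain ⟨g, hg⟩ := exists_end_hasED (V := Fin (s.map natDegree).sum → F) s
    (fun π h => (hs π h).1.ne_zero) (by simp)
  refine Stab.ps ⟨fun _ => ⊤, fun _ => by simp, by simp, 1, fun _ => ?_⟩ hg
  rw [Submodule.map_top, LinearMap.range_eq_top]
  exact (End.isUnit_iff _).1 ((hg.isUnit_iff fun π h => (hs π h).1).2 fun π h => (hs π h).2) |>.2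

theorem ps_of_deg {c : ℕ} (t : ℕ) {s : Multiset F[X]} (hs : ∀ π ∈ s, π.Monic ∧ ¬ X ∣ π) {e k : ℕ}
    (h : s.map natDegree = Multiset.replicate e 1 + Multiset.replicate k c)
    (h1 : e + k * c = t * a) (h2 : k ≤ t * (a / c)) : PS a t s := by
  induction t generalizing s e k with
  | zero =>
    obtain rfl : k = 0 := by omega
    obtain rfl : e = 0 := by omega
    obtain rfl : s = 0 := by simpa using h
    exact ps_zero a
  | succ t ih =>
    have h3 := Nat.div_add_mod' a c
    have h4 : min k (a / c) * c ≤ a := (Nat.mul_le_mul_right _ (min_le_right _ _)).trans (by omega)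
    have h5 : a - min k (a / c) * c ≤ e := by
      rcases le_total k (a / c) with h5 | h5
      · rw [min_eq_left h5]; rw [add_one_mul] at h1; omega
      · rw [min_eq_right h5]
        have := Nat.mul_le_mul_right c h2
        have h6 : (t + 1) * a = (t + 1) * (a / c) * c + t * (a % c) + a % c := by
          conv_lhs => rw [← h3]
          ring
        omega
    obtain ⟨e', rfl⟩ := Nat.exists_eq_add_of_le h5
    obtain ⟨k', hk⟩ := Nat.exists_eq_add_of_le (min_le_left k (a / c))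
    have h7 : k' ≤ t * (a / c) := by rw [add_one_mul] at h2; omega
    generalize min k (a / c) = m at *
    subst hk
    rw [Multiset.replicate_add, Multiset.replicate_add, add_add_add_comm] at h
    obtain ⟨u, v, rfl, hu, hv⟩ := exists_add_map_eq h
    have h6 := ps_one fun π hπ => hs π (Multiset.mem_add.2 (.inl hπ))
    rw [hu, Multiset.sum_add, Multiset.sum_replicate, Multiset.sum_replicate, smul_eq_mul,
      smul_eq_mul, mul_one, Nat.sub_add_cancel h4] at h6
    rw [add_comm t]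
    refine h6.add (ih (fun π hπ => hs π (Multiset.mem_add.2 (.inr hπ))) hv ?_ h7)
    rw [add_mul, add_one_mul] at h1; omega

theorem exists_hasED_of_stab [FiniteDimensional F V] [Fintype ι] [DecidableEq ι] {r : ℕ}
    (hr : r.Prime) {z : F} (hz : z ≠ 0) (hf : f ^ r = algebraMap F _ z) (ha : 0 < a)
    (hd : Fintype.card ι * a = finrank F V) (h : Stab a ι f) :
    ∃ (k : ℕ) (S : Multiset (Multiset F[X])),
      (∀ s ∈ S, (∀ π ∈ s, IsPP π) ∧ (s.map natDegree).sum = a) ∧
      S.card + k * r = Fintype.card ι ∧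
      HasED f (S.sum + Multiset.replicate (k * a) (X ^ r - C z)) := by
  obtain ⟨D, h1, h2, σ, h3⟩ := h
  have := Fact.mk hr
  have h4 : ∀ u j, (D j).map (f ^ u) = D ((σ ^ u) j) := fun u j => by
    induction u with
    | zero => exact Submodule.map_id _
    | succ u ih => rw [pow_succ', pow_succ', End.mul_eq_comp, Submodule.map_comp, ih, h3]; rfl
  have h5 : σ ^ r = 1 := Equiv.ext fun j => by
    refine (isInternal_of_finrank h2 (by simp [h1, hd])).submodule_iSupIndep.injOn ?_ ?_ ?_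
    · intro e; have := h1 ((σ ^ r) j); rw [e, finrank_bot] at this; omega
    · intro e; have := h1 ((1 : Equiv.Perm ι) j); rw [e, finrank_bot] at this; omega
    · rw [← h4, hf, Algebra.algebraMap_eq_smul_one, Submodule.map_smul _ _ _ hz]
      exact Submodule.map_id _
  have h6 : ∀ c : σ.cycleFactorsFinset, ∃ j, j ∈ c.1.support := fun c =>
    (Equiv.Perm.mem_cycleFactorsFinset_iff.1 c.2).1.nonempty_support
  choose j0 hj0 using h6
  let b := fun j => finBasisOfFinrankEq F (D j) (h1 j)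
  obtain ⟨φ, h7, h8⟩ := exists_hom (fun _ : σ.cycleFactorsFinset × Fin a => X ^ r - C z) f
    (fun l => b (j0 l.1) l.2) fun l => by simp [hf]
  have hD : ∀ j : {j // σ j = j}, ∀ v ∈ D j, f v ∈ D j := fun j v hv => by
    rw [← j.2, ← h3]; exact ⟨v, hv, rfl⟩
  let ψ := (∑ j : {j // σ j = j}, (D j).subtype ∘ₗ LinearMap.proj (R := F)
    (φ := fun j : {j // σ j = j} => D j) j).coprod φ
  have h9 : ∀ m, ψ ((LinearMap.piMap fun j => f.restrict (hD j)).prodMap (blk _) m) = f (ψ m) :=
    fun m => by simp [ψ, h7]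
  have h10 : σ.cycleFactorsFinset.card * r = σ.support.card := by
    rw [← σ.sum_cycleType, Equiv.Perm.cycleType_of_pow_prime_eq_one h5]
    simp [Equiv.Perm.cycleType]
  have h11 : Fintype.card {j // σ j = j} + σ.cycleFactorsFinset.card * r = Fintype.card ι := by
    rw [h10, Fintype.card_subtype, Equiv.Perm.support, Finset.card_filter_add_card_filter_not]
    rfl
  have := fd_adjoinRoot (X_pow_sub_C_ne_zero hr.pos z)
  have h12 : Function.Surjective ψ := by
    rw [← LinearMap.range_eq_top, ← top_le_iff, ← h2]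
    refine iSup_le fun j => ?_
    by_cases hj : σ j = j
    · exact fun v hv => ⟨(Pi.single ⟨j, hj⟩ ⟨v, hv⟩, 0), by
        simp only [ψ, LinearMap.coprod_apply, map_zero, add_zero, LinearMap.sum_apply]
        rw [Finset.sum_eq_single ⟨j, hj⟩ (fun i _ hi => by simp [hi]) (by simp)]
        simp⟩
    have hc := Equiv.Perm.cycleOf_mem_cycleFactorsFinset_iff.2 (Equiv.Perm.mem_support.2 hj)
    obtain ⟨u, -, hu⟩ := (Equiv.Perm.mem_support_cycleOf_iff.1 (hj0 ⟨_, hc⟩)).1.symm.exists_pow_eq'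
    rw [← hu, ← h4, Submodule.map_le_iff_le_comap, ← (D _).map_subtype_top, ← (b _).span_eq,
      Submodule.map_le_iff_le_comap, Submodule.span_le]
    rintro _ ⟨k, rfl⟩
    exact ⟨_, (pow_intertwine ψ h9 u (0, Pi.single (⟨_, hc⟩, k) 1)).trans (by simp [ψ, h8])⟩
  refine ⟨σ.cycleFactorsFinset.card, Finset.univ.val.map fun j => ed (f.restrict (hD j)), ?_,
    by simpa using h11, ?_⟩
  · intro s hs
    obtain ⟨j, -, rfl⟩ := Multiset.mem_map.1 hs
    exact ⟨ed_isPP _, (finrank_eq_ed _).symm.trans (h1 j)⟩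
  · have := ((hasED_ed (LinearMap.piMap fun j => f.restrict (hD j))).prodMap (hasED_blk
      fun _ : σ.cycleFactorsFinset × Fin a => X ^ r - C z)).of_sim (Sim.symm
        ⟨LinearEquiv.ofBijective ψ ⟨(LinearMap.injective_iff_surjective_of_finrank_eq_finrank (by
          simp [finrank_pi_fintype, h1, finrank_adjoinRoot, ← hd, ← h11]; ring)).2 h12, h12⟩, h9⟩)
    rw [ed_piMap] at this
    simpa using this

end CF.Classical
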