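/-
Elements of prime order of `PGL`: their elementary divisors; counts of subspaces and
decompositions; powers in cyclic groups.
-/
import Cfsg.Agent.Classical.EluA
import Cfsg.Agent.Geom.Levi
import Cfsg.Agent.Fgs2.Zsigmondy

set_option autoImplicit false

namespace CF.Classical

open Module CF.Cls Finset

/-! ### Counting -/

section count

variable {F V : Type*} [Field F] [Fintype F] [AddCommGroup V] [Module F V] [FiniteDimensional F V]

/-- `(q - 1) ⋯ (q ^ n - 1)`. -/
def qq (q n : ℕ) : ℕ := ∏ i ∈ range n, (q ^ (i + 1) - 1)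

theorem qq_pos {q : ℕ} (hq : 2 ≤ q) (n : ℕ) : 0 < qq q n :=
  prod_pos fun i _ => Nat.sub_pos_of_lt (Nat.one_lt_pow i.succ_ne_zero hq)

theorem prod_pow_sub_pow (q : ℕ) {m n : ℕ} (h : m ≤ n) : (∏ i : Fin m, (q ^ n - q ^ i.1)) *
    qq q (n - m) = q ^ (∑ i ∈ range m, i) * qq q n := by
  obtain ⟨k, rfl⟩ := Nat.exists_eq_add_of_le' h
  rw [Nat.add_sub_cancel, qq, qq, prod_range_add, ← prod_pow_eq_pow_sum, mul_comm, mul_left_comm,
    ← prod_range_reflect (fun i => q ^ (k + i + 1) - 1), ← prod_mul_distrib,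
    Fin.prod_univ_eq_prod_range (fun i => q ^ (k + m) - q ^ i)]
  congr 1
  refine prod_congr rfl fun i hi => ?_
  rw [mem_range] at hi
  rw [Nat.mul_sub_one, ← pow_add]
  congr 2; omega

theorem card_subspace_mul {m : ℕ} (h : m ≤ finrank F V) :
    Nat.card {W : Submodule F V // finrank F W = m} * qq (Fintype.card F) m *
      qq (Fintype.card F) (finrank F V - m) = qq (Fintype.card F) (finrank F V) := by
  have : Finite V := Module.finite_of_finite F
  have : Finite (Submodule F V) := Finite.of_injective _ SetLike.coe_injective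
  have h1 := Geom.card_eq_mul_of_fibers (fun v : {v : Fin m → V // LinearIndependent F v} =>
    (⟨Submodule.span F (Set.range v.1), by simpa using finrank_span_eq_card v.2⟩ :
      {W : Submodule F V // finrank F W = m})) (n := ∏ i : Fin m, (Fintype.card F ^ m -
        Fintype.card F ^ i.1)) fun W => by
    have := card_linearIndependent (K := F) (V := W.1) W.2.ge
    rw [W.2] at this
    rw [← this]
    symm
    refine Nat.card_congr (Equiv.ofBijective (fun v => ⟨⟨W.1.subtype ∘ v.1,
      v.2.map' _ W.1.ker_subtype⟩, Subtype.ext ?_⟩) ⟨fun v w e => Subtype.ext (funext fun i =>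
        Subtype.ext (congrFun (congrArg (·.1.1) e) i)), fun v => ⟨⟨fun i => ⟨v.1.1 i, ?_⟩,
          .of_comp W.1.subtype v.1.2⟩, rfl⟩⟩)
    · change Submodule.span F (Set.range (W.1.subtype ∘ v.1)) = W.1
      rw [Set.range_comp, ← Submodule.map_span, v.2.span_eq_top_of_card_eq_finrank' (by simp [W.2]),
        Submodule.map_subtype_top]
    · exact (congrArg Subtype.val v.2).le (Submodule.subset_span ⟨i, rfl⟩)
  rw [card_linearIndependent h] at h1
  have h2 := prod_pow_sub_pow (Fintype.card F) h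
  have h3 := prod_pow_sub_pow (Fintype.card F) (le_refl m)
  rw [Nat.sub_self, qq, prod_range_zero, mul_one] at h3
  rw [h1, h3] at h2
  exact Nat.eq_of_mul_eq_mul_left (pow_pos Fintype.card_pos _) (Eq.trans (by ring) h2)

theorem exists_dvd_of_mul_qq {q r N m n : ℕ} (hq : 2 ≤ q) (hr : r.Prime) (hm : m ≤ n) (h1 : r ∣ N)
    (h : N * qq q m * qq q (n - m) = qq q n) : ∃ j, n - m < j ∧ j ≤ n ∧ r ∣ q ^ j - 1 := by
  obtain ⟨k, rfl⟩ := Nat.exists_eq_add_of_le' hm
  rw [Nat.add_sub_cancel, qq.eq_1 q (k + m), prod_range_add, mul_comm] at h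
  obtain ⟨i, hi, h2⟩ := (hr.prime.dvd_finsetProd_iff _).1
    (Nat.eq_of_mul_eq_mul_left (qq_pos hq k) h ▸ h1.mul_right _)
  exact ⟨_, by omega, by rw [mem_range] at hi; omega, h2⟩

theorem exists_dvd_of_dvd_card_subspace {r m : ℕ} (hr : r.Prime) (hm : m ≤ finrank F V)
    (h : r ∣ Nat.card {W : Submodule F V // finrank F W = m}) :
    (∃ j, finrank F V - m < j ∧ j ≤ finrank F V ∧ r ∣ Fintype.card F ^ j - 1) ∧
      ∃ j, m < j ∧ j ≤ finrank F V ∧ r ∣ Fintype.card F ^ j - 1 := by
  have h1 := card_subspace_mul hm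
  refine ⟨exists_dvd_of_mul_qq Fintype.one_lt_card hr hm h h1, ?_⟩
  have := exists_dvd_of_mul_qq Fintype.one_lt_card hr (Nat.sub_le _ m) h
    (by rw [Nat.sub_sub_self hm, mul_right_comm, h1])
  rwa [Nat.sub_sub_self hm] at this

theorem card_compl (U : Submodule F V) : Nat.card {W // IsCompl U W} =
    Fintype.card F ^ ((finrank F V - finrank F U) * finrank F U) := by
  obtain ⟨W, h⟩ := U.exists_isCompl
  rw [Nat.card_congr U.isComplEquivProj, ← Submodule.finrank_add_eq_of_isCompl h,
    Nat.add_sub_cancel_left, ← finrank_linearMap F F W U, ← Nat.card_eq_fintype_card,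
    ← natCard_eq_pow_finrank]
  refine (Nat.card_congr (Equiv.ofBijective (fun g => ⟨LinearMap.ofIsCompl h .id g, by simp⟩)
    ⟨fun g g' e => ?_, fun f => ⟨f.1.comp W.subtype, Subtype.ext ?_⟩⟩)).symm
  · exact LinearMap.ext fun x => by simpa using congrArg (·.1 x) e
  · exact LinearMap.ofIsCompl_eq h (fun x => (f.2 x).symm) fun _ => rfl

theorem card_compl_pairs (m : ℕ) : Nat.card {P : Submodule F V × Submodule F V //
    IsCompl P.1 P.2 ∧ finrank F P.1 = m} = Nat.card {W : Submodule F V // finrank F W = m} *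
      Fintype.card F ^ ((finrank F V - m) * m) := by
  have : Finite V := Module.finite_of_finite F
  have : Finite (Submodule F V) := Finite.of_injective _ SetLike.coe_injective
  refine Geom.card_eq_mul_of_fibers (fun P => (⟨P.1.1, P.2.2⟩ : {W : Submodule F V // _})) ?_
  rintro ⟨U, rfl⟩
  rw [← card_compl]
  exact (Nat.card_congr (Equiv.ofBijective (fun W => ⟨⟨(U, W.1), W.2, rfl⟩, rfl⟩)
    ⟨fun W W' e => Subtype.ext (congrArg (·.1.1.2) e), fun ⟨⟨⟨U', W⟩, h, h'⟩, e⟩ => by
      obtain rfl : U' = U := congrArg Subtype.val e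
      exact ⟨⟨W, h⟩, rfl⟩⟩)).symm

theorem card_flags {m k : ℕ} : Nat.card {P : Submodule F V × Submodule F V //
    P.1 ≤ P.2 ∧ finrank F P.1 = m ∧ finrank F P.2 = k} =
      Nat.card {W : Submodule F V // finrank F W = k} *
        Nat.card {W : Submodule F (Fin k → F) // finrank F W = m} := by
  have : Finite V := Module.finite_of_finite F
  have : Finite (Submodule F V) := Finite.of_injective _ SetLike.coe_injective
  refine Geom.card_eq_mul_of_fibers (fun P => (⟨P.1.2, P.2.2.2⟩ : {W : Submodule F V // _})) ?_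
  rintro ⟨W, hW⟩
  let e := W.subtype ∘ₗ (finBasisOfFinrankEq F W hW).equivFun.symm.toLinearMap
  have he : Function.Injective e := W.injective_subtype.comp (LinearEquiv.injective _)
  have h1 : LinearMap.range e = W := by simp [e, LinearMap.range_comp]
  refine (Nat.card_congr (Equiv.ofBijective (fun U => ⟨⟨(U.1.map e, W),
    h1 ▸ LinearMap.map_le_range, (Submodule.equivMapOfInjective e he _).finrank_eq.symm.trans U.2,
      hW⟩, rfl⟩) ⟨fun U U' h => Subtype.ext (Submodule.map_injective_of_injective he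
        (congrArg (·.1.1.1) h)), fun ⟨⟨⟨U, W'⟩, h, h', h''⟩, e'⟩ => ?_⟩)).symm
  obtain rfl : W' = W := congrArg Subtype.val e'
  have h2 : (U.comap e).map e = U := Submodule.map_comap_eq_self (h1 ▸ h)
  exact ⟨⟨U.comap e, (Submodule.equivMapOfInjective e he _).finrank_eq.trans (by rw [h2]; exact h')⟩,
    Subtype.ext (Subtype.ext (Prod.ext h2 rfl))⟩

theorem card_decomp_dvd {ι : Type*} [Fintype ι] {a : ℕ} (hd : Fintype.card ι * a = finrank F V) :
    Nat.card {D : ι → Submodule F V // (∀ i, finrank F (D i) = a) ∧ iSup D = ⊤} ∣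
      ∏ i : Fin (finrank F V), (Fintype.card F ^ finrank F V - Fintype.card F ^ i.1) := by
  have : Finite V := Module.finite_of_finite F
  have : Finite (Submodule F V) := Finite.of_injective _ SetLike.coe_injective
  have hc : Fintype.card (ι × Fin a) = finrank F V := by simpa using hd
  let e := Fintype.equivFinOfCardEq hc
  have h0 : ∀ v : ι × Fin a → V, ⨆ i, Submodule.span F (Set.range fun k => v (i, k)) =
      Submodule.span F (Set.range v) := fun v => by
    rw [← Submodule.span_iUnion]; congr 1; ext; simp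
  have h3 : Nat.card {v : ι × Fin a → V // LinearIndependent F v} =
      Nat.card {v : Fin (finrank F V) → V // LinearIndependent F v} :=
    Nat.card_congr ((e.arrowCongr (.refl V)).subtypeEquiv fun v => by
      exact (linearIndependent_equiv e.symm).symm)
  rw [← card_linearIndependent le_rfl]
  refine ⟨_, h3.symm.trans <| Geom.card_eq_mul_of_fibers
    (B := {D : ι → Submodule F V // (∀ i, finrank F (D i) = a) ∧ iSup D = ⊤})
    (fun v => ⟨fun i => Submodule.span F (Set.range
    fun k => v.1 (i, k)), fun i => (finrank_span_eq_card (v.2.comp (i, ·)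
      (Prod.mk_right_injective i))).trans (Fintype.card_fin a), by
        rw [h0, v.2.span_eq_top_of_card_eq_finrank' hc]⟩)
    (n := (∏ i : Fin a, (Fintype.card F ^ a - Fintype.card F ^ i.1)) ^ Fintype.card ι) fun D => ?_⟩
  have h1 : ∀ i, Nat.card {v : Fin a → D.1 i // LinearIndependent F v} = _ := fun i =>
    (card_linearIndependent (D.2.1 i).ge).trans (by rw [D.2.1 i])
  rw [← Finset.card_univ (α := ι), ← prod_const, ← prod_congr rfl fun i _ => h1 i, ← Nat.card_pi]
  have h2 : ∀ (v : ∀ i, {v : Fin a → D.1 i // LinearIndependent F v}) i,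
      Submodule.span F (Set.range fun k => ((v i).1 k : V)) = D.1 i := fun v i => by
    rw [← Function.comp_def, ← Submodule.coe_subtype, Set.range_comp, ← Submodule.map_span,
      (v i).2.span_eq_top_of_card_eq_finrank' (by simp [D.2.1]), Submodule.map_subtype_top]
  symm
  refine Nat.card_congr (Equiv.ofBijective (fun v => ⟨⟨fun l => (v l.1).1 l.2,
    linearIndependent_of_top_le_span_of_card_eq_finrank (by rw [← h0]; simp [h2, D.2.2]) hc⟩,
      Subtype.ext (funext (h2 v))⟩) ⟨fun v w h => funext fun i => Subtype.ext (funext fun k =>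
        Subtype.ext (congrFun (congrArg (·.1.1) h) (i, k))), fun v => ⟨fun i => ⟨fun k =>
          ⟨v.1.1 (i, k), ?_⟩, .of_comp (D.1 i).subtype (v.1.2.comp (i, ·)
            (Prod.mk_right_injective i))⟩, rfl⟩⟩)
  exact (congrFun (congrArg Subtype.val v.2) i).le (Submodule.subset_span ⟨k, rfl⟩)

end count

/-! ### Powers in cyclic groups -/

section cyclic

variable {C : Type*} [CommGroup C] [IsCyclic C] [Finite C] {r : ℕ}

theorem exists_pow_eq_iff (x : C) (n : ℕ) :
    (∃ y, y ^ n = x) ↔ x ^ (Nat.card C / (Nat.card C).gcd n) = 1 := by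
  have : (powMonoidHom n : C →* C).range =
      (powMonoidHom (Nat.card C / (Nat.card C).gcd n) : C →* C).ker := by
    refine Subgroup.eq_of_le_of_card_ge ?_ ?_
    · rintro _ ⟨y, rfl⟩
      rw [MonoidHom.mem_ker, powMonoidHom_apply, powMonoidHom_apply, ← pow_mul,
        ← Nat.mul_div_assoc _ (Nat.gcd_dvd_left _ _), mul_comm,
        Nat.mul_div_assoc _ (Nat.gcd_dvd_right _ _), pow_mul, pow_card_eq_one', one_pow]
    · rw [IsCyclic.card_powMonoidHom_range, IsCyclic.card_powMonoidHom_ker,
        Nat.gcd_eq_right (Nat.div_dvd_of_dvd (Nat.gcd_dvd_left _ _))]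
  exact (SetLike.ext_iff.1 this x :)

theorem exists_pow_eq_iff_of_prime [hr : Fact r.Prime] {x : C} (hx : orderOf x = r) {n : ℕ}
    (hn : n ≠ 0) : (∃ y, y ^ n = x) ↔ padicValNat r n < padicValNat r (Nat.card C) := by
  have h0 := Nat.card_pos (α := C)
  rw [exists_pow_eq_iff, ← orderOf_dvd_iff_pow_eq_one, hx, hr.out.dvd_iff_one_le_factorization
    (Nat.div_pos (Nat.gcd_le_left _ h0) (Nat.gcd_pos_of_pos_left _ h0)).ne',
    Nat.factorization_div (Nat.gcd_dvd_left _ _), Nat.factorization_gcd h0.ne' hn]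
  simp only [Finsupp.coe_tsub, Pi.sub_apply, Finsupp.inf_apply, Nat.factorization_def _ hr.out]
  omega

theorem exists_nonpow_iff [hr : Fact r.Prime] (h : r ∣ Nat.card C) {m : ℕ} (hm : m ≠ 0) :
    (∃ w : C, (∀ b, b ^ r ≠ w) ∧ w ^ m = 1) ↔ padicValNat r (Nat.card C) ≤ padicValNat r m := by
  have h0 := Nat.card_pos (α := C)
  have h1 : ∀ w : C, (∀ b, b ^ r ≠ w) ↔ ¬ orderOf w ∣ Nat.card C / r := fun w => by
    rw [orderOf_dvd_iff_pow_eq_one, ← not_exists, exists_pow_eq_iff, Nat.gcd_eq_right h]
  have h2 : (Nat.card C / r).factorization r + 1 = padicValNat r (Nat.card C) := by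
    have := (hr.out.dvd_iff_one_le_factorization h0.ne').1 h
    rw [Nat.factorization_div h, ← Nat.factorization_def _ hr.out]
    simp [hr.out.factorization_self]; omega
  have h3 := (Nat.div_pos (Nat.le_of_dvd h0 h) hr.out.pos).ne'
  simp only [h1, ← orderOf_dvd_iff_pow_eq_one]
  refine ⟨fun ⟨w, h4, h5⟩ => not_lt.1 fun h6 => h4 ?_, fun h4 => ?_⟩
  · rw [← Nat.factorization_prime_le_iff_dvd (orderOf_pos w).ne' h3]
    intro s hs
    have h7 := (Nat.factorization_le_iff_dvd (orderOf_pos w).ne' hm).2 h5 r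
    have h8 := (Nat.factorization_le_iff_dvd (orderOf_pos w).ne' h0.ne').2 (orderOf_dvd_natCard w) s
    rcases eq_or_ne s r with rfl | h9
    · rw [Nat.factorization_def m hs] at h7; omega
    · rw [Nat.factorization_div h]
      simpa [hr.out.factorization, h9.symm] using h8
  · obtain ⟨g, hg⟩ := IsCyclic.exists_ofOrder_eq_natCard (α := C)
    refine ⟨g ^ (orderOf g / r ^ padicValNat r (Nat.card C)), ?_⟩
    rw [orderOf_pow_orderOf_div (orderOf_pos g).ne' (hg ▸ pow_padicValNat_dvd),
      padicValNat_dvd_iff_le h3, padicValNat_dvd_iff_le hm]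
    rw [Nat.factorization_def _ hr.out] at h2
    exact ⟨by omega, h4⟩

end cyclic

end CF.Classical
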