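/-
Elements of prime order of `PSL`: their elementary divisors.
-/
import Cfsg.Agent.Classical.EluB
import Cfsg.Agent.Cls.OrdR

set_option autoImplicit false

namespace CF.Classical

open Module CF.Cls Polynomial

variable {F V : Type*} [Field F] [AddCommGroup V] [Module F V]

/-- `f` represents an element of order `r` of `PSL`. -/
def OrdP (r : ℕ) (f : End F V) : Prop :=
  LinearMap.det f = 1 ∧ (∃ c : F, f ^ r = algebraMap F _ c) ∧ ∀ c : F, f ≠ algebraMap F _ c

section matrix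

variable {ι : Type*} [Fintype ι] [DecidableEq ι]

theorem toLin'_eq_algebraMap (A : Matrix ι ι F) (c : F) :
    (Matrix.toLin' A : End F (ι → F)) = algebraMap F _ c ↔ A = c • (1 : Matrix ι ι F) := by
  rw [← Matrix.toLin'.injective.eq_iff, map_smul, Matrix.toLin'_one]; rfl

theorem ordP_toLin' (r : ℕ) (x : Matrix.SpecialLinearGroup ι F) :
    OrdP r (Matrix.toLin' (x : Matrix ι ι F)) ↔
      (∃ c : F, ((x ^ r : Matrix.SpecialLinearGroup ι F) : Matrix ι ι F) = c • (1 : Matrix ι ι F)) ∧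
        ∀ c : F, (x : Matrix ι ι F) ≠ c • (1 : Matrix ι ι F) := by
  simp [OrdP, ← toLin'_eq_algebraMap, Matrix.toLin'_pow]

theorem OrdP.exists_SL {r : ℕ} {f : End F (ι → F)} (h : OrdP r f) :
    ∃ x : Matrix.SpecialLinearGroup ι F, Matrix.toLin' (x : Matrix ι ι F) = f :=
  ⟨⟨LinearMap.toMatrix' f, by rw [LinearMap.det_toMatrix', h.1]⟩, Matrix.toLin'_toMatrix' f⟩

theorem forall_SL_iff (r : ℕ) (P : End F (ι → F) → Prop) :
    (∀ x : Matrix.SpecialLinearGroup ι F,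
      (∃ c : F, ((x ^ r : Matrix.SpecialLinearGroup ι F) : Matrix ι ι F) = c • (1 : Matrix ι ι F)) →
        (∀ c : F, (x : Matrix ι ι F) ≠ c • (1 : Matrix ι ι F)) →
          P (Matrix.toLin' (x : Matrix ι ι F))) ↔ ∀ f, OrdP r f → P f :=
  ⟨fun h f hf => by
    obtain ⟨x, rfl⟩ := hf.exists_SL
    exact h x ((ordP_toLin' r x).1 hf).1 ((ordP_toLin' r x).1 hf).2,
  fun h x h1 h2 => h _ ((ordP_toLin' r x).2 ⟨h1, h2⟩)⟩

end matrix

variable [FiniteDimensional F V] {r : ℕ} {f : End F V}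

theorem OrdP.nontrivial (h : OrdP r f) : Nontrivial V := by
  by_contra h1
  rw [not_nontrivial_iff_subsingleton] at h1
  exact h.2.2 0 (Subsingleton.elim _ _)

theorem OrdP.isUnit (h : OrdP r f) : IsUnit f := by
  rw [LinearMap.isUnit_iff_isUnit_det, h.1]; exact isUnit_one

theorem OrdP.ne_zero (h : OrdP r f) {z : F} (hz : f ^ r = algebraMap F _ z) : z ≠ 0 := by
  rintro rfl
  have := h.nontrivial
  exact (h.isUnit.pow r).ne_zero (by rw [hz, map_zero])

theorem eq_scalar_of_ed {c : F} (h : ∀ a ∈ ed f, a = X - C c) : f = algebraMap F _ c := by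
  have := (aeval_eq_zero_iff_ed f (X - C c)).2 fun a ha => h a ha ▸ dvd_rfl
  rwa [map_sub, aeval_X, aeval_C, sub_eq_zero] at this

theorem ed_of_nonpow (hr : r.Prime) {z : F} (hz : ∀ b : F, b ^ r ≠ z)
    (hf : f ^ r = algebraMap F _ z) : ∃ k, k * r = finrank F V ∧
      ed f = Multiset.replicate k (X ^ r - C z) ∧ LinearMap.det f = ((-1) ^ (r + 1) * z) ^ k := by
  have h1 := X_pow_sub_C_irreducible_of_prime hr hz
  have h2 := monic_X_pow_sub_C z hr.ne_zero
  have h3 : ed f = Multiset.replicate (ed f).card (X ^ r - C z) :=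
    Multiset.eq_replicate_card.2 fun a ha => by
      have h4 := (aeval_eq_zero_iff_ed f (X ^ r - C z)).1 (by simp [hf]) a ha
      exact eq_of_monic_of_associated (ed_isPP f a ha).monic h2
        ((h1.dvd_iff.1 h4).resolve_left (not_isUnit_of_natDegree_pos _
          (ed_isPP f a ha).natDegree_pos)).symm
  have h4 : (ed f).card * r = finrank F V := by
    rw [finrank_eq_ed f, h3]; simp
  refine ⟨_, h4, h3, ?_⟩
  rw [LinearMap.det_eq_sign_charpoly_coeff, charpoly_eq_ed, ← h4, congrArg Multiset.prod h3,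
    Multiset.prod_replicate, coeff_zero_eq_eval_zero, eval_pow, mul_comm _ r, pow_mul, ← mul_pow]
  simp [hr.ne_zero, pow_succ]

/-- No element of order `r` of `PSL_n(q)` has its `r`-th power a non-`r`-th power scalar. -/
def LCond (r n q : ℕ) : Prop :=
  padicValNat r n ≤ padicValNat r (q - 1) ∧ (r = 2 → Even n → q % 4 = 1)

variable [Fintype F] [hr : Fact r.Prime]

theorem ord_eq_one_iff : orderOf (Fintype.card F : ZMod r) = 1 ↔ r ∣ Fintype.card F - 1 := by
  rw [← Nat.dvd_one, ← Fgs2.prime_dvd_pow_sub_one_iff _ _ Fintype.card_pos, pow_one]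

theorem exists_pow_eq_of_not_dvd (h : ¬ r ∣ Fintype.card F - 1) (z : F) : ∃ b, b ^ r = z := by
  classical
  rcases eq_or_ne z 0 with rfl | hz
  · exact ⟨0, zero_pow hr.out.ne_zero⟩
  obtain ⟨b, hb⟩ := (exists_pow_eq_iff (Units.mk0 z hz) r).2 (by
    rw [Nat.card_units, Nat.card_eq_fintype_card, ((Nat.Prime.coprime_iff_not_dvd hr.out).2 h).symm,
      Nat.div_one, ← Fintype.card_units, pow_card_eq_one])
  exact ⟨b, congrArg Units.val hb⟩

theorem eq_one_of_pow_eq_one (h : ¬ r ∣ Fintype.card F - 1) {z : F} (hz : z ^ r = 1) : z = 1 := by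
  have h0 : z ≠ 0 := by rintro rfl; simp [hr.out.ne_zero] at hz
  exact (pow_eq_one_iff_of_coprime ((Nat.Prime.coprime_iff_not_dvd hr.out).2 h)).1
    ⟨hz, FiniteField.pow_card_sub_one_eq_one z h0⟩

theorem exists_nonpow_det (h : r ∣ Fintype.card F - 1) {k : ℕ} (hk : k ≠ 0) :
    (∃ z : F, (∀ b, b ^ r ≠ z) ∧ ((-1) ^ (r + 1) * z) ^ k = 1) ↔
      ¬ LCond r (k * r) (Fintype.card F) := by
  classical
  have h1 := exists_nonpow_iff (C := Fˣ) (r := r) (by rwa [Nat.card_units, Nat.card_eq_fintype_card]) hk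
  have h2 : (∃ z : F, (∀ b, b ^ r ≠ z) ∧ z ^ k = 1) ↔
      ¬ padicValNat r (k * r) ≤ padicValNat r (Fintype.card F - 1) := by
    rw [padicValNat.mul hk hr.out.ne_zero, padicValNat_self, not_le, Nat.lt_succ_iff,
      ← Nat.card_eq_fintype_card, ← Nat.card_units, ← h1]
    refine ⟨fun ⟨z, h2, h3⟩ => ⟨Units.mk0 z fun h4 => h2 0 (by simp [h4, hr.out.ne_zero]),
      fun b hb => h2 b (congrArg Units.val hb), Units.ext h3⟩, fun ⟨z, h2, h3⟩ =>
        ⟨z, fun b hb => h2 (Units.mk0 b fun h4 => ?_) (Units.ext hb), congrArg Units.val h3⟩⟩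
    exact z.ne_zero (by simp [← hb, h4, hr.out.ne_zero])
  rcases hr.out.eq_two_or_odd' with rfl | h3
  · have h3 : Fintype.card F % 2 = 1 := by have := Fintype.card_pos (α := F); omega
    by_cases h4 : IsSquare (-1 : F)
    · have h5 := FiniteField.isSquare_neg_one_iff.1 h4
      obtain ⟨s, hs⟩ := h4
      rw [LCond, and_iff_left fun _ _ => by omega, ← h2]
      have h6 : ∀ z : F, (∀ b, b ^ 2 ≠ z) → ∀ b, b ^ 2 ≠ -z := fun z hz b hb =>
        hz (s * b) (by rw [mul_pow, hb, sq, ← hs]; ring)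
      exact ⟨fun ⟨z, h7, h8⟩ => ⟨-z, h6 z h7, by rw [← h8]; congr 1; ring⟩,
        fun ⟨z, h7, h8⟩ => ⟨-z, h6 z h7, by norm_num [h8]⟩⟩
    · have h5 := FiniteField.isSquare_neg_one_iff.not.1 h4
      exact iff_of_true ⟨-1, fun b hb => h4 ⟨b, by rw [← hb, sq]⟩, by norm_num⟩
        fun h6 => by have := h6.2 rfl (by simp); omega
  · rw [LCond, and_iff_left fun h4 => absurd (h4 ▸ h3) (by decide), ← h2, h3.add_one.neg_one_pow]
    simp only [one_mul]

theorem dvd_of_not_lCond {n q : ℕ} (h : r ∣ q - 1) (hq : 2 ≤ q) (h' : ¬ LCond r n q) : r ∣ n := by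
  by_contra h1
  exact h' ⟨by simp [padicValNat.eq_zero_of_not_dvd h1], fun h2 h3 =>
    (h1 (h2 ▸ h3.two_dvd)).elim⟩

theorem OrdP.cases (h : OrdP r f) : (∃ d : F, d ≠ 0 ∧ (d • f) ^ r = 1) ∨ ∃ (z : F) (k : ℕ),
    z ≠ 0 ∧ (∀ b, b ^ r ≠ z) ∧ f ^ r = algebraMap F _ z ∧ r ∣ Fintype.card F - 1 ∧
      ¬ LCond r (finrank F V) (Fintype.card F) ∧ k * r = finrank F V ∧
        ed f = Multiset.replicate k (X ^ r - C z) := by
  obtain ⟨z, hz⟩ := h.2.1
  have h0 := h.ne_zero hz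
  by_cases h1 : ∃ b, b ^ r = z
  · obtain ⟨b, rfl⟩ := h1
    refine .inl ⟨b⁻¹, inv_ne_zero fun h2 => h0 (by simp [h2, hr.out.ne_zero]), ?_⟩
    rw [_root_.smul_pow, hz, Algebra.algebraMap_eq_smul_one, smul_smul, inv_pow,
      inv_mul_cancel₀ h0, one_smul]
  obtain ⟨k, h2, h3, h4⟩ := ed_of_nonpow hr.out (not_exists.1 h1) hz
  have h5 : r ∣ Fintype.card F - 1 := by_contra fun h5 => h1 (exists_pow_eq_of_not_dvd h5 z)
  have := h.nontrivial
  refine .inr ⟨z, k, h0, not_exists.1 h1, hz, h5, h2 ▸ (exists_nonpow_det h5 ?_).1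
    ⟨z, not_exists.1 h1, h4 ▸ h.1⟩, h2, h3⟩
  rintro rfl
  exact finrank_pos.ne (by simpa using h2)

theorem exists_ordP_nonpow [Nontrivial V] (h : r ∣ Fintype.card F - 1)
    (h' : ¬ LCond r (finrank F V) (Fintype.card F)) : ∃ (f : End F V) (z : F) (k : ℕ),
      OrdP r f ∧ (∀ b, b ^ r ≠ z) ∧ f ^ r = algebraMap F _ z ∧ k * r = finrank F V ∧
        ed f = Multiset.replicate k (X ^ r - C z) := by
  obtain ⟨k, hk⟩ := dvd_of_not_lCond h Fintype.one_lt_card h'
  rw [mul_comm] at hk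
  have hk0 : k ≠ 0 := by rintro rfl; exact finrank_pos.ne' (by simpa using hk)
  obtain ⟨z, h1, h2⟩ := (exists_nonpow_det h hk0).2 (hk ▸ h')
  obtain ⟨f, hf⟩ := exists_end_ed (V := V) (Multiset.replicate k (X ^ r - C z)) (fun a ha =>
    Multiset.eq_of_mem_replicate ha ▸ isPP_of_irreducible (monic_X_pow_sub_C z hr.out.ne_zero)
      (X_pow_sub_C_irreducible_of_prime hr.out h1)) (by simp [hk])
  have h3 : f ^ r = algebraMap F _ z := by
    have := (aeval_eq_zero_iff_ed f (X ^ r - C z)).2 fun a ha =>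
      Multiset.eq_of_mem_replicate (hf ▸ ha) ▸ dvd_rfl
    rwa [map_sub, map_pow, aeval_X, aeval_C, sub_eq_zero] at this
  obtain ⟨k', h4, -, h5⟩ := ed_of_nonpow hr.out h1 h3
  obtain rfl : k' = k := Nat.eq_of_mul_eq_mul_right hr.out.pos (h4.trans hk)
  refine ⟨f, z, k', ⟨h5.trans h2, ⟨z, h3⟩, fun c hc => h1 c ?_⟩, h1, h3, h4, hf⟩
  exact (algebraMap F (End F V)).injective (by rw [map_pow, ← hc, h3])

variable (p : ℕ) [hp : Fact p.Prime] [CharP F p]
include p

theorem isSemisimple_of_pow (hrp : r ≠ p) {z : F} (hz : z ≠ 0) (h : f ^ r = algebraMap F _ z) :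
    f.IsSemisimple :=
  End.isSemisimple_of_squarefree_aeval_eq_zero (separable_X_pow_sub_C' p r z
    (fun h1 => hrp ((Nat.prime_dvd_prime_iff_eq hp.out hr.out).1 h1).symm) hz).squarefree
      (by simp [h])

theorem ed_of_pow_eq_one (hrp : r ≠ p) (h : f ^ r = 1) : ∃ (e : ℕ) (S : Multiset F[X]),
    (∀ π ∈ S, π ∈ facs F r) ∧ e + S.card * orderOf (Fintype.card F : ZMod r) = finrank F V ∧
      ed f = Multiset.replicate e (X - 1) + S ∧ jt f = Multiset.replicate e 1 +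
        Multiset.replicate S.card (orderOf (Fintype.card F : ZMod r)) := by
  obtain ⟨e, h1, h2⟩ := ed_eq_nt f
  have h3 := (pow_eq_one_iff_nt p hr.out hrp f).1 h
  refine ⟨e, _, h3, sum_natDegree_facs p hr.out hrp h3 ▸ h2, h1, ?_⟩
  rw [jt, h1, Multiset.map_add, Multiset.map_replicate, natDegree_X_sub_one,
    Multiset.map_congr rfl fun π hπ => (facs_spec p hr.out hrp).1 π (h3 π hπ), Multiset.map_const']

theorem OrdP.jt_cases (hrp : r ≠ p) (h : OrdP r f) : ∃ g : End F V,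
    (∀ U : Submodule F V, U.map f = U.map g) ∧ g.IsSemisimple ∧ ((∃ e s,
      e + s * orderOf (Fintype.card F : ZMod r) = finrank F V ∧ jt g = Multiset.replicate e 1 +
        Multiset.replicate s (orderOf (Fintype.card F : ZMod r))) ∨
      ∃ k, orderOf (Fintype.card F : ZMod r) = 1 ∧ ¬ LCond r (finrank F V) (Fintype.card F) ∧
        k * r = finrank F V ∧ jt g = Multiset.replicate k r) := by
  rcases h.cases with ⟨d, hd, h1⟩ | ⟨z, k, h1, -, h2, h3, h4, h5, h6⟩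
  · obtain ⟨e, S, -, h2, -, h3⟩ := ed_of_pow_eq_one p hrp h1
    exact ⟨_, fun U => (U.map_smul f d hd).symm, isSemisimple_of_pow p hrp one_ne_zero
      (by rw [h1, map_one]), .inl ⟨e, _, h2, h3⟩⟩
  · exact ⟨f, fun _ => rfl, isSemisimple_of_pow p hrp h1 h2, .inr ⟨k, ord_eq_one_iff.2 h3, h4, h5,
      by simp [jt, h6]⟩⟩

theorem facs_nonempty (hrp : r ≠ p) : ∃ π, π ∈ facs F r := by
  refine Finset.card_pos.1 (Nat.pos_of_ne_zero fun h => ?_)
  have := (facs_spec (F := F) p hr.out hrp).2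
  have := hr.out.two_le
  rw [h] at *; omega

theorem exists_ordP_facs (hrp : r ≠ p) (hi : orderOf (Fintype.card F : ZMod r) ≠ 1)
    {S : Multiset F[X]} (h0 : S ≠ 0) (hS : ∀ π ∈ S, π ∈ facs F r) {e : ℕ}
    (he : e + S.card * orderOf (Fintype.card F : ZMod r) = finrank F V) :
    ∃ f : End F V, OrdP r f ∧ f ^ r = 1 ∧ ed f = Multiset.replicate e (X - 1) + S ∧
      jt f = Multiset.replicate e 1 +
        Multiset.replicate S.card (orderOf (Fintype.card F : ZMod r)) := by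
  obtain ⟨f, h1, rfl⟩ := exists_nt (V := V) p hr.out hrp hS (by omega)
  obtain ⟨e', h2, h3⟩ := ed_eq_nt f
  rw [sum_natDegree_facs p hr.out hrp hS] at h3
  obtain rfl : e' = e := by omega
  have h4 : ∀ π ∈ nt f, π.natDegree = _ := fun π hπ => (facs_spec p hr.out hrp).1 π (hS π hπ)
  refine ⟨f, ⟨eq_one_of_pow_eq_one (ord_eq_one_iff.not.1 hi) (by rw [← map_pow, h1, map_one]),
    ⟨1, by rw [h1, map_one]⟩, fun c hc => ?_⟩, h1, h2, ?_⟩
  · obtain ⟨π, hπ⟩ := Multiset.exists_mem_of_ne_zero h0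
    have h5 := Multiset.mem_map_of_mem natDegree (mem_nt.1 hπ).1
    rw [← jt, jt_eq_replicate_one hc] at h5
    exact hi ((h4 π hπ).symm.trans (Multiset.eq_of_mem_replicate h5))
  · rw [jt, h2, Multiset.map_add, Multiset.map_replicate, natDegree_X_sub_one,
      Multiset.map_congr rfl h4, Multiset.map_const']

theorem exists_ordP_jt (hrp : r ≠ p) (hi : orderOf (Fintype.card F : ZMod r) ≠ 1) {e s : ℕ}
    (hs : s ≠ 0) (he : e + s * orderOf (Fintype.card F : ZMod r) = finrank F V) :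
    ∃ f : End F V, OrdP r f ∧ f.IsSemisimple ∧ jt f = Multiset.replicate e 1 +
      Multiset.replicate s (orderOf (Fintype.card F : ZMod r)) := by
  obtain ⟨π, hπ⟩ := facs_nonempty (F := F) p hrp
  obtain ⟨f, h1, h2, -, h3⟩ := exists_ordP_facs (V := V) p hrp hi (S := Multiset.replicate s π)
    (by simpa [← Multiset.card_eq_zero]) (fun _ h => Multiset.eq_of_mem_replicate h ▸ hπ)
    (by simpa using he)
  exact ⟨f, h1, isSemisimple_of_pow p hrp one_ne_zero (by rw [h2, map_one]), by simpa using h3⟩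

theorem exists_ordP_jt' [Nontrivial V] (hrp : r ≠ p) (hi : orderOf (Fintype.card F : ZMod r) = 1)
    (h : ¬ LCond r (finrank F V) (Fintype.card F)) :
    ∃ (f : End F V) (k : ℕ), OrdP r f ∧ f.IsSemisimple ∧ jt f = Multiset.replicate k r := by
  obtain ⟨f, z, k, h1, -, h2, -, h3⟩ := exists_ordP_nonpow (ord_eq_one_iff.1 hi) h
  exact ⟨f, k, h1, isSemisimple_of_pow p hrp (h1.ne_zero h2) h2, by simp [jt, h3]⟩

/-! ### Unipotent elements -/

omit hr in
theorem OrdP.exists_unip (h : OrdP p f) : ∃ d : F, d ≠ 0 ∧ IsNilpotent (d • f - 1) ∧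
    (∀ a ∈ jt (d • f), a ≤ p) := by
  have h1 : ¬ p ∣ Fintype.card F - 1 := fun h1 => hp.out.one_lt.ne' (Nat.dvd_one.1
    ((Nat.dvd_sub_iff_right Fintype.card_pos (char_dvd_card p)).1 h1))
  rcases h.cases with ⟨d, hd, h2⟩ | ⟨z, k, -, -, -, h2, -⟩
  · have h3 := (pow_char_pow_eq_one_iff (F := F) p (d • f) 1).1 (by rwa [pow_one])
    exact ⟨d, hd, ⟨_, h3⟩, (unip_pow_eq_zero_iff ⟨_, h3⟩ p).1 (by rwa [pow_one] at h3)⟩
  · exact (h1 h2).elim

omit hr [Fintype F] in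
theorem exists_ordP_unip {μ : Multiset ℕ} (h : ∀ a ∈ μ, 0 < a ∧ a ≤ p) (h1 : ∃ a ∈ μ, a ≠ 1)
    (hs : μ.sum = finrank F V) : ∃ f : End F V, OrdP p f ∧ f ^ p = 1 ∧ IsNilpotent (f - 1) ∧
      jt f = μ := by
  obtain ⟨f, h2, rfl⟩ := exists_unip (F := F) (V := V) μ (fun a ha => (h a ha).1) hs
  have h3 : f ^ p = 1 := by
    simpa using (pow_char_pow_eq_one_iff (F := F) p f 1).2 (by
      rw [pow_one]; exact (unip_pow_eq_zero_iff h2 p).2 fun a ha => (h a ha).2)
  refine ⟨f, ⟨by simpa using det_of_nilpotent_sub (g := f) one_ne_zero (by rwa [map_one]),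
    ⟨1, by rw [h3, map_one]⟩, fun c hc => ?_⟩, h3, h2, rfl⟩
  obtain ⟨a, ha, h4⟩ := h1
  exact h4 (Multiset.eq_of_mem_replicate (jt_eq_replicate_one hc ▸ ha))

end CF.Classical
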