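/-
Elements of prime order of `PSL` fixing subspaces, pairs and flags.
-/
import Cfsg.Agent.Classical.EluC

set_option autoImplicit false

namespace CF.Classical

open Module CF.Cls Polynomial Multiset

theorem exists_le_sum_iff {e s i m : ℕ} : (∃ ν ≤ replicate e 1 + replicate s i, ν.sum = m) ↔
    ∃ e' ≤ e, ∃ s' ≤ s, e' + s' * i = m :=
  ⟨fun ⟨ν, h, h'⟩ => by
    obtain ⟨e', h1, s', h2, rfl⟩ := le_replicate_add.1 h
    exact ⟨e', h1, s', h2, by simpa using h'⟩,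
  fun ⟨e', h1, s', h2, h⟩ => ⟨_, le_replicate_add.2 ⟨e', h1, s', h2, rfl⟩, by simpa using h⟩⟩

theorem exists_le_sum_of {e s i m : ℕ} (h : m ≤ e + s * i) (h' : m % i ≤ e) :
    ∃ ν ≤ replicate e 1 + replicate s i, ν.sum = m := by
  have := Nat.div_add_mod' m i
  rcases le_total s (m / i) with h1 | h1
  · have := Nat.mul_le_mul_right i h1
    exact exists_le_sum_iff.2 ⟨m - s * i, by omega, s, le_rfl, by omega⟩
  · exact exists_le_sum_iff.2 ⟨m % i, h', m / i, h1, by omega⟩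

theorem mod_eq_of_add_mul {e s i n : ℕ} (h : e + s * i = n) : n % i = e % i := by
  rw [← h, Nat.add_mul_mod_self_right]

theorem mod_le_of_dvd {i j n : ℕ} (h : i ∣ j) (h' : j ≤ n) : n % i ≤ n - j := by
  obtain ⟨k, rfl⟩ := h
  rw [mod_eq_of_add_mul (e := n - i * k) (s := k) (by rw [mul_comm k]; omega)]
  exact Nat.mod_le _ _

theorem exists_le_two_iff {e s i m : ℕ} (hi : i ≠ 1) : (∃ ν ν', ν + ν' ≤ replicate e 1 +
    replicate s i ∧ ν.sum = m ∧ ν'.sum = m) ↔ ∃ e₁ e₂ s₁ s₂, e₁ + e₂ ≤ e ∧ s₁ + s₂ ≤ s ∧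
      e₁ + s₁ * i = m ∧ e₂ + s₂ * i = m := by
  refine ⟨fun ⟨ν, ν', h, h1, h2⟩ => ?_, fun ⟨e₁, e₂, s₁, s₂, h1, h2, h3, h4⟩ =>
    ⟨replicate e₁ 1 + replicate s₁ i, replicate e₂ 1 + replicate s₂ i, le_replicate_add.2
      ⟨_, h1, _, h2, by simp only [replicate_add]; abel⟩, by simpa using h3, by simpa using h4⟩⟩
  obtain ⟨e₁, -, s₁, -, rfl⟩ := le_replicate_add.1 ((le_add_right _ _).trans h)
  obtain ⟨e₂, -, s₂, -, rfl⟩ := le_replicate_add.1 ((le_add_left _ _).trans h)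
  exact ⟨e₁, e₂, s₁, s₂, by simpa [count_replicate, hi] using count_le_of_le 1 h,
    by simpa [count_replicate, hi.symm] using count_le_of_le i h, by simpa using h1,
    by simpa using h2⟩

theorem exists_le_two_of {e s i m : ℕ} (hi : i ≠ 1) (h : 2 * m ≤ e + s * i) (h' : 2 * (m % i) ≤ e) :
    ∃ ν ν', ν + ν' ≤ replicate e 1 + replicate s i ∧ ν.sum = m ∧ ν'.sum = m := by
  have := Nat.div_add_mod' m i
  rw [exists_le_two_iff hi]
  rcases le_total s (m / i) with h1 | h1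
  · have := Nat.mul_le_mul_right i h1
    exact ⟨m - s * i, m, s, 0, by omega, le_rfl, by omega, by omega⟩
  obtain ⟨s, rfl⟩ := Nat.exists_eq_add_of_le h1
  rw [add_mul] at h
  rcases le_total s (m / i) with h1 | h1
  · have := Nat.mul_le_mul_right i h1
    exact ⟨m % i, m - s * i, m / i, s, by omega, le_rfl, by omega, by omega⟩
  · exact ⟨m % i, m % i, m / i, m / i, by omega, by omega, by omega, by omega⟩

theorem dvd_sum_of_le {k r : ℕ} {ν : Multiset ℕ} (h : ν ≤ replicate k r) : r ∣ ν.sum :=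
  dvd_sum fun _ ha => (eq_of_mem_replicate (mem_of_le h ha)).symm.dvd

variable {F V : Type*} [Field F] [Fintype F] [AddCommGroup V] [Module F V] [FiniteDimensional F V]
  (p : ℕ) [hp : Fact p.Prime] [CharP F p] {r : ℕ} [hr : Fact r.Prime]
include p

theorem ne_char_of_dvd {j : ℕ} (hj : 0 < j) (h : r ∣ Fintype.card F ^ j - 1) : r ≠ p := by
  rintro rfl
  exact hp.out.one_lt.ne' (Nat.dvd_one.1 ((Nat.dvd_sub_iff_right (pow_pos Fintype.card_pos _)
    ((char_dvd_card r).trans (dvd_pow_self _ hj.ne'))).1 h))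

theorem forall_ordP_iff [Nontrivial V] (hrp : r ≠ p) {P : End F V → Prop} {Q : Multiset ℕ → Prop}
    (hP : ∀ f g : End F V, (∀ U : Submodule F V, U.map f = U.map g) → g.IsSemisimple →
      (P f ↔ Q (jt g))) (h1 : Q (replicate (finrank F V) 1)) :
    (∀ f, OrdP r f → P f) ↔ (orderOf (Fintype.card F : ZMod r) = 1 ∧ ∀ k, k * r = finrank F V →
      ¬ LCond r (finrank F V) (Fintype.card F) → Q (replicate k r)) ∨
        (orderOf (Fintype.card F : ZMod r) ≠ 1 ∧ ∀ e s, s ≠ 0 →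
          e + s * orderOf (Fintype.card F : ZMod r) = finrank F V →
            Q (replicate e 1 + replicate s (orderOf (Fintype.card F : ZMod r)))) := by
  refine ⟨fun h => (em _).imp (fun hi => ⟨hi, fun k hk hc => ?_⟩) fun hi => ⟨hi, fun e s hs he => ?_⟩,
    fun h f hf => ?_⟩
  · obtain ⟨f, k', h2, h3, h4⟩ := exists_ordP_jt' p hrp hi hc
    have h5 := jt_sum f
    rw [h4, sum_replicate, smul_eq_mul, ← hk] at h5
    exact Nat.eq_of_mul_eq_mul_right hr.out.pos h5 ▸ h4 ▸ (hP f f (fun _ => rfl) h3).1 (h f h2)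
  · obtain ⟨f, h2, h3, h4⟩ := exists_ordP_jt p hrp hi hs he
    exact h4 ▸ (hP f f (fun _ => rfl) h3).1 (h f h2)
  obtain ⟨g, h2, h3, ⟨e, s, h4, h5⟩ | ⟨k, h4, h5, h6, h7⟩⟩ := hf.jt_cases p hrp <;>
    rw [hP f g h2 h3]
  · rcases h with ⟨hi, -⟩ | ⟨-, h⟩
    · rw [hi, mul_one] at h4
      rwa [h5, hi, ← replicate_add, h4]
    · rcases eq_or_ne s 0 with rfl | hs
      · rwa [h5, replicate_zero, add_zero, (by simpa using h4 : e = _)]
      · exact h5 ▸ h e s hs h4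
  · exact h7 ▸ (h.resolve_right fun h => h.1 h4).2 k h6 h5

theorem forall_ordP_sub_iff (hrp : r ≠ p) {m j : ℕ} (hm : m ≤ finrank F V) (h0 : 0 < j)
    (h1 : finrank F V - m < j) (h2 : j ≤ finrank F V) (h3 : r ∣ Fintype.card F ^ j - 1)
    {P : End F V → Prop} (hP : ∀ f g : End F V, (∀ U : Submodule F V, U.map f = U.map g) →
      g.IsSemisimple → (P f ↔ ∃ ν ≤ jt g, ν.sum = m)) :
    (∀ f, OrdP r f → P f) ↔ (orderOf (Fintype.card F : ZMod r) = 1 ∧
      (r ∣ m ∨ LCond r (finrank F V) (Fintype.card F))) ∨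
        (2 ≤ orderOf (Fintype.card F : ZMod r) ∧ orderOf (Fintype.card F : ZMod r) ≤ m ∧
          m % orderOf (Fintype.card F : ZMod r) ≤ finrank F V % orderOf (Fintype.card F : ZMod r)) := by
  have : Nontrivial V := finrank_pos_iff.1 (h0.trans_le h2)
  have h4 := orderOf_card_pos (F := F) p hr.out hrp
  rw [forall_ordP_iff p hrp (Q := fun μ => ∃ ν ≤ μ, ν.sum = m) hP
    ⟨replicate m 1, (replicate_le_replicate _).2 hm, by simp⟩]
  rw [Fgs2.prime_dvd_pow_sub_one_iff _ _ Fintype.card_pos] at h3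
  refine or_congr (and_congr_right fun hi => ⟨fun h => or_iff_not_imp_right.2 fun hc => ?_,
    fun h k hk hc => ?_⟩) ?_
  · obtain ⟨k, hk⟩ := dvd_of_not_lCond (ord_eq_one_iff.1 hi) Fintype.one_lt_card hc
    obtain ⟨ν, h5, rfl⟩ := h k (by rw [hk, mul_comm]) hc
    exact dvd_sum_of_le h5
  · obtain ⟨l, rfl⟩ := h.resolve_right hc
    exact ⟨replicate l r, (replicate_le_replicate _).2 (Nat.le_of_mul_le_mul_right
      (by rwa [hk, mul_comm]) hr.out.pos), by simp [mul_comm]⟩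
  generalize orderOf (Fintype.card F : ZMod r) = i at *
  refine ⟨fun ⟨hi, h⟩ => ?_, fun ⟨hi, h5, h6⟩ => ⟨by omega, fun e s _ he => exists_le_sum_of
    (he ▸ hm) (h6.trans (mod_eq_of_add_mul he ▸ Nat.mod_le _ _))⟩⟩
  have h5 := Nat.le_of_dvd h0 h3
  obtain ⟨e, h6, s, -, rfl⟩ := exists_le_sum_iff.1
    (h _ _ (Nat.div_pos (h5.trans h2) h4).ne' (Nat.mod_add_div' _ _))
  have h7 := mod_le_of_dvd h3 h2
  refine ⟨by omega, ?_, by rw [mod_eq_of_add_mul rfl]; exact (Nat.mod_le _ _).trans h6⟩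
  rcases s with _ | s
  · omega
  · rw [add_mul]; omega

end CF.Classical
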