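/-
Conjugacy into subgroups of `GL`; eigenvalue multisets of elements of prime order of `PSL`.
-/
import Cfsg.Agent.Classical.EluD
import Cfsg.Agent.Cls.Ev2
import Cfsg.Agent.Cls.Rep
import Cfsg.Prelude.Def_GeometricClasses

set_option autoImplicit false

namespace CF.Classical

open Module CF.Cls Polynomial Matrix.SpecialLinearGroup

theorem relIndex_dvd_index {G : Type*} [Group G] [Finite G] (H N : Subgroup G) [N.Normal] :
    H.relIndex N ∣ H.index := by
  obtain ⟨t, ht⟩ := N.relIndex_dvd_index_of_normal H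
  have h1 := Subgroup.relIndex_mul_index (inf_le_left : H ⊓ N ≤ H)
  rw [← Subgroup.relIndex_mul_index (inf_le_right : H ⊓ N ≤ N), Subgroup.inf_relIndex_left,
    Subgroup.inf_relIndex_right, ht, mul_left_comm] at h1
  exact ⟨t, Nat.eq_of_mul_eq_mul_left (Nat.pos_of_ne_zero Subgroup.FiniteIndex.index_ne_zero) h1⟩

variable {F : Type*} [Field F]

section conj

variable {ι : Type} [Fintype ι] [DecidableEq ι] {H : Subgroup (GL ι F)} {f : End F (ι → F)}

local notation "SLG" => Matrix.SpecialLinearGroup ι F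

/-- `f` is similar to an element of `H`. -/
def InC (H : Subgroup (GL ι F)) (f : End F (ι → F)) : Prop :=
  ∃ y ∈ H, Sim (Matrix.toLin' (y : Matrix ι ι F)) f

theorem inC_of_conj {x P : SLG} (h : P⁻¹ * x * P ∈ H.comap (toGL : SLG →* GL ι F)) :
    InC H (Matrix.toLin' (x : Matrix ι ι F)) :=
  ⟨_, h, (isConj_iff_sim _ _).1 (isConj_matrix_of_SL (u := P⁻¹ * x * P) (v := x)
    (isConj_iff.2 ⟨P, by group⟩))⟩

theorem exists_conj_mem {x : SLG} (h : InC H (Matrix.toLin' (x : Matrix ι ι F)))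
    (hd : ∀ c : Fˣ, ∃ k ∈ H, c * Matrix.GeneralLinearGroup.det k ∈
      detC (Matrix.toLin' (x : Matrix ι ι F))) :
    ∃ P : SLG, P⁻¹ * x * P ∈ H.comap (toGL : SLG →* GL ι F) := by
  obtain ⟨y, hy, h⟩ := h
  obtain ⟨g, hg⟩ := isConj_iff.1 ((isConj_GL_iff_sim y (toGL x)).2 h)
  obtain ⟨k, hk, h1⟩ := hd (Matrix.GeneralLinearGroup.det g)
  obtain ⟨c, hc, h2⟩ := (map_det_centralizer (toGL x)).ge h1
  have h3 : Matrix.GeneralLinearGroup.det (c⁻¹ * g * k) = 1 := by
    rw [map_mul, map_mul, map_inv, h2]; group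
  obtain ⟨P, h4⟩ : ∃ P : SLG, toGL P = c⁻¹ * g * k :=
    ⟨⟨(c⁻¹ * g * k : GL ι F), congrArg Units.val h3⟩, Units.ext rfl⟩
  refine ⟨P, Subgroup.mem_comap.2 ?_⟩
  rw [map_mul, map_mul, map_inv, h4]
  have h5 : c * toGL x * c⁻¹ = g * y * g⁻¹ := by
    rw [hg, Subgroup.mem_centralizer_singleton_iff.1 hc]; group
  convert H.mul_mem (H.mul_mem (H.inv_mem hk) hy) hk using 1
  calc _ = k⁻¹ * g⁻¹ * (c * toGL x * c⁻¹) * g * k := by group
    _ = _ := by rw [h5]; group

theorem forall_conj_iff {r : ℕ} (h : ∀ f : End F (ι → F), OrdP r f → detC f = ⊤) :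
    (∀ x : SLG, (∃ c : F, ((x ^ r : SLG) : Matrix ι ι F) = c • (1 : Matrix ι ι F)) →
      (∀ c : F, (x : Matrix ι ι F) ≠ c • (1 : Matrix ι ι F)) →
        ∃ P : SLG, P⁻¹ * x * P ∈ H.comap (toGL : SLG →* GL ι F)) ↔ ∀ f, OrdP r f → InC H f := by
  rw [← forall_SL_iff]
  refine forall_congr' fun x => forall_congr' fun h1 => forall_congr' fun h2 =>
    ⟨fun ⟨P, hP⟩ => inC_of_conj hP, fun h3 => exists_conj_mem h3 fun c => ⟨1, one_mem _, ?_⟩⟩
  rw [h _ ((ordP_toLin' r x).2 ⟨h1, h2⟩)]; trivial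

theorem exists_not_conj {r : ℕ} (h : OrdP r f) (h' : ¬ InC H f) :
    ∃ x : SLG, (∃ c : F, ((x ^ r : SLG) : Matrix ι ι F) = c • (1 : Matrix ι ι F)) ∧
      (∀ c : F, (x : Matrix ι ι F) ≠ c • (1 : Matrix ι ι F)) ∧
        ∀ P : SLG, P⁻¹ * x * P ∉ H.comap (toGL : SLG →* GL ι F) := by
  obtain ⟨x, rfl⟩ := h.exists_SL
  exact ⟨x, ((ordP_toLin' r x).1 h).1, ((ordP_toLin' r x).1 h).2, fun P hP => h' (inC_of_conj hP)⟩

theorem range_toGL : (toGL : SLG →* GL ι F).range = Cfsg.Geo.specialLinear ι F := by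
  ext g
  exact ⟨by rintro ⟨x, rfl⟩; exact Units.ext x.2,
    fun h => ⟨⟨g, congrArg Units.val h⟩, Units.ext rfl⟩⟩

theorem forall_specialLinear_iff {r : ℕ} : (∀ x ∈ Cfsg.Geo.specialLinear ι F,
    (∃ c : F, ((x ^ r : GL ι F) : Matrix ι ι F) = c • (1 : Matrix ι ι F)) →
      (∀ c : F, (x : Matrix ι ι F) ≠ c • (1 : Matrix ι ι F)) →
        ∃ g ∈ Cfsg.Geo.specialLinear ι F, g⁻¹ * x * g ∈ H) ↔
    ∀ x : SLG, (∃ c : F, ((x ^ r : SLG) : Matrix ι ι F) = c • (1 : Matrix ι ι F)) →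
      (∀ c : F, (x : Matrix ι ι F) ≠ c • (1 : Matrix ι ι F)) →
        ∃ P : SLG, P⁻¹ * x * P ∈ H.comap (toGL : SLG →* GL ι F) := by
  simp only [← range_toGL, MonoidHom.mem_range, forall_exists_index, forall_apply_eq_imp_iff,
    exists_exists_eq_and, Subgroup.mem_comap, map_mul, map_inv, ← map_pow, coe_GL_coe_matrix]

theorem index_mul_card_dvd [Finite F] {H₀ : Subgroup (GL ι F)} (h : H₀ ≤ H) :
    H.relIndex (Cfsg.Geo.specialLinear ι F) * Nat.card H₀ ∣ Nat.card (GL ι F) := by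
  have : (Cfsg.Geo.specialLinear ι F).Normal := MonoidHom.normal_ker _
  rw [← H.index_mul_card]
  exact mul_dvd_mul (relIndex_dvd_index _ _) (Subgroup.card_dvd_of_le h)

theorem index_comap_toGL : (H.comap (toGL : SLG →* GL ι F)).index =
    H.relIndex (Cfsg.Geo.specialLinear ι F) := by
  rw [Subgroup.index_comap, range_toGL]

theorem InC.of_sim {g : End F (ι → F)} (h : InC H f) (h' : Sim f g) : InC H g :=
  let ⟨y, hy, h⟩ := h; ⟨y, hy, h.trans h'⟩

theorem InC.of_smul (hH : Cfsg.Geo.scalars ι F ≤ H) {c : F} (hc : c ≠ 0) (h : InC H (c • f)) :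
    InC H f := by
  obtain ⟨y, hy, e, he⟩ := h
  refine ⟨_, H.mul_mem (hH ⟨(Units.mk0 c hc)⁻¹, rfl⟩) hy, e, fun v => ?_⟩
  have := congrArg (c⁻¹ • ·) (he v)
  simp only [LinearMap.smul_apply, smul_smul, inv_mul_cancel₀ hc, one_smul, ← map_smul] at this
  rw [← this]
  simp [← Matrix.mulVec_mulVec]

end conj

variable {V W : Type*} [AddCommGroup V] [Module F V] [FiniteDimensional F V] [AddCommGroup W]
  [Module F W] [FiniteDimensional F W] {r : ℕ} {f : End F V}

omit [FiniteDimensional F V] in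
theorem detC_smul {c : F} (hc : c ≠ 0) (f : End F V) : detC (c • f) = detC f := by
  rw [detC, detC]
  congr 1
  ext g
  simp [mem_CG, hc]

variable [Fintype F] (p : ℕ) [hp : Fact p.Prime] [CharP F p]

include p in
theorem OrdP.detC_eq_top [hr : Fact r.Prime] (h : OrdP r f) (hrp : r = 2 ∨ r ≠ p) :
    detC f = ⊤ := by
  have := h.nontrivial
  rcases eq_or_ne r p with rfl | h1
  · obtain rfl := hrp.resolve_right (by simp)
    obtain ⟨d, hd, -, h1⟩ := h.exists_unip 2
    obtain ⟨a, ha⟩ := Multiset.exists_mem_of_ne_zero (mt Multiset.map_eq_zero.1 (ed_ne_zero (d • f)))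
    rw [← detC_smul hd]
    obtain rfl | rfl : a = 1 ∨ a = 2 := by have := h1 a ha; have := jt_pos _ a ha; omega
    · exact detC_eq_top_of_one_mem ha
    · refine eq_top_iff.2 fun c _ => ?_
      obtain ⟨b, hb⟩ := FiniteField.isSquare_of_char_two (ringChar.eq F 2) (c : F)
      have h0 : b ≠ 0 := by rintro rfl; simp at hb
      exact (Units.ext (hb.trans (sq b).symm) : c = Units.mk0 b h0 ^ 2) ▸ pow_mem_detC ha _
  · obtain ⟨z, hz⟩ := h.2.1
    exact SS.detC_eq_top (ss_of_squarefree (separable_X_pow_sub_C' p r z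
      (fun h2 => h1 ((Nat.prime_dvd_prime_iff_eq hp.out hr.out).1 h2).symm)
        (h.ne_zero hz)).squarefree (by simp [hz]))

/-! ### Eigenvalues -/

variable (K : Type*) [Field K] [Algebra F K]

/-- The eigenvalues of `f` in `K`, with algebraic multiplicities. -/
noncomputable def eig (f : End F V) : Multiset Kˣ := rU K f.charpoly

/-- The inclusion of units. -/
noncomputable abbrev uK : Fˣ →* Kˣ := Units.map (algebraMap F K : F →* K)

omit [Fintype F] in
theorem uK_injective : Function.Injective (uK K : Fˣ → Kˣ) :=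
  Units.map_injective (algebraMap F K).injective

theorem uK_zpow_card (c : Fˣ) : uK K c ^ (Nat.card F : ℤ) = uK K c := by
  rw [zpow_natCast, ← map_pow, Nat.card_eq_fintype_card]
  exact congrArg _ (Units.ext (FiniteField.pow_card _))

variable {K}

theorem exists_uK {c : Kˣ} (h : c ^ (Nat.card F : ℤ) = c) : ∃ d : Fˣ, uK K d = c := by
  obtain ⟨a, ha⟩ := exists_algebraMap_eq (F := F) (c := (c : K)) (by
    rw [zpow_natCast] at h; exact congrArg Units.val h)
  exact ⟨Units.mk0 a (by rintro rfl; exact c.ne_zero (by simp [← ha])), Units.ext ha⟩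

omit [Fintype F] in
theorem Sim.eig_eq {g : End F W} (h : Sim f g) : eig K f = eig K g := by
  rw [eig, h.charpoly_eq, eig]

variable [IsAlgClosed K]

omit [Fintype F] in
theorem card_eig (f : End F V) : (eig K f).card = finrank F V := by
  rw [eig, card_rU, LinearMap.charpoly_natDegree]

theorem eig_eq_bind (hf : IsUnit f) :
    eig K f = (ev K f).bind fun x => Multiset.replicate x.2 x.1 := by
  rw [eig, rU, aroots, charpoly_map_ev hf, roots_multiset_prod _ fun h => by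
    obtain ⟨x, -, hx⟩ := Multiset.mem_map.1 h
    exact pow_ne_zero _ (X_sub_C_ne_zero _) hx, Multiset.bind_map, Multiset.map_bind]
  simp [Multiset.nsmul_singleton]

theorem eig_eq_map {g : End F W} (hf : IsUnit f) (hg : IsUnit g) (φ : Kˣ → Kˣ)
    (h : ev K g = (ev K f).map fun x => (φ x.1, x.2)) : eig K g = (eig K f).map φ := by
  simp [eig_eq_bind hf, eig_eq_bind hg, h, Multiset.bind_map, Multiset.map_bind]

theorem sim_of_eig {g : End F W} (hf : IsUnit f) (hg : IsUnit g) (hs : SS f) (hs' : SS g)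
    (h : eig K f = eig K g) : Sim f g := by
  refine hs.sim hs' (map_injective _ (algebraMap F K).injective ?_)
  rw [map_eq_prod_rU f.charpoly_monic (mt X_dvd_iff.2 ((isUnit_iff_charpoly f).1 hf)),
    map_eq_prod_rU g.charpoly_monic (mt X_dvd_iff.2 ((isUnit_iff_charpoly g).1 hg)), ← eig, h, eig]

variable [Algebra.IsAlgebraic F K]
include p

theorem eig_smul (hf : IsUnit f) (c : Fˣ) : eig K ((c : F) • f) = (eig K f).map (· * uK K c) :=
  eig_eq_map hf (hf.smul c) _ (ev_smul p hf c)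

theorem eig_stable (hf : IsUnit f) : (eig K f).map (· ^ (Nat.card F : ℤ)) = eig K f :=
  (eig_eq_map hf hf _ (adm_ev' p hf).st.symm).symm

theorem prod_eig (hf : IsUnit f) : ((eig K f).prod : Kˣ) = algebraMap F K (LinearMap.det f) := by
  rw [det_eq_dt p hf, eig_eq_bind hf, Multiset.prod_bind, dt]; simp

theorem pow_of_mem_eig (hf : IsUnit f) {m : ℕ} {c : F} (h : f ^ m = algebraMap F _ c) {x : Kˣ}
    (hx : x ∈ eig K f) : (x : K) ^ m = algebraMap F K c := by
  rw [eig_eq_bind hf] at hx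
  obtain ⟨y, hy, h1⟩ := Multiset.mem_bind.1 hx
  exact Multiset.eq_of_mem_replicate h1 ▸ ((pow_eq_iff_ev p hf m c).1 h y hy).1

theorem ev_eq_of_pow (hf : IsUnit f) {m : ℕ} (hm : ¬ p ∣ m) {c : F}
    (h : f ^ m = algebraMap F _ c) : ev K f = (eig K f).map (·, 1) := by
  rw [eig_eq_bind hf, Multiset.map_bind]
  refine (Multiset.bind_singleton _ id).trans (Multiset.map_id _) |>.symm.trans
    (Multiset.bind_congr fun x hx => ?_)
  have h1 : Nat.clog p x.2 = 0 := by_contra fun h1 =>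
    hm ((dvd_pow_self p h1).trans ((pow_eq_iff_ev p hf m c).1 h x hx).2)
  have h2 := (adm_ev' p hf).pos x hx
  have h3 : x.2 = 1 := by
    by_contra h3
    exact (Nat.clog_pos hp.out.one_lt (by omega)).ne' h1
  rw [h3, Multiset.replicate_one, Multiset.map_singleton, ← h3]; rfl

theorem exists_eig {J : Multiset Kˣ} (h : J.map (· ^ (Nat.card F : ℤ)) = J)
    (hc : J.card = finrank F V) : ∃ f : End F V, IsUnit f ∧ ev K f = J.map (·, 1) ∧ eig K f = J ∧
      ∀ m c, (∀ x ∈ J, (x : K) ^ m = algebraMap F K c) → f ^ m = algebraMap F _ c := by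
  obtain ⟨f, h1, h2⟩ := exists_ev (F := F) (V := V) p (J := J.map (·, 1)) ⟨by simp, by simp [dm, hc], by
    rw [St, Multiset.map_map]; conv_rhs => rw [← h, Multiset.map_map]
    rfl⟩
  refine ⟨f, h1, h2, by
    simpa [eig_eq_bind h1, h2, Multiset.bind_map] using Multiset.bind_singleton J id, fun m c hm =>
    (pow_eq_iff_ev (K := K) p h1 m c).2 ?_⟩
  simpa [h2] using hm

theorem exists_ordP_eig {J : Multiset Kˣ} (h : J.map (· ^ (Nat.card F : ℤ)) = J)
    (hc : J.card = finrank F V) (h1 : J.prod = 1) {c : F}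
    (h2 : ∀ x ∈ J, (x : K) ^ r = algebraMap F K c) {x y : Kˣ} (hx : x ∈ J) (hy : y ∈ J)
    (hxy : x ≠ y) : ∃ f : End F V, OrdP r f ∧ f ^ r = algebraMap F _ c ∧ eig K f = J := by
  obtain ⟨f, h3, -, rfl, h4⟩ := exists_eig (V := V) p h hc
  refine ⟨f, ⟨(algebraMap F K).injective (by rw [← prod_eig p h3, h1, map_one, Units.val_one]),
    ⟨c, h4 r c h2⟩, fun d hd => hxy (Units.ext ?_)⟩, h4 r c h2, rfl⟩
  rw [← pow_one f] at hd
  simpa using (pow_of_mem_eig p h3 hd hx).trans (pow_of_mem_eig p h3 hd hy).symm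

end CF.Classical
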