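/-
Elements of odd prime order of `PSL` whose eigenvalues have no twisted symmetry.
-/
import Cfsg.Agent.Classical.EluE

set_option autoImplicit false

namespace CF.Classical

open Module CF.Cls Multiset

section comb

variable {A : Type*} [CommGroup A]

/-- Stability under `x ↦ c * x ^ a`. -/
def Sy (a : ℤ) (c : A) (J : Multiset A) : Prop := J.map (fun x => c * x ^ a) = J

theorem Sy.mem {a : ℤ} {c : A} {J : Multiset A} (h : Sy a c J) {x : A} (hx : x ∈ J) :
    c * x ^ a ∈ J := h ▸ mem_map_of_mem _ hx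

theorem sy_of_map_mul {a : ℤ} {d : A} {J : Multiset A}
    (h : (J.map (· * d)).map (· ^ a) = J.map (· * d)) : Sy a (d ^ (a - 1)) J := by
  refine map_injective (mul_left_injective d) (Eq.trans ?_ h)
  simp only [Multiset.map_map]
  exact map_congr rfl fun x _ => by
    simp only [Function.comp_apply, mul_zpow, zpow_sub_one]
    rw [mul_right_comm, inv_mul_cancel_right, mul_comm]

theorem not_sy_one {a : ℤ} {w d c : A} {r m : ℕ} (hw : orderOf w = r) (ha : ¬ (r : ℤ) ∣ a - 1)
    (hm : m ≠ 0) (h2 : m = 1 → ¬ (r : ℤ) ∣ a + 1) : ¬ Sy a c ((d * w) ::ₘ replicate m d) := by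
  intro h
  rw [Sy, map_cons, map_replicate, mul_zpow, ← mul_assoc] at h
  rw [← hw, orderOf_dvd_iff_zpow_eq_one] at ha h2
  generalize c * d ^ a = e at h
  rcases cons_eq_cons.1 h with ⟨h1, h3⟩ | ⟨-, s, h3, h4⟩
  · obtain rfl := replicate_right_injective hm h3
    exact ha (by rw [zpow_sub_one, mul_left_cancel h1, mul_inv_cancel])
  have h5 := eq_of_mem_replicate (h3 ▸ mem_cons_self _ _)
  have h6 := eq_of_mem_replicate (h4 ▸ mem_cons_self _ _)
  rcases eq_or_ne s 0 with rfl | h7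
  · refine h2 (by simpa using congrArg card h3) (mul_left_cancel (a := d) ?_)
    rw [zpow_add_one, mul_comm _ w, ← mul_assoc, h5, h6, mul_one]
  obtain ⟨x, hx⟩ := exists_mem_of_ne_zero h7
  obtain rfl := (eq_of_mem_replicate (h3 ▸ mem_cons_of_mem hx)).symm.trans
    (eq_of_mem_replicate (h4 ▸ mem_cons_of_mem hx))
  exact ha (by rw [mul_eq_left.1 h5, one_zpow])

theorem not_sy_three {a : ℤ} {w c : A} {r m : ℕ} (hw : orderOf w = r) (ha : ¬ (r : ℤ) ∣ a - 1)
    (hm : 4 ≤ m) : ¬ Sy a c (replicate m 1 + {w, w, w⁻¹ ^ 2}) := by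
  classical
  intro h
  rw [Sy, Multiset.map_add, map_replicate, one_zpow, mul_one] at h
  obtain rfl : c = 1 := by_contra fun hc => by
    have h1 := congrArg (count c) h
    have h2 := count_le_card c {w, w, w⁻¹ ^ 2}
    simp only [count_add, count_replicate_self, count_replicate, Ne.symm hc, if_false] at h1
    simp only [insert_eq_cons, card_cons, card_singleton] at h2 h1
    omega
  have h1 := congrArg (count (w ^ a)) (add_left_cancel h)
  have h2 : w ^ a ≠ w := fun h2 => ha (by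
    rw [← hw, orderOf_dvd_iff_zpow_eq_one, zpow_sub_one, h2, mul_inv_cancel])
  simp only [insert_eq_cons, map_cons, one_mul, count_cons_self, count_cons_of_ne h2] at h1
  have := count_le_card (w ^ a) {w⁻¹ ^ 2}
  rw [card_singleton] at this
  omega

theorem zmod_sym {r : ℕ} (h : r = 3 ∨ r = 5) {s : Multiset (ZMod r)} (h1 : s.card = r)
    (h2 : s.sum = 0) : ∃ t, s.map (fun x => -(x + t)) = s.map (· + t) := by
  rcases h with rfl | rfl
  · obtain ⟨a, b, c, rfl⟩ := card_eq_three.1 h1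
    revert a b c; decide +kernel
  · obtain ⟨a, ha⟩ := card_pos_iff_exists_mem.1 (by omega : 0 < card s)
    obtain ⟨s, rfl⟩ := exists_cons_of_mem ha
    obtain ⟨b, c, d, e, rfl⟩ := card_eq_four.1 (by simpa using h1 : card s = 4)
    clear h1 ha
    revert a b c d e; decide +kernel

theorem exists_sym_of_pow {r : ℕ} (h : r = 3 ∨ r = 5) {w : A} (hw : orderOf w = r)
    {J : Multiset A} (hJ : ∀ x ∈ J, ∃ k : ℕ, x = w ^ k) (h1 : J.card = r) (h2 : J.prod = 1) :
    ∃ t : ℕ, (J.map (· * w ^ t)).map (·⁻¹) = J.map (· * w ^ t) := by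
  have : NeZero r := ⟨by omega⟩
  let e : Multiplicative (ZMod r) →* A := AddMonoidHom.toMultiplicativeLeft
    (ZMod.lift r ⟨zmultiplesHom _ (Additive.ofMul w), by
      simp [← ofMul_pow, ← hw, pow_orderOf_eq_one]⟩)
  have he : ∀ k : ℕ, e (.ofAdd k) = w ^ k := fun k => by
    rw [← Int.cast_natCast]
    simp only [e, AddMonoidHom.toMultiplicativeLeft_apply_apply, toAdd_ofAdd, ZMod.lift_coe]
    simp
  have hi : ∀ k, e k = 1 → k = 1 := fun k hk => by
    rw [← ofAdd_toAdd k, ← ZMod.natCast_zmod_val k.toAdd] at hk ⊢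
    rw [he, ← orderOf_dvd_iff_pow_eq_one, hw] at hk
    rw [(ZMod.natCast_eq_zero_iff _ _).2 hk]; rfl
  obtain ⟨s, rfl⟩ : ∃ s : Multiset (ZMod r), s.map (fun k => e (.ofAdd k)) = J := by
    choose! k hk using hJ
    exact ⟨J.map fun x => k x, by
      rw [Multiset.map_map]
      exact (map_congr rfl fun x hx => (he _).trans (hk x hx).symm).trans (map_id' _)⟩
  obtain ⟨t, ht⟩ := zmod_sym h ((card_map _ _).symm.trans h1) (congrArg Multiplicative.toAdd
    (hi (.ofAdd s.sum) (by rw [← h2, ofAdd_multiset_prod, map_multiset_prod, Multiset.map_map]; rfl)))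
  refine ⟨t.val, ?_⟩
  have := congrArg (Multiset.map fun k => e (.ofAdd k)) ht
  simpa [← he] using this

end comb

variable {F V : Type*} [Field F] [Fintype F] [AddCommGroup V] [Module F V] [FiniteDimensional F V]
  (p : ℕ) [hp : Fact p.Prime] [CharP F p] {K : Type*} [Field K] [Algebra F K] [IsAlgClosed K]
  [Algebra.IsAlgebraic F K] {r : ℕ} [hr : Fact r.Prime] {f : End F V}

omit [IsAlgClosed K] [Algebra.IsAlgebraic F K] in
theorem map_uK_stable (s : Multiset Fˣ) :
    (s.map (uK K)).map (· ^ (Nat.card F : ℤ)) = s.map (uK K) := by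
  rw [Multiset.map_map]; exact map_congr rfl fun x _ => uK_zpow_card K x

theorem exists_orderOf_units (h : r ∣ Fintype.card F - 1) : ∃ w : Fˣ, orderOf w = r :=
  exists_prime_orderOf_dvd_card' r (by rwa [Nat.card_units, Nat.card_eq_fintype_card])

include p

theorem pow_eq_of_sy (hf : OrdP r f) {z : F} (h : f ^ r = algebraMap F _ z)
    {a : ℤ} {c : Fˣ} (hs : Sy a (uK K c) (eig K f)) :
    c ^ r * Units.mk0 z (hf.ne_zero h) ^ (a - 1) = 1 := by
  have := hf.nontrivial
  obtain ⟨x, hx⟩ := card_pos_iff_exists_mem.1 (show 0 < (eig K f).card by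
    rw [card_eig]; exact finrank_pos)
  have h1 : ∀ x ∈ eig K f, x ^ r = uK K (Units.mk0 z (hf.ne_zero h)) := fun x hx =>
    Units.ext (pow_of_mem_eig p hf.isUnit h hx)
  have h2 := h1 _ (hs.mem hx)
  rw [mul_pow, ← zpow_natCast (x ^ a), ← zpow_mul, mul_comm a, zpow_mul, zpow_natCast, h1 x hx,
    ← map_pow, ← map_zpow, ← map_mul] at h2
  rw [zpow_sub_one, ← mul_assoc, uK_injective K h2, mul_inv_cancel]

theorem exists_bad_one (h2 : r ≠ 2) (h : r ∣ Fintype.card F - 1) {a : ℤ} (ha : ¬ (r : ℤ) ∣ a - 1)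
    (hn : 2 ≤ finrank F V) (h3 : finrank F V = 2 → ¬ (r : ℤ) ∣ a + 1)
    (h4 : ¬ (finrank F V = 6 ∧ r = 3)) (h5 : ¬ (r = finrank F V ∧ (finrank F V = 3 ∨
      finrank F V = 5) ∧ padicValNat r (Fintype.card F - 1) = 1)) :
    ∃ f : End F V, OrdP r f ∧ ∀ c : Fˣ, ¬ Sy a (uK K c) (eig K f) := by
  obtain ⟨w, hw⟩ := exists_orderOf_units h
  have hw' : orderOf (uK K w) = r := (orderOf_injective _ (uK_injective K) w).trans hw
  have hw1 : uK K w ≠ 1 := fun h => hr.out.one_lt.ne (by rw [← hw', h, orderOf_one])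
  have hwr : uK K w ^ r = 1 := hw' ▸ pow_orderOf_eq_one _
  have : Nontrivial V := finrank_pos_iff.1 (by omega : 0 < finrank F V)
  rcases lt_trichotomy (padicValNat r (finrank F V)) (padicValNat r (Fintype.card F - 1)) with
    h6 | h6 | h6
  · obtain ⟨d, hd⟩ := (exists_pow_eq_iff_of_prime ((orderOf_inv w).trans hw)
      (by omega : finrank F V ≠ 0)).2 (by rwa [Nat.card_units, Nat.card_eq_fintype_card])
    obtain ⟨m, hm⟩ : ∃ m, finrank F V = m + 1 := ⟨finrank F V - 1, by omega⟩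
    obtain ⟨f, h7, -, h8⟩ := exists_ordP_eig (V := V) (r := r) p
      (J := (uK K d * uK K w) ::ₘ replicate m (uK K d)) (c := (d : F) ^ r)
      (by simpa using map_uK_stable (K := K) ((d * w) ::ₘ replicate m d)) (by simp [hm])
      (by rw [prod_cons, prod_replicate, mul_right_comm, ← pow_succ', ← hm, ← map_pow, hd,
        ← map_mul, inv_mul_cancel, map_one]) (fun x hx => by
        rcases mem_cons.1 hx with rfl | hx
        · rw [← Units.val_pow_eq_pow_val, mul_pow, hwr]; simp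
        · simp [eq_of_mem_replicate hx]) (mem_cons_self _ _)
      (mem_cons_of_mem (mem_replicate.2 ⟨by omega, rfl⟩)) (by simpa using hw1)
    exact ⟨f, h7, fun c => h8 ▸ not_sy_one hw' ha (by omega) fun h => h3 (by omega)⟩
  · have h7 := one_le_padicValNat_of_dvd (Nat.sub_ne_zero_of_lt Fintype.one_lt_card) h
    have h8 : r ∣ finrank F V := dvd_of_one_le_padicValNat (h6 ▸ h7)
    obtain ⟨m, hm, h9⟩ : ∃ m, finrank F V = m + 3 ∧ 4 ≤ m := by
      refine ⟨finrank F V - 3, ?_⟩
      by_contra h9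
      have h10 := hr.out
      have h11 := Nat.le_of_dvd (by omega) h8
      have h12 := h10.two_le
      rw [← h6] at h5
      generalize finrank F V = n at *
      have : n ≤ 6 := by omega
      clear hw hw' hwr h ha h3 h6 h7 hr
      interval_cases n <;> interval_cases r <;> simp_all (decide := true)
    obtain ⟨f, h7, -, h8⟩ := exists_ordP_eig (V := V) (r := r) p
      (J := replicate m 1 + {uK K w, uK K w, (uK K w)⁻¹ ^ 2}) (c := (1 : F))
      (by
        have := map_uK_stable (K := K) (replicate m 1 + {w, w, w⁻¹ ^ 2})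
        simpa only [Multiset.map_add, map_replicate, map_one, insert_eq_cons, map_cons,
          map_singleton, map_pow, map_inv] using this) (by simp [hm])
      (by simp [sq, mul_assoc]) (fun x hx => by
        rw [← Units.val_pow_eq_pow_val, map_one, Units.val_eq_one]
        rcases mem_add.1 hx with hx | hx
        · simp [eq_of_mem_replicate hx]
        · simp only [insert_eq_cons, mem_cons, mem_singleton] at hx
          rcases hx with rfl | rfl | rfl
          exacts [hwr, hwr, by rw [← pow_mul, mul_comm, pow_mul, inv_pow, hwr]; simp])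
      (x := uK K w) (y := 1) (by simp) (by simp [mem_replicate]; omega) hw1
    exact ⟨f, h7, fun c => h8 ▸ not_sy_three hw' ha h9⟩
  · obtain ⟨f, z, k, h7, h8, h9, -⟩ := exists_ordP_nonpow (V := V) h fun h => h6.not_ge h.1
    refine ⟨f, h7, fun c hc => ?_⟩
    have h10 := pow_eq_of_sy p h7 h9 hc
    obtain ⟨u, v, huv⟩ := (Nat.prime_iff_prime_int.1 hr.out).coprime_iff_not_dvd.2 ha
    generalize hz : Units.mk0 z (h7.ne_zero h9) = y at h10
    refine h8 (y ^ u * c ^ (-v) : Fˣ) ?_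
    rw [← Units.val_pow_eq_pow_val, ← Units.val_mk0 (h7.ne_zero h9), hz, ← zpow_one y]
    conv_rhs => rw [← huv, zpow_add, mul_comm v, zpow_mul y (a - 1), eq_inv_of_mul_eq_one_right h10]
    congr 1
    rw [mul_pow, zpow_one, ← zpow_natCast, ← zpow_natCast, ← zpow_natCast c]
    group

theorem exists_bad_two (hrp : r ≠ p) (h : ¬ r ∣ Fintype.card F - 1)
    (hn : orderOf (Fintype.card F : ZMod r) ≤ finrank F V) {a : ℤ} (h0 : ¬ (r : ℤ) ∣ a)
    (ha : ∀ j : ℕ, ¬ (r : ℤ) ∣ (Fintype.card F : ℤ) ^ j - a) :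
    ∃ f : End F V, OrdP r f ∧ ∀ c : Fˣ, ¬ Sy a (uK K c) (eig K f) := by
  have : CharP K p := charP_of_injective_algebraMap (algebraMap F K).injective p
  obtain ⟨w, hw⟩ := (ta_units (F := F) (K := K) p).ex r ((Nat.coprime_primes hr.out hp.out).2 hrp)
  have hwr : w ^ r = 1 := hw ▸ pow_orderOf_eq_one _
  have h1 := orderOf_card_pos (F := F) p hr.out hrp
  generalize hi : orderOf (Fintype.card F : ZMod r) = i at hn h1
  have h2 : w ^ (Nat.card F : ℤ) ^ i = w := by
    rw [zpow_pow_eq_iff, hw, Nat.card_eq_fintype_card, ← ZMod.intCast_zmod_eq_zero_iff_dvd]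
    simp [← hi, pow_orderOf_eq_one]
  obtain ⟨m, hm⟩ := Nat.exists_eq_add_of_le hn
  have h3 : ∀ x ∈ (bJ (Nat.card F) i w 1).map Prod.fst + replicate m 1,
      x = 1 ∨ ∃ j : ℕ, x = w ^ (Nat.card F : ℤ) ^ j := fun x hx => by
    rcases mem_add.1 hx with hx | hx
    · obtain ⟨y, hy, rfl⟩ := mem_map.1 hx
      obtain ⟨j, -, rfl⟩ := mem_bJ.1 hy
      exact .inr ⟨j, rfl⟩
    · exact .inl (eq_of_mem_replicate hx)
  have h4 : ∀ x ∈ (bJ (Nat.card F) i w 1).map Prod.fst + replicate m 1, x ^ r = 1 := fun x hx => by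
    rcases h3 x hx with rfl | ⟨j, rfl⟩
    · exact one_pow _
    · rw [← zpow_natCast, ← zpow_mul, mul_comm, zpow_mul, zpow_natCast, hwr, one_zpow]
  have h5 : ∀ c : Kˣ, c ^ (Nat.card F : ℤ) = c → c ^ r = 1 → c = 1 := fun c h5 h6 => by
    obtain ⟨d, rfl⟩ := exists_uK (F := F) h5
    rw [← map_pow, ← map_one (uK K : Fˣ →* Kˣ)] at h6
    rw [(Units.ext (eq_one_of_pow_eq_one h (congrArg Units.val (uK_injective K h6))) : d = 1),
      map_one]
  have h6 : ((bJ (Nat.card F) i w 1).map Prod.fst + replicate m 1).map (· ^ (Nat.card F : ℤ)) =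
      (bJ (Nat.card F) i w 1).map Prod.fst + replicate m 1 := by
    rw [Multiset.map_add, map_replicate, one_zpow]
    conv_rhs => rw [← st_bJ h2 1]
    simp
  have h7 : w ∈ (bJ (Nat.card F) i w 1).map Prod.fst + replicate m 1 :=
    mem_add.2 (.inl (mem_map.2 ⟨_, self_mem_bJ h1 w 1, rfl⟩))
  have hw1 : w ≠ 1 := fun h => hr.out.one_lt.ne (by rw [← hw, h, orderOf_one])
  obtain ⟨f, h8, -, h9⟩ := exists_ordP_eig (V := V) (r := r) p h6 (c := 1) (by simp [hm, bJ])
    (h5 _ ((map_multiset_prod (zpowGroupHom (α := Kˣ) _) _).trans (by exact congrArg prod h6))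
      ((map_multiset_prod (powMonoidHom (α := Kˣ) r) _).trans (prod_eq_one fun x hx => by
        obtain ⟨y, hy, rfl⟩ := mem_map.1 hx; exact h4 y hy)))
    (fun x hx => by rw [← Units.val_pow_eq_pow_val, h4 x hx]; simp) h7
    (h6 ▸ mem_map_of_mem _ h7) fun h8 => hw1 (h5 w h8.symm hwr)
  refine ⟨f, h8, fun c hc => ?_⟩
  have h10 := hc.mem (h9 ▸ h7)
  rw [h9] at h10
  have h11 := h4 _ h10
  rw [mul_pow, ← zpow_natCast (w ^ a), ← zpow_mul, mul_comm a, zpow_mul, zpow_natCast, hwr,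
    one_zpow, mul_one] at h11
  rw [h5 _ (uK_zpow_card K c) h11, one_mul] at h10
  rcases h3 _ h10 with h12 | ⟨j, h12⟩
  · exact h0 (hw ▸ orderOf_dvd_iff_zpow_eq_one.2 h12)
  · refine ha j (hw ▸ orderOf_dvd_iff_zpow_eq_one.2 ?_)
    rw [zpow_sub, h12, Nat.card_eq_fintype_card, mul_inv_cancel]

theorem OrdP.exists_sym (hf : OrdP r f) (h : r = 3 ∨ r = 5) (hn : finrank F V = r)
    (hq : padicValNat r (Fintype.card F - 1) = 1) : ∃ d : Fˣ, ((d : F) • f) ^ r = 1 ∧
      (eig K ((d : F) • f)).map (·⁻¹) = eig K ((d : F) • f) := by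
  have : CharP K p := charP_of_injective_algebraMap (algebraMap F K).injective p
  have h1 : r ∣ Fintype.card F - 1 := dvd_of_one_le_padicValNat hq.ge
  obtain ⟨w, hw⟩ := exists_orderOf_units h1
  have hw' : orderOf (uK K w) = r := (orderOf_injective _ (uK_injective K) w).trans hw
  rcases hf.cases with ⟨d, hd, h2⟩ | ⟨z, k, -, -, -, -, h2, -⟩
  swap
  · exact (h2 ⟨by simp [hn, hq], by omega⟩).elim
  lift d to Fˣ using hd.isUnit
  have h3 : IsUnit ((d : F) • f) := hf.isUnit.smul d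
  have h4 : (d : F) ^ r = 1 := by
    have h4 : LinearMap.det ((d : F) • f) = d ^ r := by rw [LinearMap.det_smul, hf.1, hn, mul_one]
    have h5 : orderOf d ∣ r ^ 2 := orderOf_dvd_of_pow_eq_one (Units.ext (by
      rw [sq, pow_mul, Units.val_pow_eq_pow_val, Units.val_pow_eq_pow_val, ← h4, ← map_pow, h2,
        map_one, Units.val_one]))
    obtain ⟨j, h6, h7⟩ := (Nat.dvd_prime_pow hr.out).1 h5
    have h8 := orderOf_dvd_natCard d
    rw [h7, Nat.card_units, Nat.card_eq_fintype_card,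
      padicValNat_dvd_iff_le (Nat.sub_ne_zero_of_lt Fintype.one_lt_card), hq] at h8
    exact congrArg Units.val (orderOf_dvd_iff_pow_eq_one.1 (h7 ▸ (pow_dvd_pow r h8).trans
      (pow_one r).dvd))
  obtain ⟨t, ht⟩ := exists_sym_of_pow h hw' (J := eig K ((d : F) • f)) (fun x hx =>
    (ta_units (F := F) (K := K) p).cyc _ _ (hw' ▸ orderOf_dvd_of_pow_eq_one (Units.ext (by
      simpa using pow_of_mem_eig p h3 (c := 1) (h2.trans (map_one _).symm) hx))))
    (by rw [card_eig, hn]) (Units.ext (by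
      rw [prod_eig p h3, LinearMap.det_smul, hf.1, hn, h4]; simp))
  rw [← map_pow, ← eig_smul p h3, smul_smul] at ht
  refine ⟨w ^ t * d, ?_, ht⟩
  rw [Units.val_mul, mul_smul, smul_pow, h2, ← Units.val_pow_eq_pow_val, ← pow_mul, mul_comm,
    pow_mul, ← hw, pow_orderOf_eq_one]
  simp

end CF.Classical
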