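/-
Conjugacy into subfield subgroups.
-/
import Cfsg.Agent.Classical.EluF
import Cfsg.Agent.Classical.Subfields
import Cfsg.Agent.MaxSub.Subfield

set_option autoImplicit false

namespace CF.Classical

open Module CF.Cls Polynomial Matrix Matrix.SpecialLinearGroup Cfsg.Geo

theorem card_SL_succ (F : Type*) [Field F] [Fintype F] (n : ℕ) :
    Nat.card (SpecialLinearGroup (Fin (n + 1)) F) =
      Fintype.card F ^ (∑ i ∈ Finset.range (n + 1), i) *
        ∏ i ∈ Finset.range n, (Fintype.card F ^ (i + 2) - 1) := by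
  have h1 := prod_pow_sub_pow (Fintype.card F) (le_refl (n + 1))
  rw [Nat.sub_self, qq, Finset.prod_range_zero, mul_one, ← card_SL_fin _ n.succ_pos, qq,
    Finset.prod_range_succ', zero_add, pow_one, ← mul_assoc, mul_comm] at h1
  exact Nat.eq_of_mul_eq_mul_right (Nat.sub_pos_of_lt Fintype.one_lt_card) h1

theorem card_GL_eq_qq (F : Type*) [Field F] [Fintype F] (n : ℕ) :
    Nat.card (GL (Fin n) F) = Fintype.card F ^ (∑ i ∈ Finset.range n, i) * qq (Fintype.card F) n := by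
  have h1 := prod_pow_sub_pow (Fintype.card F) (le_refl n)
  rwa [Nat.sub_self, qq, Finset.prod_range_zero, mul_one, ← card_GL_field] at h1

theorem dvd_of_dvd_geom_sum {r x k : ℕ} (hx : 1 ≤ x) (h : r ∣ ∑ l ∈ Finset.range k, x ^ l) :
    r ∣ x ^ k - 1 ∧ (r ∣ x - 1 → r ∣ k) := by
  refine ⟨geom_sum_mul_of_one_le hx k ▸ h.mul_right _, fun h1 => ?_⟩
  rw [← ZMod.natCast_eq_zero_iff] at h h1 ⊢
  rw [Nat.cast_sub hx, sub_eq_zero] at h1
  simpa [h1] using h

variable {ι : Type} [Fintype ι] [DecidableEq ι] {F E : Type*} [Field F] [Field E]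

theorem rank_map_eq (φ : E →+* F) (A : Matrix ι ι E) : (A.map φ).rank = A.rank := by
  classical
  obtain ⟨L, L', D, rfl⟩ := Pivot.exists_list_transvec_mul_diagonal_mul_list_transvec A
  have h : ∀ L : List (TransvectionStruct ι E), 
      IsUnit (L.map TransvectionStruct.toMatrix).prod.det := fun L => by
    rw [TransvectionStruct.det_toMatrix_prod]; exact isUnit_one
  have h' : ∀ L : List (TransvectionStruct ι E),
      IsUnit ((L.map TransvectionStruct.toMatrix).prod.map φ).det := fun L => by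
    rw [← RingHom.mapMatrix_apply, ← RingHom.map_det]; exact (h L).map φ
  rw [Matrix.map_mul, Matrix.map_mul, rank_mul_eq_left_of_isUnit_det _ _ (h _),
    rank_mul_eq_left_of_isUnit_det _ _ (h' _), rank_mul_eq_right_of_isUnit_det _ _ (h _),
    rank_mul_eq_right_of_isUnit_det _ _ (h' _), diagonal_map (map_zero φ), rank_diagonal,
    rank_diagonal]
  simp

theorem map_sub_one_pow (φ : E →+* F) (A : Matrix ι ι E) (k : ℕ) :
    (A.map φ - 1) ^ k = ((A - 1) ^ k).map φ := by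
  simp [← RingHom.mapMatrix_apply]

theorem unip_map_iff (φ : E →+* F) {A : Matrix ι ι E} :
    IsNilpotent (A.map φ - 1) ↔ IsNilpotent (A - 1) :=
  exists_congr fun k => by
    rw [map_sub_one_pow, ← Matrix.map_zero φ (map_zero φ), (map_injective φ.injective).eq_iff]

theorem jtM_map (φ : E →+* F) {A : Matrix ι ι E} (h : IsNilpotent (A - 1)) :
    jtM (A.map φ) = jtM A := by
  obtain ⟨B, h1, h2⟩ := exists_GL_jtM (F := F) _ (jtM_pos A) (jtM_sum A)
  rw [← h2, ← isConj_iff_jtM ((unip_map_iff φ).2 h) h1]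
  refine isConj_of_unipM ((unip_map_iff φ).2 h) h1 fun k => ?_
  have h3 := rank_unipM h k
  have h4 := rank_unipM h1 k
  rw [map_sub_one_pow, rank_map_eq]
  rw [h2] at h4
  omega

theorem eig_map [Algebra E F] (K : Type*) [Field K] [Algebra E K] [Algebra F K]
    [IsScalarTower E F K] (A : Matrix ι ι E) :
    eig K (toLin' (A.map (algebraMap E F))) = eig K (toLin' A) := by
  rw [eig, eig, charpoly_toLin', charpoly_toLin', charpoly_map, rU, aroots_map, rU]

theorem isSquare_det_of_comm {V : Type*} [AddCommGroup V] [Module F V] [FiniteDimensional F V]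
    {N g : End F V} (h : LinearMap.ker N = LinearMap.range N) (hg : ∀ v, g (N v) = N (g v)) :
    IsSquare (LinearMap.det g) := by
  have h1 : LinearMap.ker N ≤ (LinearMap.ker N).comap g := fun v hv => by
    rw [Submodule.mem_comap, LinearMap.mem_ker, ← hg, hv, map_zero]
  refine ⟨LinearMap.det (g.restrict h1), ?_⟩
  rw [LinearMap.det_eq_det_mul_det _ g h1,
    ← LinearMap.det_conj _ (N.quotKerEquivRange.trans (LinearEquiv.ofEq _ _ h.symm))]
  congr 2
  refine LinearMap.ext fun v => ?_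
  obtain ⟨v, rfl⟩ := (N.quotKerEquivRange.trans (LinearEquiv.ofEq _ _ h.symm)).surjective v
  obtain ⟨v, rfl⟩ := Submodule.Quotient.mk_surjective _ v
  simp only [LinearMap.comp_apply, LinearEquiv.coe_coe, LinearEquiv.symm_apply_apply]
  exact Subtype.ext (hg v).symm

variable {F₀ : Subfield F} {f : End F (ι → F)}

theorem mem_subfieldSubgroup_one {y : GL ι F} : y ∈ subfieldSubgroup F₀ 1 ↔
    ∃ (c : Fˣ) (A : Matrix ι ι F₀), (c : F) • (y : Matrix ι ι F) = A.map F₀.subtype := by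
  rw [MaxSub.mem_subfieldSubgroup]
  simp only [MaxSub.cj_apply, inv_one, Units.val_one, mul_one, one_mul]
  exact exists_congr fun c => ⟨fun h => ⟨of fun i j => ⟨_, h i j⟩, rfl⟩,
    fun ⟨A, h⟩ i j => h ▸ (A i j).2⟩

theorem scalars_le_subfieldSubgroup : scalars ι F ≤ subfieldSubgroup F₀ 1 := fun y hy => by
  obtain ⟨c, hc⟩ := (mem_scalars_iff y).1 hy
  exact mem_subfieldSubgroup_one.2 ⟨c⁻¹, 1, by simp [hc, smul_smul]⟩

theorem inC_of_map {A : Matrix ι ι F₀} (hf : IsUnit f) (h : Sim (toLin' (A.map F₀.subtype)) f) :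
    InC (subfieldSubgroup F₀ 1) f := by
  obtain ⟨y, hy⟩ := isUnit_toLin'_iff.1 (h.isUnit_iff.2 hf)
  exact ⟨y, mem_subfieldSubgroup_one.2 ⟨1, A, by simp [hy]⟩, hy ▸ h⟩

theorem inC_sub_of_unip (h : IsNilpotent (f - 1)) : InC (subfieldSubgroup F₀ 1) f := by
  obtain ⟨A, h1, h2⟩ := exists_GL_jtM (F := F₀) (ι := ι) _ (jt_pos f) (by simp [jt_sum])
  exact inC_of_map (by simpa using h.isUnit_add_one) ((sim_iff_jt ((unip_toLin'_iff _).2
    ((unip_map_iff _).2 h1)) h).2 ((jtM_map _ h1).trans h2))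

variable [Fintype F] (p : ℕ) [hp : Fact p.Prime] [CharP F p] {K : Type*} [Field K] [Algebra F K]
  [IsAlgClosed K] [Algebra.IsAlgebraic F K]
include p

theorem InC.sy_sub (hf : IsUnit f) (h : InC (subfieldSubgroup F₀ 1) f) :
    ∃ c : Fˣ, Sy (Nat.card F₀) (uK K (c ^ ((Nat.card F₀ : ℤ) - 1))) (eig K f) := by
  obtain ⟨y, hy, h⟩ := h
  obtain ⟨c, A, hA⟩ := mem_subfieldSubgroup_one.1 hy
  have := Fintype.ofFinite F₀
  have := Algebra.IsAlgebraic.trans F₀ F K
  have h1 : IsUnit (toLin' (y : Matrix ι ι F)) := h.isUnit_iff.2 hf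
  have h2 : IsUnit (toLin' A) := isUnit_toLin'_iff.2 ((isUnit_iff_isUnit_det A).2 (IsUnit.mk0 _
    fun h2 => ((isUnit_iff_isUnit_det _).1 (y.isUnit.smul c)).ne_zero (by
      rw [Units.smul_def, hA, ← RingHom.mapMatrix_apply, ← RingHom.map_det, h2, map_zero])))
  have h3 := eig_stable (K := K) p h2
  rw [← eig_map (F := F), show A.map (algebraMap F₀ F) = _ from hA.symm, map_smul, eig_smul p h1,
    Sim.eig_eq h] at h3
  exact ⟨c, map_zpow (uK K) c _ ▸ sy_of_map_mul h3⟩

theorem inC_sub_of_stable {m : ℕ} (hm : ¬ p ∣ m) (hf : f ^ m = 1)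
    (h : (eig K f).map (· ^ (Nat.card F₀ : ℤ)) = eig K f) : InC (subfieldSubgroup F₀ 1) f := by
  have := Fintype.ofFinite F₀
  have := Algebra.IsAlgebraic.trans F₀ F K
  have h0 : IsUnit f := IsUnit.of_pow_eq_one hf (by rintro rfl; simp at hm)
  obtain ⟨g, -, -, h1, h2⟩ := exists_eig (F := F₀) (V := ι → F₀) p h (by simp [card_eig])
  obtain ⟨A, rfl⟩ := toLin'.surjective g
  have h3 : toLin' (A.map F₀.subtype) ^ m = 1 := by
    have := h2 m 1 fun x hx => by
      simpa using pow_of_mem_eig p h0 (c := 1) (hf.trans (map_one _).symm) hx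
    rw [← toLin'_pow, toLin'_eq_algebraMap, one_smul] at this
    rw [← toLin'_pow, ← RingHom.mapMatrix_apply, ← map_pow, this, map_one, toLin'_one]; rfl
  have h4 : (m : F) ≠ 0 := mt (CharP.cast_eq_zero_iff F p m).1 hm
  exact inC_of_map h0 (sim_of_eig (IsUnit.of_pow_eq_one h3 (by rintro rfl; simp at hm)) h0
    (ss_of_pow_eq_one h4 h3) (ss_of_pow_eq_one h4 hf) ((eig_map K A).trans h1))

omit [IsAlgClosed K] [Algebra.IsAlgebraic F K] in
theorem exists_dvd_of_dvd_index_sub {n r k : ℕ} (hr : r.Prime) (hrp : r ≠ p) (hn : 1 ≤ n)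
    (hk : Fintype.card F = Nat.card F₀ ^ k) (h : r ∣ ((subfieldSubgroup F₀ 1).comap
      (toGL : SpecialLinearGroup (Fin n) F →* GL (Fin n) F)).index) :
    ∃ j, 2 ≤ j ∧ j ≤ n ∧ r ∣ Fintype.card F ^ j - 1 ∧ (r ∣ Nat.card F₀ ^ j - 1 → r ∣ k) := by
  have := Fintype.ofFinite F₀
  obtain ⟨n, rfl⟩ := Nat.exists_eq_add_of_le' hn
  have h1 := (SpecialLinearGroup.map (n := Fin (n + 1)) F₀.subtype).range.index_mul_card
  have h2 : 2 ≤ Nat.card F₀ := Finite.one_lt_card
  rw [← Nat.card_congr (MonoidHom.ofInjective (slMap_injective F₀.subtype.injective)).toEquiv,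
    card_SL_succ, card_SL_succ, ← Nat.card_eq_fintype_card (α := F₀), Finset.prod_congr rfl
      (g := fun i => (∑ l ∈ Finset.range k, (Nat.card F₀ ^ (i + 2)) ^ l) *
        (Nat.card F₀ ^ (i + 2) - 1)) (s₁ := Finset.range n) (f := fun i => Fintype.card F ^ (i + 2) - 1)
      fun i _ => by rw [geom_sum_mul_of_one_le (Nat.one_le_pow _ _ (by omega)), hk, ← pow_mul, ← pow_mul, mul_comm],
    Finset.prod_mul_distrib, ← mul_assoc, ← mul_assoc] at h1
  have h3 := Nat.eq_of_mul_eq_mul_right (Finset.prod_pos fun i _ => Nat.sub_pos_of_lt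
    (Nat.one_lt_pow (by omega) h2)) h1
  rcases hr.dvd_mul.1 (h3 ▸ (h.trans (Subgroup.index_dvd_of_le (by
    rintro _ ⟨x, rfl⟩
    exact mem_subfieldSubgroup_one.2 ⟨1, x, by simp⟩))).mul_right _) with h4 | h4
  · obtain ⟨m, -, hm⟩ := FiniteField.card F p
    rw [hm, ← pow_mul] at h4
    exact (hrp ((Nat.prime_dvd_prime_iff_eq hr hp.out).1 (hr.dvd_of_dvd_pow h4))).elim
  obtain ⟨i, hi, h5⟩ := (hr.prime.dvd_finsetProd_iff _).1 h4
  have h6 := dvd_of_dvd_geom_sum (Nat.one_le_pow _ _ (by omega)) h5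
  rw [← pow_mul, mul_comm, pow_mul, ← hk] at h6
  exact ⟨i + 2, by omega, by rw [Finset.mem_range] at hi; omega, h6⟩

end CF.Classical
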