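/-
Products of two regular unipotent classes.
-/
import Cfsg.Agent.Classical.Lev2

set_option autoImplicit false

namespace CF.Classical

open Module CF.Cls Polynomial

variable {F V : Type*} [Field F] [AddCommGroup V] [Module F V] [FiniteDimensional F V]

/-- the factorisation theorem without the condition `b(μ) ≠ 0` -/
theorem lev_core {g : End F V} (hg : IsUnit g) (hs : ∀ c : F, g ≠ c • 1)
    {a b : F[X]} (ha : a.Monic) (hb : b.Monic) (hda : a.natDegree = finrank F V)
    (hdb : b.natDegree + 1 = finrank F V) (hb0 : b.coeff 0 ≠ 0) {μ : F}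
    (hdet : LinearMap.det g * (μ * b.coeff 0) = -a.coeff 0) :
    ∃ (Z : End F V) (e : AdjoinRoot b →ₗ[F] V) (φ : Dual F V), Function.Injective e ∧
      LinearMap.ker φ = LinearMap.range e ∧ (∀ y, e (cyc b y) = Z (e y)) ∧
      (∀ v, φ (Z v) = μ * φ v) ∧ Sim (cyc a) (g * Z) ∧
      ∀ (v : V) (c : F), φ v = 0 → (g * Z) v = c • v → v = 0 := by
  obtain ⟨φ, v₀, hv₀, hφ⟩ := exists_hyperplane_not_inv hs
  have hgi : Function.Injective g := (End.isUnit_iff g).1 hg |>.1
  let W := LinearMap.ker φ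
  let U := W ⊓ LinearMap.ker (φ ∘ₗ g)
  have hW : finrank F W + 1 = finrank F V := by
    have := lv_finrank_inf_ker (U := ⊤) (ψ := φ) (a := g v₀) trivial (by simp [hφ])
    rwa [top_inf_eq, finrank_top] at this
  have hU : finrank F W = finrank F U + 1 :=
    (lv_finrank_inf_ker (U := W) (ψ := φ ∘ₗ g) hv₀ (by simp [hφ])).symm
  have hU1 : U.map LinearMap.id ≤ W := by simp [U]
  obtain ⟨T, k1, k2, k3⟩ := lv_exists_gen (ι := LinearMap.id) (γ := g) Function.injective_id _ U W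
    rfl hU hU1 (by rintro _ ⟨v, hv, rfl⟩; exact hv.2)
  obtain ⟨e₀, l1, l2, l3⟩ := (k2.symm fun _ _ h => h).ext hU k1 hU1 k2.inj hb (by omega)
  have := fd_adjoinRoot hb.ne_zero
  have := fd_adjoinRoot ha.ne_zero
  have hcb : Function.Injective (cyc b) := ((End.isUnit_iff _).1 ((LinearMap.isUnit_iff_isUnit_det
    _).2 (by rw [det_cyc hb]; simp [hb0]))).1
  have hgen : LvGen ⊤ e₀ (g ∘ₗ e₀ ∘ₗ cyc b) := fun S _ h => by
    have m1 : S.map (e₀ ∘ₗ cyc b) ≤ U := by
      rintro _ ⟨y, hy, rfl⟩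
      refine ⟨l2 ▸ LinearMap.mem_range_self e₀ _, ?_⟩
      obtain ⟨y', -, h'⟩ := h (Submodule.mem_map_of_mem hy)
      have : e₀ y' ∈ W := l2 ▸ LinearMap.mem_range_self e₀ _
      rwa [h'] at this
    have m2 : ∀ y ∈ S, T (e₀ (cyc b y)) = e₀ y := fun y hy => by
      obtain ⟨y', h1, h2⟩ := l3 _ (m1 (Submodule.mem_map_of_mem hy))
      rw [← hcb (l1 h2), h1, hcb (l1 h2)]; rfl
    have := k3.symm (fun v _ h => hgi (by simpa using h)) _ m1 (by
      rintro _ ⟨_, ⟨y, hy, rfl⟩, rfl⟩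
      obtain ⟨y', h1, h2⟩ := h (Submodule.mem_map_of_mem hy)
      exact ⟨_, Submodule.mem_map_of_mem h1, (m2 y' h1).trans h2⟩)
    refine eq_bot_iff.2 fun y hy => hcb (l1 ?_)
    simpa using (this ▸ Submodule.mem_map_of_mem hy : (e₀ ∘ₗ cyc b) y ∈ (⊥ : Submodule F V))
  obtain ⟨e, m1, m2, m3⟩ := hgen.ext (W := ⊤) (by simp [finrank_adjoinRoot, hdb]) le_top le_top
    (fun v _ h => l1 (by simpa using h)) ha (by simpa using hda)
  let E := LinearEquiv.ofBijective e ⟨m1, LinearMap.range_eq_top.1 m2⟩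
  obtain ⟨G, rfl⟩ := hg
  set Z : End F V := ↑G⁻¹ * E.conj (cyc a) with hZ
  have n1 : ↑G * Z = E.conj (cyc a) := by rw [hZ, Units.mul_inv_cancel_left]
  have n2 : ∀ y, e₀ (cyc b y) = Z (e₀ y) := fun y => hgi <| by
    obtain ⟨x, h1, h2⟩ := m3 y trivial
    rw [← End.mul_apply, n1, ← h1]
    have : E.symm (e x) = x := E.symm_apply_apply x
    simp only [LinearEquiv.conj_apply_apply, this]
    exact h2.symm
  have n3 : ∀ v, φ (Z v) = (φ (Z ((G : End F V) v₀)) • (1 : End F F)) (φ v) := fun v => by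
    obtain ⟨y, hy⟩ : v - φ v • (G : End F V) v₀ ∈ LinearMap.range e₀ := by
      rw [l2]; simp [W, hφ]
    have : Z (e₀ y) ∈ W := n2 y ▸ l2 ▸ LinearMap.mem_range_self e₀ _
    rw [hy, LinearMap.mem_ker, map_sub, map_sub, map_smul, map_smul, sub_eq_zero] at this
    simp [this, mul_comm]
  have hφs : Function.Surjective φ := fun x => ⟨x • (G : End F V) v₀, by simp [hφ]⟩
  have n4 := det_of_exact e₀ φ l1 hφs l2.symm n2 n3
  have n5 := congrArg LinearMap.det n1
  rw [map_mul, n4, ← (Sim.of_conj E _).det_eq, det_cyc ha, det_cyc hb, LinearMap.det_smul,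
    map_one, finrank_self, pow_one, mul_one, hda, ← hdb, pow_succ] at n5
  have n6 : φ (Z ((G : End F V) v₀)) = μ := by
    have h0 : LinearMap.det (G : End F V) ≠ 0 := (G.isUnit.map LinearMap.det).ne_zero
    have h1 : ((-1 : F) ^ b.natDegree) ≠ 0 := by simp
    refine mul_left_cancel₀ (mul_ne_zero (mul_ne_zero h0 h1) hb0) ?_
    linear_combination n5 - (-1) ^ b.natDegree * hdet
  rw [n6] at n3
  refine ⟨Z, e₀, φ, l1, l2.symm, n2, n3, n1 ▸ Sim.of_conj E _, fun v c h1 h2 => ?_⟩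
  obtain ⟨y, rfl⟩ : v ∈ LinearMap.range e₀ := l2 ▸ h1
  have := hgen (F ∙ y) le_top (by
    rw [Submodule.map_span, Submodule.map_span, Set.image_singleton, Set.image_singleton,
      Submodule.span_singleton_le_iff_mem, Submodule.mem_span_singleton]
    exact ⟨c, by simp [n2, ← h2]⟩)
  simp [Submodule.span_singleton_eq_bot.1 this]

theorem isNilpotent_add_smulRight {N : End F V} (hN : IsNilpotent N) {C : Submodule F V}
    (hC : ∀ v ∈ C, N v ∈ C) {u : V} (hu : u ∈ C) {θ : Dual F V} (hθ : ∀ v ∈ C, θ v = 0) :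
    IsNilpotent (N + θ.smulRight u) := by
  obtain ⟨k, hk⟩ := hN
  have h1 : ∀ i v, ((N + θ.smulRight u) ^ i) v - (N ^ i) v ∈ C := fun i => by
    induction i with
    | zero => simp
    | succ i ih =>
      intro v
      rw [pow_succ', pow_succ', End.mul_apply, End.mul_apply, LinearMap.add_apply, add_sub_right_comm,
        ← map_sub]
      exact C.add_mem (hC _ (ih v)) (C.smul_mem _ hu)
  have h2 : ∀ i, ∀ v ∈ C, ((N + θ.smulRight u) ^ i) v = (N ^ i) v := fun i => by
    induction i with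
    | zero => simp
    | succ i ih =>
      intro v hv
      rw [pow_succ, pow_succ, End.mul_apply, End.mul_apply, ← ih _ (hC v hv)]
      simp [hθ v hv]
  refine ⟨k + k, LinearMap.ext fun v => ?_⟩
  rw [pow_add, End.mul_apply, h2 k _ (by simpa [hk] using h1 k v), hk]
  rfl

/-- regular unipotent endomorphisms -/
def RUn (f : End F V) : Prop :=
  IsNilpotent (f - 1) ∧ finrank F (LinearMap.ker (f - 1)) = 1

theorem RUn.sim {W : Type*} [AddCommGroup W] [Module F W] [FiniteDimensional F W] {f : End F V}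
    {g : End F W} (hf : RUn f) (hg : RUn g) (h : finrank F V = finrank F W) : Sim f g := by
  rw [sim_iff_jt hf.1 hg.1, (jt_eq_singleton_iff hf.1).2 hf.2, (jt_eq_singleton_iff hg.1).2 hg.2, h]

theorem rUn_of_sim_cyc {f : End F V} {n : ℕ} (hn : 0 < n) (h : Sim (cyc ((X - 1 : F[X]) ^ n)) f) :
    RUn f := by
  have h1 := HasED.unip (f := f) (t := {n}) (by simpa using hn) ((hasED_cyc _).of_sim h.symm)
  exact ⟨h1.1, by rw [finrank_ker_unip_one h1.1, h1.2]; rfl⟩

theorem rUn_of_le [Nontrivial V] {f : End F V} (h : IsNilpotent (f - 1))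
    (h' : finrank F (LinearMap.ker (f - 1)) ≤ 1) : RUn f := by
  refine ⟨h, le_antisymm h' (Submodule.one_le_finrank_iff.2 fun h0 => ?_)⟩
  exact h.not_isUnit ((LinearMap.isUnit_iff_ker_eq_bot _).2 h0)

theorem RUn.inv {f f' : End F V} (h : RUn f) (h1 : f' * f = 1) : RUn f' := by
  have h2 : f * f' = 1 := mul_eq_one_comm.1 h1
  have h3 : f' - 1 = -f' * (f - 1) := by rw [mul_sub, neg_mul, h1]; noncomm_ring
  refine ⟨h3 ▸ Commute.isNilpotent_mul_left ?_ h.1, ?_⟩
  · exact (Commute.sub_right (h1.trans h2.symm) (Commute.one_right _)).neg_left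
  · refine (congrArg (fun S : Submodule F V => finrank F S) ?_).trans h.2
    ext v
    simp only [LinearMap.mem_ker, LinearMap.sub_apply, End.one_apply, sub_eq_zero]
    exact ⟨fun h => by nth_rw 1 [← h]; rw [← End.mul_apply, h2]; rfl,
      fun h => by nth_rw 1 [← h]; rw [← End.mul_apply, h1]; rfl⟩

/-- a non-scalar `g` of determinant one is a product of two regular unipotents -/
theorem lev_unip (hF : ∃ t : F, t ≠ 0 ∧ t ≠ 1) (hn : 2 ≤ finrank F V) {g : End F V}
    (hs : ∀ c : F, g ≠ c • 1) (hd : LinearMap.det g = 1) :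
    ∃ Z : End F V, RUn Z ∧ RUn (g * Z) := by
  obtain ⟨n, hn'⟩ : ∃ n, finrank F V = n + 1 + 1 := ⟨finrank F V - 2, by omega⟩
  have : Nontrivial V := nontrivial_of_finrank_eq_succ hn'
  obtain ⟨Z, e, φ, h1, h2, h3, h4, h5, h6⟩ := lev_core (μ := 1)
    ((LinearMap.isUnit_iff_isUnit_det _).2 (by simp [hd])) hs
    (monic_X_sub_one.pow (n + 1 + 1)) (monic_X_sub_one.pow (n + 1))
    (by rw [natDegree_X_sub_one_pow, hn']) (by rw [natDegree_X_sub_one_pow, hn'])
    (by simp [coeff_zero_eq_eval_zero]) (by simp [coeff_zero_eq_eval_zero, hd, pow_succ])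
  have := fd_adjoinRoot (monic_X_sub_one.pow (n + 1) (R := F)).ne_zero
  have k1 := rUn_of_sim_cyc (by omega) h5
  have k2 := rUn_of_sim_cyc (Nat.succ_pos n) (Sim.refl (cyc ((X - 1 : F[X]) ^ (n + 1))))
  set N := Z - 1 with hN
  have k3 : ∀ v, φ (N v) = 0 := fun v => by simp [hN, h4]
  have k4 : ∀ y, N (e y) = e ((cyc _ - 1 : End F _) y) := fun y => by simp [hN, h3]
  have k5 : IsNilpotent N := by
    obtain ⟨k, hk⟩ := k2.1
    refine ⟨k + 1, LinearMap.ext fun v => ?_⟩
    obtain ⟨y, hy⟩ : N v ∈ LinearMap.range e := h2 ▸ k3 v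
    rw [pow_succ, End.mul_apply, ← hy, ← pow_intertwine e (fun y => (k4 y).symm), hk]
    simp
  by_cases k6 : finrank F (LinearMap.ker N) ≤ 1
  · exact ⟨Z, rUn_of_le k5 k6, k1⟩
  have k7 : finrank F (LinearMap.ker N ⊓ LinearMap.ker φ : Submodule F V) = 1 := by
    rw [← k2.2, ← lv_finrank_map (j := e) fun v _ h => h1 (by simpa using h)]
    refine congrArg (fun S : Submodule F V => finrank F S) ?_
    ext v
    refine ⟨fun ⟨h7, h8⟩ => ?_, ?_⟩
    · obtain ⟨y, rfl⟩ : v ∈ LinearMap.range e := h2 ▸ h8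
      exact ⟨y, h1 (by rw [← k4, map_zero]; exact h7), rfl⟩
    · rintro ⟨y, hy, rfl⟩
      exact ⟨by rw [SetLike.mem_coe, LinearMap.mem_ker, k4, hy, map_zero],
        h2 ▸ LinearMap.mem_range_self e y⟩
  obtain ⟨v, hv, hv0⟩ := lv_exists_notMem (W := LinearMap.ker N)
    (W' := LinearMap.ker N ⊓ LinearMap.ker φ) (by omega)
  have hv1 : φ v ≠ 0 := fun h => hv0 ⟨hv, h⟩
  have k8 := lv_finrank_inf_ker hv hv1
  obtain ⟨u, hu, hu0⟩ := lv_exists_notMem (W := LinearMap.ker (g * Z - 1)) (W' := ⊥)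
    (by simp [k1.2])
  have hu1 : (g * Z) u = u := by simpa [sub_eq_zero] using hu
  have hu2 : φ u ≠ 0 := fun h => hu0 (h6 u 1 h (by simpa using hu1))
  obtain ⟨C, hC, huC, k, hk, hkC⟩ : ∃ C : Submodule F V, (∀ x ∈ C, N x ∈ C) ∧ u ∈ C ∧
      ∃ k, N k = 0 ∧ k ∉ C := by
    by_cases h : N u = 0
    · obtain ⟨k, hk, hk0⟩ := lv_exists_notMem (W := LinearMap.ker N) (W' := F ∙ u)
        (by rw [finrank_span_singleton (by simpa using hu0)]; omega)
      refine ⟨F ∙ u, fun x hx => ?_, Submodule.mem_span_singleton_self u, k, hk, hk0⟩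
      obtain ⟨c, rfl⟩ := Submodule.mem_span_singleton.1 hx
      simp [h]
    · let T : F[X] →ₗ[F] V := LinearMap.applyₗ u ∘ₗ (aeval N).toLinearMap
      refine ⟨LinearMap.range T, ?_, ⟨1, by simp [T]⟩, v, hv, ?_⟩
      · rintro _ ⟨p, rfl⟩
        exact ⟨X * p, by simp [T]⟩
      · rintro ⟨p, hp⟩
        have hp : aeval N p u = v := hp
        have h0 : p.coeff 0 ≠ 0 := fun h0 => hv1 <| by
          obtain ⟨p, rfl⟩ := X_dvd_iff.2 h0
          rw [← hp, map_mul, aeval_X, End.mul_apply, k3]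
        have hi : IsUnit (aeval N p) := by
          rw [← X_mul_divX_add p, map_add, map_mul, aeval_X, aeval_C]
          refine (Commute.isNilpotent_mul_right ?_ k5).isUnit_add_right_of_commute
            (h0.isUnit.map _) (Algebra.commutes _ _).symm
          simpa using (Commute.all X p.divX).map (aeval N)
        refine h (((End.isUnit_iff _).1 hi).1 ?_)
        rw [← aeval_intertwine N (fun _ => rfl), hp, map_zero]
        exact hv
  obtain ⟨θ₀, hθ₀, hθ₀'⟩ := lv_exists_dual hkC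
  obtain ⟨θ, hθ, hθ', hθ''⟩ : ∃ θ : Dual F V, θ k ≠ 0 ∧ (∀ x ∈ C, θ x = 0) ∧
      ∀ y, (g * Z - 1) y = u → θ y ≠ -1 := by
    obtain ⟨t, ht0, ht1⟩ := hF
    have key : ∀ y y', (g * Z - 1) y = u → (g * Z - 1) y' = u → θ₀ y = θ₀ y' := fun y y' h h' => by
      obtain ⟨c, hc⟩ := (finrank_eq_one_iff_of_nonzero' (⟨u, hu⟩ : LinearMap.ker (g * Z - 1))
        (by simpa using hu0)).1 k1.2 ⟨y - y', by rw [LinearMap.mem_ker, map_sub, h, h', sub_self]⟩
      have : θ₀ (y - y') = 0 := by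
        rw [← show c • u = y - y' from congrArg Subtype.val hc, map_smul, hθ₀' u huC, smul_zero]
      rwa [map_sub, sub_eq_zero] at this
    by_cases h : ∃ y, (g * Z - 1) y = u ∧ θ₀ y = -1
    · obtain ⟨y, hy, hy'⟩ := h
      exact ⟨t • θ₀, by simp [hθ₀, ht0], fun x hx => by simp [hθ₀' x hx],
        fun y' h => by simp [key y' y h hy, hy', ht1]⟩
    · exact ⟨θ₀, by simp [hθ₀], hθ₀', fun y h1 h2 => h ⟨y, h1, h2⟩⟩
  have hZu : Z u ∈ C := by simpa [hN] using C.add_mem (hC u huC) huC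
  refine ⟨Z + θ.smulRight (Z u), rUn_of_le ?_ ?_, rUn_of_le ?_ ?_⟩
  · rw [add_sub_right_comm]
    exact isNilpotent_add_smulRight k5 hC hZu hθ'
  · have := lv_finrank_inf_ker (U := LinearMap.ker N) hk hθ
    refine (Submodule.finrank_mono (t := LinearMap.ker N ⊓ LinearMap.ker θ) fun y hy => ?_).trans
      (by omega)
    rw [add_sub_right_comm, LinearMap.mem_ker, LinearMap.add_apply, ← hN] at hy
    have : θ y = 0 := by simpa [k3, h4, hu2] using congrArg φ hy
    exact ⟨by simpa [this] using hy, this⟩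
  all_goals
    rw [show g * (Z + θ.smulRight (Z u)) - 1 = g * Z - 1 + θ.smulRight u by
      ext y; simp [show g (Z u) = u from hu1, add_sub_right_comm]]
  · refine isNilpotent_add_smulRight k1.1 (C := F ∙ u) (fun x hx => ?_)
      (Submodule.mem_span_singleton_self u) fun x hx => hθ' x
        ((Submodule.span_singleton_le_iff_mem _ _).2 huC hx)
    obtain ⟨c, rfl⟩ := Submodule.mem_span_singleton.1 hx
    rw [map_smul, hu, smul_zero]
    exact zero_mem _
  · refine (Submodule.finrank_mono fun y hy => ?_).trans k1.2.le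
    rw [LinearMap.mem_ker, LinearMap.add_apply, LinearMap.smulRight_apply] at hy
    by_cases h0 : θ y = 0
    · simpa [h0] using hy
    · refine absurd ?_ (hθ'' (-(θ y)⁻¹ • y) ?_)
      · simp [h0]
      · rw [map_smul, eq_neg_of_add_eq_zero_left hy]
        simp [smul_smul, h0]

end CF.Classical
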