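import Cfsg.Agent.Classical.MinDegSp
import Cfsg.Agent.Geom.UMat

/-! Lower bounds for cross-characteristic representations of special unitary groups. -/

set_option autoImplicit false

open Module CF.Geom

namespace CF.Classical

section bichar

variable {F X K V : Type*} [Field F] [AddCommGroup X] [Module F X] [Field K] [AddCommGroup V]
  [Module K V]

theorem card_mul_le_of_wsp_le [FiniteDimensional K V] {ι : Type*} (f : ι → Module.End K V)
    {P : Type*} [Finite P] (L : P → ι → K) {c : ℕ} (U : Submodule K V)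
    (hd : ∀ p, 1 ≤ finrank K (wsp f (L p))) (hU : ∀ p, wsp f (L p) ≤ U)
    (hc : ∀ p, Nat.card {p' // L p' = L p} ≤ c) : Nat.card P ≤ c * finrank K U := by
  classical
  have := Fintype.ofFinite P
  have h1 : (Finset.univ : Finset P).card ≤ c * (Finset.univ.image L).card := by
    refine Finset.card_le_mul_card_image _ _ fun l hl => ?_
    obtain ⟨p, -, rfl⟩ := Finset.mem_image.1 hl
    refine le_trans (le_of_eq ?_) (hc p)
    rw [Nat.card_eq_fintype_card, Fintype.card_subtype]
  have h2 : (Finset.univ.image L).card * 1 ≤ finrank K U := by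
    refine le_trans ?_ ((sum_finrank_wsp_eq f (Finset.univ.image L)).trans_le
      (Submodule.finrank_mono (Finset.sup_le fun l hl => ?_)))
    · rw [← smul_eq_mul]
      refine Finset.card_nsmul_le_sum _ _ _ fun l hl => ?_
      obtain ⟨p, -, rfl⟩ := Finset.mem_image.1 hl
      exact hd p
    · obtain ⟨p, -, rfl⟩ := Finset.mem_image.1 hl
      exact hU p
  rw [Nat.card_eq_fintype_card, ← Finset.card_univ]
  exact h1.trans (Nat.mul_le_mul_left _ (by rwa [mul_one] at h2))

/-- Skew-hermitian bicharacters. -/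
structure Bich (σ : F →+* F) (β : X × X → K) : Prop where
  zero : ∀ v, β (v, 0) = 1
  add : ∀ v w w', β (v, w + w') = β (v, w) * β (v, w')
  smul : ∀ a v w, β ((a : F) • v, w) = β (v, σ a • w)
  swap : ∀ v w, β (w, v) = β (v, -w)

variable {σ : F →+* F} {β : X × X → K}

theorem Bich.add_left (h : Bich σ β) (v v' w : X) : β (v + v', w) = β (v, w) * β (v', w) := by
  rw [h.swap, neg_add, h.add, ← h.swap, ← h.swap]

/-- The character `s ↦ β (v, s v)`. -/
def Bich.val (h : Bich σ β) (v : X) : AddChar F K where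
  toFun s := β (v, s • v)
  map_zero_eq_one' := by rw [zero_smul, h.zero]
  map_add_eq_mul' s t := by rw [add_smul, h.add]

theorem Bich.bound [Finite F] [FiniteDimensional F X] [FiniteDimensional K V] (h : Bich σ β)
    {v : X} (hv : h.val v ≠ 1) {k : ℕ} (hk : ∀ c, Nat.card {a : F // σ a * a = c} ≤ k)
    (f : X × X → Module.End K V) {d : ℕ}
    (hd : ∀ (x x' : X) (φ φ' : Dual F X), φ x = 1 → φ' x' = 1 → ∃ g : X ≃ₗ[F] X, g x = x' ∧
      (∀ y, φ' (g y) = φ y) ∧ d ≤ finrank K (wsp f fun p => β (g p.1, g p.2))) :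
    (Nat.card X - 1) * d ≤ k * finrank K V := by
  have : Finite X := Module.finite_of_finite F
  have : Finite (Dual F X) := Module.finite_of_finite F
  obtain ⟨φ, hφ⟩ := exists_dual_of_map_add (h.val v) hv (fun w => β (v, w)) (h.zero v) (h.add v)
  have hφ1 : φ v = 1 := eq_of_psi_mul _ hv fun s => by
    rw [← smul_eq_mul, ← map_smul, ← hφ, mul_one]; rfl
  have hv0 : v ≠ 0 := fun e => by simp [e] at hφ1
  have : Nontrivial X := ⟨v, 0, hv0⟩
  choose g hg1 hg2 hg3 using
    fun p : {p : (Fin 1 → X) × (Fin 1 → Dual F X) // DualFr p.1 p.2} =>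
      hd (p.1.1 0) v (p.1.2 0) φ (p.2.1 0) hφ1
  have h0 := card_mul_le_of_wsp f (fun p q => β (g p q.1, g p q.2)) hg3
    (c := Nat.card {y // True ∧ h.val y = h.val v}) fun p => by
      refine Nat.card_le_card_of_injective (fun p' => ⟨g p (p'.1.1.1 0), trivial, ?_⟩)
        fun a b e => ?_
      · ext s
        have := congrFun p'.2 (p'.1.1.1 0, s • p'.1.1.1 0)
        simp only [map_smul, hg1] at this
        exact this.symm
      · have h1 : a.1.1.1 0 = b.1.1.1 0 := (g p).injective (congrArg Subtype.val e)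
        have h2 : a.1.1.2 0 = b.1.1.2 0 := LinearMap.ext fun z => eq_of_psi_mul _ hv fun s => by
          have ea := congrFun a.2 (a.1.1.1 0, s • z)
          have eb := congrFun b.2 (b.1.1.1 0, s • z)
          simp only [hg1, hφ, hg2, map_smul, smul_eq_mul] at ea eb
          rw [ea, eb, h1]
        refine Subtype.ext (Subtype.ext (Prod.ext (funext fun i => ?_) (funext fun i => ?_)))
        · rw [Subsingleton.elim i 0, h1]
        · rw [Subsingleton.elim i 0, h2]
  have h1 := card_dualFr (F := F) (X := X) (k := 1) finrank_pos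
  simp only [Finset.univ_unique, Finset.prod_singleton, Fin.default_eq_zero, Fin.val_eq_zero,
    pow_zero, mul_one, pow_one] at h1
  rw [← Module.natCard_eq_pow_finrank] at h1
  have hval : ∀ w b s, φ w = 0 → h.val (w + b • v) s = h.val w s * h.val v (s * (σ b * b)) := by
    intro w b s hw
    change β (w + b • v, s • (w + b • v)) = β (w, s • w) * β (v, (s * (σ b * b)) • v)
    rw [h.add_left, smul_add, h.add, h.add, h.swap (s • b • v) w, smul_smul, h.smul, h.smul, h.smul,
      hφ (σ (s * b) • -w), hφ (σ b • s • w), smul_smul (σ b) (s * b)]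
    simp only [map_smul, map_neg, hw, neg_zero, smul_zero, AddChar.map_zero_eq_one, mul_one,
      one_mul]
    rw [show σ b * (s * b) = s * (σ b * b) by ring]
  have h3 := card_mul_le_of_lines (F := F) (fun _ : X => True) (fun y => h.val y = h.val v) v
    (fun _ _ _ => trivial) (k := k) fun y _ => by
      by_cases hne : Nonempty {t : F // h.val (y + t • v) = h.val v}
      swap
      · rw [not_nonempty_iff] at hne; simp
      obtain ⟨t0, ht0⟩ := hne
      have hy : ∀ t : F, y + t • v = (y - φ y • v) + (φ y + t) • v := fun t => by module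
      have hw : φ (y - φ y • v) = 0 := by simp [hφ1]
      have hN : ∀ t : {t : F // h.val (y + t • v) = h.val v},
          σ (φ y + t) * (φ y + t) = σ (φ y + t0) * (φ y + t0) := fun t => by
        refine eq_of_psi_mul _ hv fun s => ?_
        have e1 := DFunLike.congr_fun (t.2.trans ht0.symm) s
        rw [hy, hy t0, hval _ _ _ hw, hval _ _ _ hw] at e1
        exact mul_left_cancel₀ ((h.val _).val_isUnit _).ne_zero e1
      exact le_trans (Nat.card_le_card_of_injective (fun t => ⟨φ y + t.1, hN t⟩) fun a b e =>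
        Subtype.ext (add_left_cancel (congrArg Subtype.val e))) (hk (σ (φ y + t0) * (φ y + t0)))
  rw [Nat.card_congr (Equiv.subtypeUnivEquiv fun _ => trivial)] at h3
  refine Nat.le_of_mul_le_mul_right ?_ (Nat.card_pos (α := X))
  calc _ = _ * d := by rw [mul_right_comm, ← h1]
    _ = _ * Nat.card F := mul_right_comm _ _ _
    _ ≤ _ * Nat.card F := Nat.mul_le_mul_right _ h0
    _ = _ * finrank K V := mul_right_comm _ _ _
    _ ≤ _ := by rw [mul_right_comm k]; exact Nat.mul_le_mul_right _ h3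

end bichar

variable {F W K V : Type*} [Field F] [AddCommGroup W] [Module F W] [Field K] [AddCommGroup V]
  [Module K V] {σ : F →+* F} {B : W →ₛₗ[σ] W →ₗ[F] F} [FiniteDimensional F W]

/-- Eichler maps as elements of the special unitary group. -/
def suE (hH : IsHerm B) {e w : W} {c : F} (he : B e e = 0) (hw : B e w = 0)
    (hc : c + σ c = B w w) : suSub B := ⟨uEich hH he hw hc, mem_suSub.2 (det_uEich hH he hw hc)⟩

theorem suE_apply (hH : IsHerm B) {e w : W} {c : F} (he : B e e = 0) (hw : B e w = 0)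
    (hc : c + σ c = B w w) (x : W) :
    (suE hH he hw hc).1.1 x = x + B e x • w - B w x • e - (c * B e x) • e := uEich_apply hH he hw hc x

omit [FiniteDimensional F W] in
theorem su_ext {g h : suSub B} (e : ∀ x, g.1.1 x = h.1.1 x) : g = h :=
  Subtype.ext (Subtype.ext (LinearEquiv.ext e))

omit [FiniteDimensional F W] in
theorem su_mul_apply (g h : suSub B) (x : W) : (g * h).1.1 x = g.1.1 (h.1.1 x) := rfl

/-- Elements of the Siegel radical. -/
def suU (hH : IsHerm B) {X : Submodule F W} (hX : ∀ x ∈ X, ∀ y ∈ X, B x y = 0) (p : X × X) :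
    suSub B := suE hH (e := p.1) (w := p.2) (c := 0) (hX _ p.1.2 _ p.1.2) (hX _ p.1.2 _ p.2.2)
      (by rw [hX _ p.2.2 _ p.2.2, map_zero, add_zero])

theorem suU_apply (hH : IsHerm B) {X : Submodule F W} (hX : ∀ x ∈ X, ∀ y ∈ X, B x y = 0)
    (v w : X) (x : W) : (suU hH hX (v, w)).1.1 x = x + B v x • (w : W) - B w x • (v : W) := by
  simp [suU, suE_apply]

theorem suU_comm (hH : IsHerm B) {X : Submodule F W} (hX : ∀ x ∈ X, ∀ y ∈ X, B x y = 0)
    (a b : X × X) : suU hH hX a * suU hH hX b = suU hH hX b * suU hH hX a := by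
  have hO : ∀ x y : X, B x y = 0 := fun x y => hX _ x.2 _ y.2
  refine su_ext fun x => ?_
  simp only [su_mul_apply, suU, suE_apply, map_add, map_sub, map_smul, hO, smul_eq_mul]
  module

theorem suU_add (hH : IsHerm B) {X : Submodule F W} (hX : ∀ x ∈ X, ∀ y ∈ X, B x y = 0)
    (v w w' : X) : suU hH hX (v, w + w') = suU hH hX (v, w) * suU hH hX (v, w') := by
  have hO : ∀ x y : X, B x y = 0 := fun x y => hX _ x.2 _ y.2
  refine su_ext fun x => ?_
  simp only [su_mul_apply, suU_apply, map_add, map_sub, map_smul, hO, smul_eq_mul,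
    Submodule.coe_add, LinearMap.add_apply]
  module

theorem suU_zero (hH : IsHerm B) {X : Submodule F W} (hX : ∀ x ∈ X, ∀ y ∈ X, B x y = 0)
    (v : X) : suU hH hX (v, 0) = 1 := su_ext fun x => by simp [suU_apply]

theorem suU_pow (hH : IsHerm B) {X : Submodule F W} (hX : ∀ x ∈ X, ∀ y ∈ X, B x y = 0)
    (v w : X) (k : ℕ) : suU hH hX (v, w) ^ k = suU hH hX (v, (k : F) • w) := by
  induction k with
  | zero => simp [suU_zero]
  | succ k ih => rw [pow_succ, ih, ← suU_add, Nat.cast_succ, add_smul, one_smul]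

theorem bich_of_wsp (hH : IsHerm B) {X : Submodule F W} (hX : ∀ x ∈ X, ∀ y ∈ X, B x y = 0)
    (ρ : suSub B →* Module.End K V) {β : X × X → K} {u : V} (hu0 : u ≠ 0)
    (hu : u ∈ wsp (fun p => ρ (suU hH hX p)) β) : Bich σ β where
  zero v := eq_of_smul_eq hu0 (by rw [← hu]; simp [suU_zero])
  add v w w' := eq_of_smul_eq hu0 (by rw [← hu, ← wt_mul ρ (hu _) (hu _), ← suU_add])
  smul a v w := eq_of_smul_eq hu0 (by
    rw [← hu, ← hu]; dsimp only; congr 2
    refine su_ext fun x => ?_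
    simp only [suU_apply, Submodule.coe_smul, LinearMap.map_smulₛₗ, LinearMap.smul_apply, hH.invol,
      smul_eq_mul]
    module)
  swap v w := eq_of_smul_eq hu0 (by
    rw [← hu, ← hu]; dsimp only; congr 2
    refine su_ext fun x => ?_
    simp only [suU_apply, Submodule.coe_neg, map_neg, LinearMap.neg_apply]
    module)

omit [FiniteDimensional F W] in
theorem exists_restrict_equiv {X : Submodule F W} [FiniteDimensional F X] (g : W ≃ₗ[F] W)
    (hg : ∀ x ∈ X, g x ∈ X) : ∃ h : X ≃ₗ[F] X, ∀ x : X, (h x : W) = g x :=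
  ⟨LinearEquiv.ofInjectiveEndo ((g : W →ₗ[F] W).restrict hg) fun _ _ e =>
    Subtype.ext (g.injective (congrArg Subtype.val e)), fun _ => rfl⟩

theorem exists_su_frame (hH : IsHerm B) (hB : B.Nondegenerate) {X : Submodule F W}
    (hX : ∀ x ∈ X, ∀ y ∈ X, B x y = 0)
    (h : 2 ≤ finrank F X ∨ ∃ p, B p p ≠ 0 ∧ ∀ y ∈ X, B p y = 0) {x x' : X} {φ φ' : Dual F X}
    (h1 : φ x = 1) (h2 : φ' x' = 1) : ∃ (t : suSub B) (g : X ≃ₗ[F] X),
      (∀ y : X, t.1.1 y = g y) ∧ g x = x' ∧ ∀ y, φ' (g y) = φ y := by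
  have hW := hH.wittPair hB
  obtain ⟨g, hg1, hg2⟩ := DualFr.exists_equiv (x := fun _ : Unit => x) (x' := fun _ => x')
    (φ := fun _ => φ) (φ' := fun _ => φ') ⟨fun _ => h1, fun _ _ h => (h rfl).elim⟩
    ⟨fun _ => h2, fun _ _ h => (h rfl).elim⟩
  obtain ⟨t, ht1, ht2, ht3⟩ := hW.extend_equiv X X g
    (fun x y => by rw [hX _ (g x).2 _ (g y).2, hX _ x.2 _ y.2])
    (fun x => by rw [hX _ (g x).2 _ (g x).2, hX _ x.2 _ x.2])
  let t' : UG B := ⟨t, ht1, ht2⟩
  rcases h with h | ⟨p, hp, hp'⟩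
  · have hk : LinearMap.ker φ' ≠ ⊥ := fun e => by
      have := φ'.finrank_range_add_finrank_ker
      have := (LinearMap.range φ').finrank_le
      rw [e, finrank_bot] at *
      simp only [finrank_self] at *
      omega
    obtain ⟨e, he, he0⟩ := (Submodule.ne_bot_iff _).1 hk
    rw [LinearMap.mem_ker] at he
    have hee := hX _ e.2 _ e.2
    obtain ⟨f, hf1, hf2, hf3⟩ := hW.exists_partner (x := (e : W)) (Z := F ∙ (x' : W)) (fun h => by
      obtain ⟨a, ha⟩ := Submodule.mem_span_singleton.1 h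
      have ha' : a • x' = e := Subtype.ext ha
      have := congrArg φ' ha'
      rw [map_smul, h2, he, smul_eq_mul, mul_one] at this
      exact he0 (by rw [← ha', this, zero_smul])) (by simp [hee])
      (fun z hz => hX _ ((Submodule.span_singleton_le_iff_mem _ _).2 x'.2 hz) _ e.2)
    have hf1' : B f f = 0 := by simpa using hf1
    obtain ⟨l, hl⟩ := exists_uDil_mul_mem hH hB hee hf1' hf2 t'
    have hy : ∀ y : X, (uDil hH hee hf1' hf2 l * t').1 y =
        (g y + ((l - 1) * B f (g y)) • e : X) := fun y => by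
      change (uDil hH hee hf1' hf2 l).1 (t y) = _
      rw [uDil_apply, ht3, hX _ e.2 _ (g y).2]; simp
    obtain ⟨g', hg'⟩ := exists_restrict_equiv (X := X) (uDil hH hee hf1' hf2 l * t').1
      fun y hy' => by rw [hy ⟨y, hy'⟩]; exact Subtype.prop _
    have hy' : ∀ y, g' y = g y + ((l - 1) * B f (g y)) • e := fun y =>
      Subtype.ext ((hg' y).trans (hy y))
    refine ⟨⟨_, hl⟩, g', fun y => (hg' y).symm, ?_, fun y => ?_⟩
    · rw [hy', hg1 (), hH.refl (hf3 _ (Submodule.mem_span_singleton_self _))]; simp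
    · rw [hy', map_add, map_smul, he, hg2 ()]; simp
  · have hd := det_UG_norm hB t'
    have hd0 : LinearMap.det (t'.1 : W →ₗ[F] W) ≠ 0 := fun e => by simp [e] at hd
    obtain ⟨r, hr1, -, hr2⟩ := exists_quasiRefl hH hp (l := (LinearMap.det (t'.1 : W →ₗ[F] W))⁻¹)
      (by rw [map_inv₀, ← mul_inv, hd, inv_one])
    refine ⟨⟨r * t', mem_suSub.2 ?_⟩, g, fun y => ?_, hg1 (), hg2 ()⟩
    · change LinearMap.det ((r.1 : W →ₗ[F] W) ∘ₗ (t'.1 : W →ₗ[F] W)) = 1
      rw [LinearMap.det_comp, hr1, inv_mul_cancel₀ hd0]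
    · change r.1 (t y) = _
      rw [ht3, hr2 _ (hp' _ (g y).2)]

theorem finrank_su_comp [FiniteDimensional K V] (hH : IsHerm B) {X : Submodule F W}
    (hX : ∀ x ∈ X, ∀ y ∈ X, B x y = 0) (ρ : suSub B →* Module.End K V) (β : X × X → K)
    (t : suSub B) (g : X ≃ₗ[F] X) (h : ∀ y : X, t.1.1 y = g y) :
    finrank K (wsp (fun p => ρ (suU hH hX p)) β) ≤
      finrank K (wsp (fun p => ρ (suU hH hX p)) fun p => β (g p.1, g p.2)) := by
  refine finrank_wsp_le_of_conj (ρ t⁻¹) (rep_injective ρ _) fun k =>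
    ⟨(g k.1, g k.2), rfl, fun v => rep_conj_apply ρ ?_ v⟩
  rw [inv_inv, mul_assoc, inv_mul_eq_iff_eq_mul]
  refine su_ext fun x => ?_
  simp only [su_mul_apply, suU, suE_apply, map_add, map_sub, map_smul, ← h, UG_map]

theorem exists_su_weight [Finite F] [FiniteDimensional K V] [IsAlgClosed K] (hH : IsHerm B)
    (hB : B.Nondegenerate) (hgen : uTransSub hH = suSub B) {X : Submodule F W}
    (hX : ∀ x ∈ X, ∀ y ∈ X, B x y = 0) (hX0 : X ≠ ⊥) (ρ : suSub B →* Module.End K V) {p : ℕ}
    [CharP F p] (hp : (p : K) ≠ 0) {g : suSub B} (h : ρ g ≠ 1) :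
    ∃ β u, u ≠ 0 ∧ u ∈ wsp (fun p => ρ (suU hH hX p)) β ∧ ∃ (v : X) (s : F), β (v, s • v) ≠ 1 := by
  have hW := hH.wittPair hB
  have hle : ∀ {v : W} (hv : B v v = 0) {s : F} (hs : σ s = -s), uTrans hH hv hs ∈ suSub B :=
    fun hv _ hs => hgen ▸ uTrans_mem hH hv hs
  obtain ⟨v, s, hv, hs, h1⟩ : ∃ (v : W) (s : F) (hv : B v v = 0) (hs : σ s = -s),
      ρ ⟨uTrans hH hv hs, hle hv hs⟩ ≠ 1 := by
    by_contra! hc
    have : uTransSub hH ≤ ρ.ker.map (suSub B).subtype := by
      rw [Subgroup.closure_le]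
      rintro _ ⟨v, s, hv, hs, rfl⟩
      exact ⟨_, hc v s hv hs, rfl⟩
    obtain ⟨g', hg', e⟩ := this (hgen.ge g.2)
    obtain rfl : g' = g := Subtype.ext e
    exact h hg'
  have hv0 : v ≠ 0 := by
    rintro rfl
    refine h1 ?_
    rw [← map_one ρ]; congr 1
    exact su_ext fun u => by simp [uTrans_apply]
  obtain ⟨e, he, he0⟩ := (Submodule.ne_bot_iff X).1 hX0
  obtain ⟨f, hf1, hf2⟩ := hW.exists_hyperbolic he0 (by simp [hX _ he _ he])
  obtain ⟨t, ht, a, ha, hta⟩ := exists_uEich_move_point hH hB (hX _ he _ he) (by simpa using hf1)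
    hf2 hv hv0
  obtain ⟨r, hr⟩ := exists_trace_eq σ (Or.inl hH.ne_id) hH.invol 1 (map_one σ)
  let x : X := a⁻¹ • ⟨e, he⟩
  let t' : suSub B := ⟨t, uEichSub_le_suSub hH ht⟩
  have hx : t.1 x = v := by
    simp only [x, Submodule.coe_smul, map_smul, hta, smul_smul, inv_mul_cancel₀ ha, one_smul]
  have h2 : t' * suU hH hX (x, (s * r) • x) = ⟨uTrans hH hv hs, hle hv hs⟩ * t' := by
    refine su_ext fun y => ?_
    simp only [su_mul_apply, suU_apply, uTrans_apply, map_add, map_sub, map_smul, t', hx,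
      Submodule.coe_smul, LinearMap.map_smulₛₗ, LinearMap.smul_apply, map_mul, hs, smul_eq_mul]
    rw [← hx, UG_map]
    linear_combination (norm := module) hr • (s * B x y) • t.1 x
  have h3 : ρ (suU hH hX (x, (s * r) • x)) ≠ 1 := fun e => h1 (by
    rw [← mul_inv_eq_iff_eq_mul] at h2
    rw [← h2, map_mul, map_mul, e, mul_one, ← map_mul, mul_inv_cancel, map_one])
  have hc : ∀ i j v, ρ (suU hH hX i) (ρ (suU hH hX j) v) = ρ (suU hH hX j) (ρ (suU hH hX i) v) :=
    fun i j v => by rw [← rep_mul_apply, suU_comm, rep_mul_apply]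
  obtain ⟨β, u, hu0, hu, h4⟩ := exists_wt_ne_one (fun p => ρ (suU hH hX p)) hc _
    (fun i => hc i _) hp (by
      rw [← map_pow, suU_pow, CharP.cast_eq_zero, zero_smul, suU_zero, map_one]) h3
  exact ⟨β, u, hu0, hu, x, s * r, fun e => h4 (by rw [hu, e, one_smul])⟩

theorem card_fixed_le_finrank [Finite F] [FiniteDimensional K V] [IsAlgClosed K] (hH : IsHerm B)
    {X : Submodule F W} (hX : ∀ x ∈ X, ∀ y ∈ X, B x y = 0) (ρ : suSub B →* Module.End K V)
    {β : X × X → K} {u : V} (hu0 : u ≠ 0) (hu : u ∈ wsp (fun p => ρ (suU hH hX p)) β) {v : X}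
    (hv : (bich_of_wsp hH hX ρ hu0 hu).val v ≠ 1) {p : W} (hp : B p p ≠ 0)
    (hp' : ∀ y ∈ X, B p y = 0) :
    Nat.card F ≤ Nat.card {a : F // σ a = a} * finrank K (wsp (fun p => ρ (suU hH hX p)) β) := by
  have hO : ∀ x y : X, B x y = 0 := fun x y => hX _ x.2 _ y.2
  have hO1 : ∀ x : X, B p x = 0 := fun x => hp' _ x.2
  have hO2 : ∀ x : X, B x p = 0 := fun x => hH.refl (hp' _ x.2)
  choose c hc using fun r : F => hH.exists_trace (r • p)
  let E : F → suSub B := fun r => suE hH (hO v v) (w := r • p) (by rw [map_smul, hO2, smul_zero])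
    (hc r)
  have hE : ∀ r x, (E r).1.1 x = x + B v x • r • p - (σ r * B p x) • (v : W) -
      (c r * B v x) • (v : W) := fun r x => by
    simp only [E, suE_apply, LinearMap.map_smulₛₗ, LinearMap.smul_apply, smul_eq_mul]
  have hEU : ∀ r i, E r * suU hH hX i = suU hH hX i * E r := fun r i => su_ext fun x => by
    simp only [su_mul_apply, suU, suE_apply, hE, map_add, map_sub, map_smul, hO, hO1, hO2,
      smul_eq_mul]
    module
  have ha : σ (B p p) = B p p := hH.eq p p
  have hEE : ∀ r (t : F), σ t = t →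
      E t * E r = E r * E t * suU hH hX (v, (-(r * t * B p p)) • v) := fun r t ht =>
    su_ext fun x => by
      simp only [su_mul_apply, suU_apply, hE, map_add, map_sub, map_smul, hO, hO1, hO2,
        smul_eq_mul, Submodule.coe_smul, LinearMap.map_smulₛₗ, LinearMap.smul_apply, map_neg,
        map_mul, ht, ha]
      module
  set U := wsp (fun p => ρ (suU hH hX p)) β
  have hUE : ∀ r, ∀ x ∈ U, ρ (E r) x ∈ U := fun r x hx i => by
    rw [← rep_mul_apply, ← hEU, rep_mul_apply, hx, map_smul]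
  set ψ := (bich_of_wsp hH hX ρ hu0 hu).val v
  have hψ : ∀ s, σ s = s → ψ s = 1 := fun s hs => eq_of_smul_eq hu0 (by
    have : suU hH hX (v, s • v) = 1 := su_ext fun x => by
      simp only [suU_apply, Submodule.coe_smul, LinearMap.map_smulₛₗ, LinearMap.smul_apply, hs,
        smul_eq_mul, OneMemClass.coe_one, LinearEquiv.coe_one, id]
      module
    have h1 := hu (v, s • v)
    simp only [this, map_one] at h1
    rw [one_smul]; exact h1.symm)
  have hEE' : ∀ r (t : F), σ t = t → ∀ x ∈ U,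
      ρ (E t) (ρ (E r) x) = ψ (-(r * t * B p p)) • ρ (E r) (ρ (E t) x) := fun r t ht x hx => by
    rw [← rep_mul_apply, hEE r t ht, rep_mul_apply, hx, map_smul, rep_mul_apply]; rfl
  let f : (X × X) ⊕ {a : F // σ a = a} → Module.End K V :=
    Sum.elim (fun p => ρ (suU hH hX p)) fun t => ρ (E t)
  obtain ⟨l, w, hwU, hw0, hw⟩ := exists_joint_eigen (fun t : {a : F // σ a = a} => ρ (E t)) U
    (fun e => hu0 (by rwa [e] at hu)) (fun t => hUE t) fun t t' x hx => by
      rw [hEE' _ _ t.2 x hx, hψ _ (by simp [t.2, t'.2, ha]), one_smul]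
  refine card_mul_le_of_wsp_le f
    (fun r => Sum.elim β fun t => ψ (-(r * t * B p p)) * l t) U (fun r => ?_)
    (fun r x hx i => hx (.inl i)) fun r => ?_
  · refine one_le_finrank_wsp (v := ρ (E r) w) (fun e => hw0 (rep_injective ρ (E r) (by simp [e])))
      fun i => ?_
    rcases i with i | t
    · exact hUE r w hwU i
    · simp only [f, Sum.elim_inr]
      rw [hEE' _ _ t.2 w hwU, hw t, map_smul, smul_smul]
  · refine Nat.card_le_card_of_injective (fun r' => ⟨r'.1 - r, ?_⟩) fun a b e =>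
      Subtype.ext (sub_left_injective (congrArg Subtype.val e))
    have hl : ∀ t, l t ≠ 0 := fun t e => hw0 (rep_injective ρ (E t) (by rw [hw t, e]; simp))
    have h1 : ∀ t, σ t = t → ψ ((r'.1 - r) * t * B p p) = 1 := fun t ht => by
      have := mul_right_cancel₀ (hl ⟨t, ht⟩) (congrFun r'.2 (.inr ⟨t, ht⟩))
      rw [show (r'.1 - r) * t * B p p = -(r * t * B p p) - -(r'.1 * t * B p p) by ring,
        AddChar.map_sub_eq_div, this, div_self (ψ.val_isUnit _).ne_zero]
    generalize r'.1 - r = δ at h1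
    by_contra hδ
    refine hv (AddChar.ext _ _ fun s => ?_)
    have hδ' : δ - σ δ ≠ 0 := sub_ne_zero.2 (Ne.symm hδ)
    have hδ'' : σ δ - δ ≠ 0 := sub_ne_zero.2 hδ
    have ht : σ ((s - σ s) / ((δ - σ δ) * B p p)) = (s - σ s) / ((δ - σ δ) * B p p) := by
      rw [map_div₀, map_mul, map_sub, map_sub, hH.invol, hH.invol, ha]
      field_simp; ring
    rw [← sub_add_cancel s (δ * ((s - σ s) / ((δ - σ δ) * B p p)) * B p p), AddChar.map_add_eq_mul,
      h1 _ ht, hψ, mul_one, AddChar.one_apply]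
    rw [map_sub, map_mul, map_mul, ht, ha]
    field_simp; ring

theorem su_bound [Finite F] [FiniteDimensional K V] [IsAlgClosed K] (hH : IsHerm B)
    (hB : B.Nondegenerate) (hgen : uTransSub hH = suSub B) {X : Submodule F W}
    (hX : ∀ x ∈ X, ∀ y ∈ X, B x y = 0) (ρ : suSub B →* Module.End K V) {p : ℕ}
    [CharP F p] (hp : (p : K) ≠ 0) {g : suSub B} (h : ρ g ≠ 1) {k : ℕ}
    (hk : ∀ c, Nat.card {a : F // σ a * a = c} ≤ k) {q : ℕ} (hq : Nat.card F = q ^ 2)
    (hq' : Nat.card {a : F // σ a = a} = q) :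
    (2 ≤ finrank F X → Nat.card X - 1 ≤ k * finrank K V) ∧
    ((∃ p, B p p ≠ 0 ∧ ∀ y ∈ X, B p y = 0) → (Nat.card X - 1) * q ≤ k * finrank K V) := by
  by_cases hX0 : X = ⊥
  · subst hX0; simp
  obtain ⟨β, u, hu0, hu, v, s, hv⟩ := exists_su_weight hH hB hgen hX hX0 ρ hp h
  have hb := bich_of_wsp hH hX ρ hu0 hu
  have hv' : hb.val v ≠ 1 := AddChar.ne_one_iff.2 ⟨s, hv⟩
  have key : ∀ d, d ≤ finrank K (wsp (fun p => ρ (suU hH hX p)) β) →
      (2 ≤ finrank F X ∨ ∃ p, B p p ≠ 0 ∧ ∀ y ∈ X, B p y = 0) →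
      (Nat.card X - 1) * d ≤ k * finrank K V := fun d hd h2 =>
    hb.bound hv' hk _ fun x x' φ φ' h1 h1' => by
      obtain ⟨t, g, e1, e2, e3⟩ := exists_su_frame hH hB hX h2 h1 h1'
      exact ⟨g, e2, e3, hd.trans (finrank_su_comp hH hX ρ β t g e1)⟩
  refine ⟨fun h2 => ?_, fun h2 => key q ?_ (Or.inr h2)⟩
  · simpa using key 1 (one_le_finrank_wsp hu0 hu) (Or.inl h2)
  · obtain ⟨p, hp, hp'⟩ := h2
    have := card_fixed_le_finrank hH hX ρ hu0 hu hv' hp hp'
    rw [hq, hq', pow_two] at this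
    refine Nat.le_of_mul_le_mul_left this (Nat.pos_of_ne_zero ?_)
    rintro rfl
    exact Nat.card_pos.ne' (hq.trans (by simp))

theorem exists_max_iso [Finite F] (hH : IsHerm B) (hB : B.Nondegenerate) :
    ∃ X : Submodule F W, (∀ x ∈ X, ∀ y ∈ X, B x y = 0) ∧ finrank F X = finrank F W / 2 ∧
      (Odd (finrank F W) → ∃ p, B p p ≠ 0 ∧ ∀ y ∈ X, B p y = 0) := by
  have hW := hH.wittPair hB
  obtain ⟨m, e, f, hf, ha⟩ := hW.exists_witt_decomp
  have h1 := hf.finrank_perp hW
  have h2 : finrank F (perp B (hypSpan F e f)) ≤ 1 := by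
    by_contra! h
    obtain ⟨v, hv, hv0, hv1⟩ := exists_isotropic_mem hH.ne_id hH.invol hH.symm h
    exact hv0 (ha v hv (by simp [hv1]))
  rw [Fintype.card_fin] at h1
  refine ⟨Submodule.span F (Set.range e), fun x hx y hy => mem_perp.1
    (IsWittPair.span_le_perp_span hf.ee hy) x hx, ?_, fun ho => ?_⟩
  · rw [finrank_span_eq_card (hf.linearIndependent_left hW), Fintype.card_fin]; omega
  · have : perp B (hypSpan F e f) ≠ ⊥ := fun h => by
      rw [h, finrank_bot] at h1
      obtain ⟨k, hk⟩ := ho; omega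
    obtain ⟨p, hp, hp0⟩ := (Submodule.ne_bot_iff _).1 this
    refine ⟨p, fun h => hp0 (ha p hp (by simp [h])), fun y hy => hH.refl (mem_perp.1 hp y ?_)⟩
    rw [hypSpan_eq_sup]
    exact Submodule.mem_sup_left hy

theorem SU_bound {F : Type*} [Field F] [Fintype F] {n q : ℕ} (hF : Fintype.card F = q ^ 2)
    (hn : 3 ≤ n) (hex : ¬ (n = 3 ∧ q = 2)) [FiniteDimensional K V] [IsAlgClosed K]
    (ρ : Cfsg.SU n F q →* Module.End K V) {p : ℕ} [CharP F p] (hp : (p : K) ≠ 0)
    {g : Cfsg.SU n F q} (h : ρ g ≠ 1) :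
    (Even n → q ^ n - 1 ≤ (q + 1) * finrank K V) ∧ (Odd n → q ^ n - q ≤ (q + 1) * finrank K V) := by
  obtain ⟨σ, hσ, h1, h2⟩ := exists_conj hF
  have hH := isHerm_hermSesq (ι := Fin n) h1 h2
  have hB := hermSesq_nondegenerate (ι := Fin n) σ
  let e : Cfsg.SU n F q ≃* suSub (hermSesq (Fin n) σ) :=
    (MonoidHom.ofInjective (suToUG_injective n hσ)).trans
      (MulEquiv.subgroupCongr (suToUG_range n hσ))
  obtain ⟨X, hX, hX1, hX2⟩ := exists_max_iso hH hB
  rw [Module.finrank_fin_fun] at hX1 hX2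
  have hgen := uTransSub_eq_suSub hH hB (by rw [Module.finrank_fin_fun]; omega) (by
    rw [Module.finrank_fin_fun]
    by_cases hq : q = 2
    · right; omega
    · left; simpa only [hσ] using exists_fixed_ne_zero_ne_one hF hq)
  have hq2 := two_le_of_card_eq_sq hF
  obtain ⟨b1, b2⟩ := su_bound hH hB hgen hX (ρ.comp e.symm.toMonoidHom) hp (g := e g)
    (by simpa using h) (k := q + 1) (fun c => by
      by_cases hc : c = 0
      · subst hc
        have : Subsingleton {a : F // σ a * a = 0} := ⟨fun a b => Subtype.ext (by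
          have ha := a.2
          have hb := b.2
          simp only [mul_eq_zero, map_eq_zero, or_self] at ha hb
          rw [ha, hb])⟩
        exact (Finite.card_le_one_iff_subsingleton.2 this).trans (by omega)
      by_cases hne : Nonempty {a : F // σ a * a = c}
      swap
      · rw [not_nonempty_iff] at hne; simp
      obtain ⟨a, ha⟩ := hne
      rw [← card_norm_eq hF hc (by rw [← hσ, ← ha, map_mul, h2, mul_comm])]
      exact le_of_eq (Nat.card_congr (Equiv.subtypeEquivRight fun x => by rw [hσ, pow_succ])))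
    (q := q) (by rw [Nat.card_eq_fintype_card, hF]) (by simpa only [hσ] using card_fixed_eq hF)
  rw [Module.natCard_eq_pow_finrank (K := F), hX1, Nat.card_eq_fintype_card, hF, ← pow_mul] at b1 b2
  refine ⟨fun he => ?_, fun ho => ?_⟩
  · rw [Nat.two_mul_div_two_of_even he] at b1
    exact b1 (by obtain ⟨k, hk⟩ := he; omega)
  · have := b2 (hX2 ho)
    rwa [Nat.sub_mul, one_mul, ← pow_succ, Nat.two_mul_div_two_add_one_of_odd ho] at this

end CF.Classical
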