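import Cfsg.Agent.Classical.Four
import Cfsg.Agent.Classical.SL2b
import Cfsg.Agent.Classical.Transport

/-! Cubics take non-square values; involutions of `PSL₂(q)` with products of odd order. -/

set_option autoImplicit false

open MulAction Subgroup Matrix OnePoint Polynomial
open scoped MatrixGroups

namespace CF.Classical

/-- A cubic over a finite field of odd order at least `11` takes a non-square value. -/
theorem exists_not_isSquare_cubic {F : Type*} [Field F] [Finite F] (ho : Odd (Nat.card F))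
    (h11 : 11 ≤ Nat.card F) {g : F[X]} (hg : g.natDegree = 3) : ∃ c, ¬ IsSquare (g.eval c) := by
  classical
  have := Fintype.ofFinite F
  rw [Nat.card_eq_fintype_card] at ho h11
  obtain ⟨m, hm⟩ := ho
  by_contra hc
  push Not at hc
  have g0 : g ≠ 0 := by rintro rfl; simp at hg
  set T : F[X] := X ^ Fintype.card F - X with hT
  have Tm : T.Monic := by
    refine Monic.sub_of_left (monic_X_pow _) ?_
    rw [degree_X_pow, degree_X]; exact_mod_cast (by omega : 1 < Fintype.card F)
  have Td : T.natDegree = Fintype.card F := FiniteField.X_pow_card_sub_X_natDegree_eq F Fintype.one_lt_card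
  have hq : ((Fintype.card F : ℕ) : F) = 0 := Nat.cast_card_eq_zero F
  have h2 : (2 : F) ≠ 0 := by
    intro h
    rw [hm] at hq
    push_cast at hq
    rw [h] at hq
    simp at hq
  have hP : ∀ c, (g ^ (m + 1) - g).eval c = 0 := by
    intro c
    obtain ⟨r, hr⟩ := hc c
    have := FiniteField.pow_card r
    rw [eval_sub, eval_pow, hr, ← pow_two, ← pow_mul, show 2 * (m + 1) = Fintype.card F + 1 by omega,
      pow_succ, this]
    ring
  obtain ⟨G, hG⟩ : T ∣ g ^ (m + 1) - g := by
    rw [← modByMonic_eq_zero_iff_dvd Tm]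
    refine eq_zero_of_natDegree_lt_card_of_eval_eq_zero' _ Finset.univ (fun c _ => ?_) ?_
    · have h3 := congrArg (eval c) (modByMonic_add_div (g ^ (m + 1) - g) T)
      rw [eval_add, eval_mul, hP, hT, eval_sub, eval_pow, eval_X, FiniteField.pow_card] at h3
      simpa using h3
    · rw [Finset.card_univ, ← Td]
      exact natDegree_modByMonic_lt _ Tm (by rintro h; rw [h] at Td; simp at Td; omega)
  have hPd : (g ^ (m + 1) - g).natDegree = 3 * (m + 1) := by
    rw [natDegree_sub_eq_left_of_natDegree_lt (by rw [natDegree_pow, hg]; omega), natDegree_pow, hg]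
    ring
  have G0 : G ≠ 0 := by rintro rfl; rw [hG] at hPd; simp at hPd
  have Gd : G.natDegree = m + 2 := by
    rw [hG, natDegree_mul Tm.ne_zero G0, Td] at hPd; omega
  have hT' : derivative T = -1 := by
    rw [hT, derivative_sub, derivative_X_pow, derivative_X, hq]; simp
  have hD := congrArg derivative hG
  rw [derivative_sub, derivative_pow, derivative_mul, hT', Nat.add_sub_cancel] at hD
  have hm2 : (2 : F[X]) * C ((m + 1 : ℕ) : F) = 1 := by
    rw [show (2 : F[X]) = C 2 from rfl, ← C_mul, ← C_1]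
    congr 1
    rw [hm] at hq
    push_cast at hq ⊢
    linear_combination hq
  have hW : g * (2 * G - derivative g) = T * (2 * g * derivative G - G * derivative g) := by
    have h5 : g ^ (m + 1) = g * g ^ m := pow_succ' g m
    linear_combination (2 * g) * hD - (derivative g) * hG - (g * g ^ m * derivative g) * hm2 +
      (derivative g) * h5
  have h2G : (2 * G).natDegree = m + 2 := by
    rw [show (2 : F[X]) = C 2 from rfl, natDegree_C_mul h2, Gd]
  have hd' : (derivative g).natDegree < (2 * G).natDegree := by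
    have := natDegree_derivative_lt (p := g) (by omega)
    omega
  have hVd : (2 * G - derivative g).natDegree = m + 2 := by
    rw [natDegree_sub_eq_left_of_natDegree_lt hd', h2G]
  have V0 : 2 * G - derivative g ≠ 0 := by rintro h; rw [h] at hVd; simp at hVd
  have := natDegree_le_of_dvd ⟨_, hW⟩ (mul_ne_zero g0 V0)
  rw [natDegree_mul g0 V0, Td, hg, hVd] at this
  omega

theorem zmod_seven_aux : ∀ α β γ : ZMod 7, -α ^ 2 - β * γ = 1 →
    ∃ a b c : ZMod 7, -a ^ 2 - b * c = 1 ∧ (b - c) ^ 2 = 1 ∧ (2 * α * a + β * c + γ * b) ^ 2 = 1 := by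
  decide +kernel

theorem card_seven_aux {F : Type*} [Field F] (h : Nat.card F = 7) {α β γ : F}
    (e : -α ^ 2 - β * γ = 1) :
    ∃ a b c : F, -a ^ 2 - b * c = 1 ∧ (b - c) ^ 2 = 1 ∧ (2 * α * a + β * c + γ * b) ^ 2 = 1 := by
  have : Fact (Nat.Prime 7) := ⟨by norm_num⟩
  obtain ⟨φ⟩ := nonempty_ringEquiv_zmod (p := 7) h
  obtain ⟨a, b, c, h1, h2, h3⟩ := zmod_seven_aux (φ α) (φ β) (φ γ) (by
    simpa using congrArg φ e)
  refine ⟨φ.symm a, φ.symm b, φ.symm c, φ.injective ?_, φ.injective ?_, φ.injective ?_⟩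
  · simpa using h1
  · simpa using h2
  · simpa [map_ofNat] using h3

theorem odd_orderOf_of_pow {G : Type*} [Group G] {g : G} {n : ℕ} (hn : Odd n) (h : g ^ n = 1) :
    Odd (orderOf g) := hn.of_dvd_nat (orderOf_dvd_of_pow_eq_one h)

theorem odd_orderOf_conj {G : Type*} [Group G] {g : G} (c : G) (h : Odd (orderOf (c * g * c⁻¹))) :
    Odd (orderOf g) := by
  rwa [show c * g * c⁻¹ = (MulAut.conj c) g from rfl, MulEquiv.orderOf_eq] at h

/-- Two involutions fixing a common point have unipotent product. -/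
theorem mul_mem_unip_of_invol {H X : Type*} [Group H] [MulAction H X] [IsKlein H X] [Finite H]
    {x z : H} {a : X} (hx : x * x = 1) (x1 : x ≠ 1) (hz : z * z = 1) (z1 : z ≠ 1)
    (xa : x • a = a) (za : z • a = a) : x * z ∈ unip H a := by
  by_contra hc
  rw [mem_unip, not_or] at hc
  have h1 : (x * z) • a = a := by rw [mul_smul, za, xa]
  obtain ⟨b, ba, hb, -⟩ := exists_second_fixed hc.1 h1 hc.2
  have h2 : x * z ∈ torus H a b := ⟨h1, hb⟩
  have h3 : x * (x * z) * x⁻¹ = (x * z)⁻¹ := by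
    rw [← mul_assoc, hx, one_mul, _root_.mul_inv_rev, inv_eq_of_mul_eq_one_right hz]
  have h4 : x ∈ torus H a b := by
    rcases mem_pairStab_of_conj_mem ba.symm hc.1 h2 (h3 ▸ inv_mem h2) with h | h
    · exact h
    · exact absurd (h.1.symm.trans xa) ba
  have h5 : z ∈ torus H a b := by
    have := mul_mem (inv_mem h4) h2
    rwa [inv_mul_cancel_left] at this
  have := eq_of_mul_self_of_isCyclic (isCyclic_torus ba.symm) h4 h5 hx hz x1 z1
  exact hc.1 (by rw [← this, hx])

variable {F : Type*} [Field F] [Finite F]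

theorem odd_of_fix_two (hq : Nat.card F % 4 = 3) {g : PGL(2, F)} (hg : g ∈ psl F)
    {u v : OnePoint F} (huv : u ≠ v) (hu : g • u = u) (hv : g • v = v) : Odd (orderOf g) := by
  classical
  have := Fintype.ofFinite F
  obtain ⟨e, e1, e2⟩ := exists_smul_two u v huv
  obtain ⟨α, h, hα⟩ := (smul_infty_zero_iff (k := F) (g := e⁻¹ * g * e⁻¹⁻¹)).1
    ⟨by rw [inv_inv, mul_smul, mul_smul, e1, hu, inv_smul_eq_iff, e1],
     by rw [inv_inv, mul_smul, mul_smul, e2, hv, inv_smul_eq_iff, e2]⟩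
  have h1 := instNormalPsl.conj_mem g hg e⁻¹
  rw [hα, aff_mem_psl] at h1
  obtain ⟨r, rfl⟩ := h1
  refine odd_orderOf_conj e⁻¹ (odd_orderOf_of_pow (n := Nat.card F / 2) (Nat.odd_iff.2 (by omega)) ?_)
  rw [hα, aff_zero_pow, aff_eq_one_iff, ← pow_two, ← pow_mul,
    show 2 * (Nat.card F / 2) = Nat.card F - 1 by omega, Nat.card_eq_fintype_card]
  exact ⟨FiniteField.pow_card_sub_one_eq_one r (by rintro rfl; simp at h), rfl⟩

theorem not_isSquare_neg_one_of_card (hq : Nat.card F % 4 = 3) : ¬ IsSquare (-1 : F) := by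
  have := Fintype.ofFinite F
  rw [Nat.card_eq_fintype_card] at hq
  rw [FiniteField.isSquare_neg_one_iff]; simpa using hq

theorem isSquare_neg_of_not (hq : Nat.card F % 4 = 3) {s : F} (hs : ¬ IsSquare s) :
    IsSquare (-s) := by
  classical
  have := Fintype.ofFinite F
  have h1 := (quadraticChar_neg_one_iff_not_isSquare).2 hs
  have h2 := (quadraticChar_neg_one_iff_not_isSquare).2 (not_isSquare_neg_one_of_card hq)
  have s0 : s ≠ 0 := by rintro rfl; exact hs IsSquare.zero
  refine (quadraticChar_one_iff_isSquare (neg_ne_zero.2 s0)).1 ?_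
  rw [← neg_one_mul, map_mul, h1, h2]; simp

omit [Finite F] in
theorem exists_invol_pgl {y : PGL(2, F)} (hy : y ∈ psl F) (y1 : y ≠ 1) (y2 : y * y = 1) :
    ∃ (α β γ : F) (h : -α ^ 2 - β * γ = 1), y = pgl α β γ (-α) (by
      rw [show α * -α - β * γ = 1 by linear_combination h]; exact one_ne_zero) := by
  obtain ⟨a, b, c, d, h, rfl⟩ := exists_pgl y
  have h1 := (sq_eq_one_iff_tau.1 (by rw [pow_two, y2])).resolve_left y1
  rw [tau_pgl, div_eq_zero_iff, pow_eq_zero_iff two_ne_zero] at h1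
  have h2 : d = -a := by linear_combination h1.resolve_right h
  subst h2
  obtain ⟨r, hr⟩ := pgl_mem_psl.1 hy
  have r0 : r ≠ 0 := by rintro rfl; exact h (by simpa using hr)
  refine ⟨a / r, b / r, c / r, by field_simp; linear_combination hr, pgl_congr _ _ r⁻¹ ?_ ?_ ?_ ?_⟩ <;>
    ring

theorem key_three_std (hq : Nat.card F % 4 = 3) (h7 : 7 ≤ Nat.card F) {y : PGL(2, F)}
    (hy : y ∈ psl F) (y1 : y ≠ 1) (y2 : y * y = 1) : ∃ z ∈ psl F, z ≠ 1 ∧ z * z = 1 ∧
      Odd (orderOf (pgl 0 (-1) 1 0 (by simp) * z)) ∧ Odd (orderOf (z * y)) := by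
  obtain ⟨α, β, γ, h, hy'⟩ := exists_invol_pgl hy y1 y2
  have n1 := not_isSquare_neg_one_of_card hq
  rcases (by omega : Nat.card F = 7 ∨ 11 ≤ Nat.card F) with h7 | h11
  · obtain ⟨a, b, c, h1, h2, h3⟩ := card_seven_aux h7 h
    have hd : a * -a - b * c = 1 := by linear_combination h1
    refine ⟨pgl a b c (-a) (by rw [hd]; exact one_ne_zero), pgl_mem_psl.2 (by rw [hd]; exact IsSquare.one), ?_, ?_,
      odd_orderOf_of_pow (n := 3) (by decide) ?_, odd_orderOf_of_pow (n := 3) (by decide) ?_⟩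
    · rw [Ne, pgl_eq_one_iff]
      rintro ⟨rfl, rfl, -⟩
      simp at h2
    · rw [← pow_two, sq_eq_one_iff_tau, tau_pgl]; simp
    · rw [pow_three_eq_one_iff_tau, pgl_mul, tau_pgl, div_eq_one_iff_eq]
      · right; linear_combination h2 - h1
      · intro e; exact one_ne_zero (α := F) (by linear_combination e - h1)
    · rw [pow_three_eq_one_iff_tau, hy', pgl_mul, tau_pgl, div_eq_one_iff_eq]
      · right; linear_combination h3 - (-α ^ 2 - β * γ) * h1 - h
      · intro e; exact one_ne_zero (α := F) (by linear_combination e - (-α ^ 2 - β * γ) * h1 - h)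
  have γ0 : γ ≠ 0 := by
    rintro rfl
    exact n1 ⟨α, by linear_combination h⟩
  have key : ∀ (s : F) (s0 : s ≠ 0), ¬ IsSquare s → ∀ u v : OnePoint F, u ≠ v → y • u = v →
      pgl 0 s 1 0 (by simpa using s0) • u = v → ∃ z ∈ psl F, z ≠ 1 ∧ z * z = 1 ∧
      Odd (orderOf (pgl 0 (-1) 1 0 (by simp) * z)) ∧ Odd (orderOf (z * y)) := by
    intro s s0 hs u v huv hu hz
    have z1 : pgl 0 s 1 0 (by simpa using s0) ∈ psl F :=
      pgl_mem_psl.2 (by simpa using isSquare_neg_of_not hq hs)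
    have z2 : pgl 0 s 1 0 (by simpa using s0) * pgl 0 s 1 0 (by simpa using s0) = 1 := by
      rw [pgl_mul, pgl_eq_one_iff]; simp
    refine ⟨_, z1, by simp [pgl_eq_one_iff], z2, ?_, ?_⟩
    · refine odd_of_fix_two hq (mul_mem (pgl_mem_psl.2 (by simp)) z1) (u := ∞)
        (v := ((0 : F) : OnePoint F)) (by simp) ?_ ?_
      · rw [pgl_mul, pgl_smul_infty_eq_infty]; simp
      · rw [pgl_mul, pgl_smul_coe_eq_coe]; simp
    · refine odd_of_fix_two hq (mul_mem z1 hy) huv ?_ ?_
      · rw [mul_smul, hu, ← hz, ← mul_smul, z2, one_smul]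
      · rw [mul_smul, ← hu, ← mul_smul y y, y2, one_smul, hu, hz]
  by_cases α0 : α = 0
  · refine key (-1) (by simp) n1 ∞ ((0 : F) : OnePoint F) (by simp) ?_ ?_
    · rw [hy', pgl_smul_infty_eq_coe]; simp [α0]
    · rw [pgl_smul_infty_eq_coe]; simp
  obtain ⟨c, hc⟩ := exists_not_isSquare_cubic (F := F) (Nat.odd_iff.2 (by omega)) h11
    (g := X * (C α * X + C β) * (C γ * X - C α)) (by compute_degree!)
  simp only [eval_mul, eval_add, eval_sub, eval_X, eval_C] at hc
  have c0 : c * (α * c + β) * (γ * c - α) ≠ 0 := fun e => hc (e ▸ IsSquare.zero)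
  have c1 : γ * c - α ≠ 0 := right_ne_zero_of_mul c0
  have c2 : c ≠ 0 := left_ne_zero_of_mul (left_ne_zero_of_mul c0)
  have c3 : α * c + β ≠ 0 := right_ne_zero_of_mul (left_ne_zero_of_mul c0)
  have hs : ¬ IsSquare (c * (α * c + β) / (γ * c - α)) := by
    rintro ⟨r, hr⟩
    refine hc ⟨r * (γ * c - α), ?_⟩
    rw [div_eq_iff c1] at hr
    linear_combination (γ * c - α) * hr
  refine key _ (div_ne_zero (mul_ne_zero c2 c3) c1) hs (c : F)
    (((α * c + β) / (γ * c - α) : F) : OnePoint F) ?_ ?_ ?_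
  · intro e
    rw [OnePoint.coe_eq_coe] at e
    exact hs ⟨c, by rw [mul_div_assoc, ← e]⟩
  · rw [hy', pgl_smul_coe_eq_coe]
    simp only [Algebra.algebraMap_self, RingHom.id_apply]
    rw [← sub_eq_add_neg, div_mul_cancel₀ _ c1]
  · rw [pgl_smul_coe_eq_coe]
    simp only [Algebra.algebraMap_self, RingHom.id_apply]
    field_simp; ring

theorem key_three (hq : Nat.card F % 4 = 3) (h7 : 7 ≤ Nat.card F) {x y : PGL(2, F)}
    (hx : x ∈ psl F) (x1 : x ≠ 1) (x2 : x * x = 1)
    (hy : y ∈ psl F) (y1 : y ≠ 1) (y2 : y * y = 1) : ∃ z ∈ psl F, z ≠ 1 ∧ z * z = 1 ∧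
      Odd (orderOf (x * z)) ∧ Odd (orderOf (z * y)) := by
  obtain ⟨c, hc⟩ := exists_conj_invol_PGL hx x1 x2
  obtain ⟨z, h1, h2, h3, h4, h5⟩ := key_three_std hq h7 (instNormalPsl.conj_mem y hy c)
    (by simpa using y1) (by rw [conj_mul, y2]; simp)
  refine ⟨c⁻¹ * z * c⁻¹⁻¹, instNormalPsl.conj_mem z h1 c⁻¹, fun e => h2 (conj_eq_one_iff.1 e),
    by rw [conj_mul, h3]; simp, odd_orderOf_conj c ?_, odd_orderOf_conj c ?_⟩
  · rw [← hc] at h4; convert h4 using 2; group
  · convert h5 using 2; group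

/-- Any two involutions of `PSL₂(q)`, `q ≥ 4`, have a common neighbour (or are close). -/
theorem exists_odd_odd (h4 : 4 ≤ Nat.card F) {x y : PSL(2, F)} (hx : orderOf x = 2)
    (hy : orderOf y = 2) :
    ∃ z, IsConj x z ∧ Odd (orderOf (x * z)) ∧ Odd (orderOf (z * y)) := by
  classical
  have := Fintype.ofFinite F
  have L := isL2_PSL F (AlgebraicClosure F)
  have := L.finite
  have sq : ∀ {g : PSL(2, F)}, orderOf g = 2 → g * g = 1 ∧ g ≠ 1 := fun {g} h =>
    ⟨by have := pow_orderOf_eq_one g; rwa [h, pow_two] at this, by rintro rfl; simp at h⟩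
  obtain ⟨x2, x1⟩ := sq hx
  obtain ⟨y2, y1⟩ := sq hy
  obtain ⟨p, hp⟩ := CharP.exists F
  obtain ⟨n, pp, hn⟩ := FiniteField.card F p
  rw [← Nat.card_eq_fintype_card] at hn
  by_cases h2 : (2 : F) = 0
  · have p2 : p = 2 := by
      have := (CharP.cast_eq_zero_iff F p 2).1 (by exact_mod_cast h2)
      exact (Nat.prime_dvd_prime_iff_eq pp Nat.prime_two).1 this
    subst p2
    have he : Even (Nat.card F) := by rw [hn]; exact (Nat.even_pow' n.ne_zero).2 even_two
    have hu : ∀ {g : PSL(2, F)}, orderOf g = 2 → ∃ a : OnePoint (AlgebraicClosure F), IsUnip g a := by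
      intro g hg
      refine (isUnip_or_mem_torus _ (sq hg).2).resolve_right ?_
      rintro ⟨u, v, huv, h⟩
      have h1 := (L.coprime_card_torus huv).coprime_dvd_left (orderOf_dvd_natCard _ h)
      rw [hg, Nat.coprime_two_left] at h1
      exact (Nat.not_even_iff_odd.2 h1) he
    have ho : ∀ {g h : PSL(2, F)}, orderOf g = 2 → orderOf h = 2 →
        g * h = h * g ∨ Odd (orderOf (g * h)) := by
      intro g h hg hh
      rcases L.orderOf_cases 2 (g * h) with e | e | e
      · left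
        rw [pow_two, mul_eq_one_iff_eq_inv, _root_.mul_inv_rev, inv_eq_of_mul_eq_one_right (sq hg).1,
          inv_eq_of_mul_eq_one_right (sq hh).1] at e
        exact e
      · exact Or.inr (Odd.of_dvd_nat (Nat.Even.sub_odd (by omega) he odd_one)
          ((dvd_mul_right _ _).trans e))
      · exact Or.inr (Odd.of_dvd_nat he.add_one ((dvd_mul_right _ _).trans e))
    rcases ho hx hy with e | e
    swap
    · exact ⟨x, IsConj.refl x, by simp [x2], e⟩
    obtain ⟨a, ha⟩ := hu hx
    have ya : y ∈ unip PSL(2, F) a := mem_unip_of_commute ha e.symm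
    have ya' := (mem_unip.1 ya).resolve_left y1
    obtain ⟨a', rfl⟩ := L.mem_range_of_isUnip ha
    have : Nontrivial (OnePoint F) := ⟨⟨∞, (0 : F), by simp⟩⟩
    obtain ⟨b, hb⟩ := exists_ne a'
    obtain ⟨g, g1, -⟩ := L.exists_swap_ratPt a' b hb.symm
    have hz := ha.conj g
    have oz : orderOf (g * x * g⁻¹) = 2 := by
      rw [show g * x * g⁻¹ = (MulAut.conj g) x from rfl, MulEquiv.orderOf_eq, hx]
    have hne : ∀ w, IsUnip w (ratPt (AlgebraicClosure F) a') → ¬ (g * x * g⁻¹) * w = w * (g * x * g⁻¹) := by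
      intro w hw e
      have h1 := (mem_unip.1 (mem_unip_of_commute hw e)).resolve_left (sq oz).2
      exact hb (ratPt_injective (g1.symm.trans (hz.eq h1)))
    exact ⟨g * x * g⁻¹, isConj_iff.2 ⟨g, rfl⟩, (ho hx oz).resolve_left fun e => hne x ha e.symm,
      (ho oz hy).resolve_left (hne y ya')⟩
  have po : Odd p := pp.odd_of_ne_two (by rintro rfl; exact h2 (CharP.cast_eq_zero F 2))
  have qo : Odd (Nat.card F) := hn ▸ po.pow
  rcases (by obtain ⟨m, hm⟩ := qo; omega : Nat.card F % 4 = 1 ∨ Nat.card F % 4 = 3) with h1 | h3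
  · have hi : (ProjectiveSpecialLinearGroup.toPGL : PSL(2, F) →* PGL(2, F)).range.index = 2 := by
      rw [index_range_pslToPGL, gcd_two_of_odd qo]
    have hr : ∀ {g : PSL(2, F)}, orderOf g = 2 → ∃ u v : OnePoint F, u ≠ v ∧
        g ∈ torus PSL(2, F) (ratPt (AlgebraicClosure F) u) (ratPt (AlgebraicClosure F) v) := by
      intro g hg
      obtain ⟨u, v, huv, h⟩ := L.exists_torus_of_mul_self h2 (sq hg).1
      rcases (L.torus_cases huv ((ne_bot_iff_exists_ne_one).2 ⟨⟨g, h⟩, by simpa using (sq hg).2⟩)).2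
        with ⟨⟨u', v', h5, rfl, rfl⟩, -⟩ | ⟨-, -, h5⟩
      · exact ⟨u', v', h5, h⟩
      · have h6 := orderOf_dvd_natCard _ h
        rw [hg] at h6
        rw [hi] at h5
        omega
    obtain ⟨a, -, -, ha, -⟩ := hr hx
    obtain ⟨c, hac, hc⟩ : ∃ c, a ≠ c ∧ y • ratPt (AlgebraicClosure F) c = ratPt _ c := by
      obtain ⟨u, v, huv, h5, h6⟩ := hr hy
      by_cases e : a = u
      · exact ⟨v, e ▸ huv, h6⟩
      · exact ⟨u, e, h5⟩
    have h5 := L.card_torus_ratPt hac
    rw [hi] at h5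
    obtain ⟨z, hz⟩ := exists_prime_orderOf_dvd_card' (G := torus PSL(2, F)
      (ratPt (AlgebraicClosure F) a) (ratPt (AlgebraicClosure F) c)) 2 (by omega)
    rw [← orderOf_coe] at hz
    exact ⟨z, isConj_invol_PSL h2 hx hz,
      odd_orderOf_of_pow po (L.pow_eq_one_of_mem_unip p
        (mul_mem_unip_of_invol x2 x1 (sq hz).1 (sq hz).2 ha z.2.1)),
      odd_orderOf_of_pow po (L.pow_eq_one_of_mem_unip p
        (mul_mem_unip_of_invol (sq hz).1 (sq hz).2 y2 y1 z.2.2 hc))⟩
  · set φ := (ProjectiveSpecialLinearGroup.toPGL : PSL(2, F) →* PGL(2, F))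
    have hm : ∀ g, φ g ∈ psl F := fun g => range_pslToPGL (F := F) ▸ ⟨g, rfl⟩
    obtain ⟨z, z0, z1, z2, h5, h6⟩ := key_three h3 (by omega) (hm x) (by simpa using L.inj.ne x1)
      (by rw [← map_mul, x2, map_one]) (hm y) (by simpa using L.inj.ne y1)
      (by rw [← map_mul, y2, map_one])
    rw [← range_pslToPGL] at z0
    obtain ⟨z, rfl⟩ := z0
    rw [← map_mul, orderOf_injective _ L.inj] at h5 h6
    refine ⟨z, isConj_invol_PSL h2 hx (orderOf_eq_prime ?_ (by rintro rfl; simp at z1)), h5, h6⟩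
    exact L.inj (by rw [pow_two, map_mul, z2, map_one])

theorem exists_conj_orderOf_mul_two (h4 : 4 ≤ Nat.card F) {x : PSL(2, F)} (hx : orderOf x = 2) :
    ∃ y, IsConj x y ∧ orderOf (x * y) = 2 := by
  have L := isL2_PSL F (AlgebraicClosure F)
  have := L.finite
  have x2 : x * x = 1 := by have := pow_orderOf_eq_one x; rwa [hx, pow_two] at this
  have x1 : x ≠ 1 := by rintro rfl; simp at hx
  rcases isUnip_or_mem_torus (OnePoint (AlgebraicClosure F)) x1 with ⟨a, ha⟩ | ⟨u, v, huv, h⟩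
  · obtain ⟨a', rfl⟩ := L.mem_range_of_isUnip ha
    have h1 := L.card_stabilizer_ratPt a'
    have h2 := L.card_unip_ratPt a'
    have h3 := L.index_le_two
    have h5 : ¬ stabilizer PSL(2, F) (ratPt (AlgebraicClosure F) a') ≤
        unip _ (ratPt (AlgebraicClosure F) a') := by
      intro e
      have h6 := card_le_of_le e
      rw [h2] at h6
      have h7 : Nat.card F * 3 ≤ Nat.card F * (Nat.card F - 1) := Nat.mul_le_mul_left _ (by omega)
      have := Nat.mul_le_mul h6 h3
      omega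
    obtain ⟨g, g1, g2⟩ := SetLike.not_le_iff_exists.1 h5
    have h6 := conj_mem_unip (mem_unip.2 (Or.inr ha)) g
    rw [mem_stabilizer_iff.1 g1] at h6
    have h7 := unip_comm (mem_unip.2 (Or.inr ha)) h6
    refine ⟨g * x * g⁻¹, isConj_iff.2 ⟨g, rfl⟩, orderOf_eq_prime ?_ fun e => g2 ?_⟩
    · rw [(show Commute x (g * x * g⁻¹) from h7).mul_pow, conj_pow, pow_two, x2]; simp
    · refine mem_unip_of_commute ha ?_
      rw [mul_eq_one_iff_inv_eq, inv_eq_of_mul_eq_one_right x2] at e
      rw [← mul_inv_eq_iff_eq_mul, ← e]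
  · have h2 : (2 : F) ≠ 0 := by
      intro h2
      classical
      have := Fintype.ofFinite F
      have : CharP F 2 := (CharP.charP_iff_prime_eq_zero Nat.prime_two).2 (by exact_mod_cast h2)
      obtain ⟨n, -, hn⟩ := FiniteField.card F 2
      have h1 := (L.coprime_card_torus huv).coprime_dvd_left (orderOf_dvd_natCard _ h)
      rw [hx, Nat.coprime_two_left, Nat.card_eq_fintype_card, hn] at h1
      exact (Nat.not_even_iff_odd.2 h1) ((Nat.even_pow' n.ne_zero).2 even_two)
    obtain ⟨s, s1, s2⟩ :=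
      (L.torus_cases huv ((ne_bot_iff_exists_ne_one).2 ⟨⟨x, h⟩, by simpa using x1⟩)).1
    have sw : ∀ {s : PSL(2, F)}, s • u = v → s • v = u → orderOf s = 2 := fun {s} s1 s2 =>
      orderOf_eq_prime (by rw [pow_two, mul_self_eq_one_of_swap huv s1 s2])
        (by rintro rfl; exact huv (by simpa using s1))
    exact ⟨s, isConj_invol_PSL h2 hx (sw s1 s2),
      sw (by rw [mul_smul, s1, h.2]) (by rw [mul_smul, s2, h.1])⟩

end CF.Classical
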