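import Cfsg.Agent.Classical.PnTow2
import Cfsg.Agent.Classical.PnChar
import Cfsg.Agent.Classical.LowDim3
import Cfsg.Agent.Classical.Four
import Cfsg.Agent.FusB.Dq5
import Cfsg.Agent.S0261
import Cfsg.Agent.S0276

/-! Subgroups of odd index in `PSL` and `PSU` of `2`-power dimension are pronormal. -/

set_option autoImplicit false

namespace CF.Classical

open Matrix Subgroup MatrixGroups

theorem pn_sq_of_qd {S : Type*} [Group S] (h : Cfsg.IsQuasiDihedral S) :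
    ∃ a b : S, a ^ 2 * b ≠ b * a ^ 2 := by
  obtain ⟨n, hn, -, x, y, hx, -, h⟩ := h
  refine ⟨x, y, fun e => ?_⟩
  obtain ⟨m, rfl⟩ : ∃ m, n = m + 3 := ⟨n - 3, by omega⟩
  have h1 : x ^ 2 = x ^ ((2 ^ (m + 2) - 1) * 2) := by
    rw [pow_mul, ← show y * x * y⁻¹ = x ^ (2 ^ (m + 2) - 1) from h, conj_pow, ← e]; simp
  have h3 : 1 ≤ 2 ^ m := Nat.one_le_two_pow
  have h4 : 2 ^ (m + 2) = 4 * 2 ^ m := by ring
  have h5 : 2 ^ (m + 3) = 8 * 2 ^ m := by ring
  have h2 : x ^ 4 = 1 := by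
    rw [show 4 = 2 + 2 from rfl, pow_add]
    nth_rewrite 1 [h1]
    rw [← pow_add, show (2 ^ (m + 2) - 1) * 2 + 2 = 2 ^ (m + 3) by omega, ← hx, pow_orderOf_eq_one]
  have := Nat.le_of_dvd (by norm_num) (hx ▸ orderOf_dvd_of_pow_eq_one h2)
  omega

theorem pn_sq_of_wr {S : Type*} [Group S] (h : Cfsg.IsWreathed S) :
    ∃ a b : S, a ^ 2 * b ≠ b * a ^ 2 := by
  obtain ⟨n, hn, -, x, y, z, hx, -, h1, -, h⟩ := h
  refine ⟨x, z, fun e => ?_⟩
  obtain ⟨m, rfl⟩ : ∃ m, n = m + 2 := ⟨n - 2, by omega⟩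
  have h2 : x ^ 2 = y ^ 2 := by rw [← h, conj_pow, ← e]; simp
  have h3 : x ^ 2 ∈ zpowers x ⊓ zpowers y :=
    ⟨pow_mem (mem_zpowers x) 2, h2 ▸ pow_mem (mem_zpowers y) 2⟩
  rw [h1, mem_bot] at h3
  have := Nat.le_of_dvd (by norm_num) (hx ▸ orderOf_dvd_of_pow_eq_one h3)
  have : 1 ≤ 2 ^ m := Nat.one_le_two_pow
  have h4 : 2 ^ (m + 2) = 4 * 2 ^ m := by ring
  omega

theorem pn_quat {n i : ℕ} (h0 : 0 < i) (h : i < n) :
    (QuaternionGroup.a 1 : QuaternionGroup n) ^ i * QuaternionGroup.xa 0 ≠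
      QuaternionGroup.xa 0 * QuaternionGroup.a 1 ^ i := by
  rw [QuaternionGroup.a_one_pow, QuaternionGroup.a_mul_xa, QuaternionGroup.xa_mul_a]
  intro e
  have e : ((2 * i : ℕ) : ZMod (2 * n)) = 0 := by
    have := QuaternionGroup.xa.inj e
    push_cast
    linear_combination -this
  have := Nat.le_of_dvd (by omega) ((ZMod.natCast_eq_zero_iff _ _).1 e)
  omega

theorem pn_ne_map {G H : Type*} [Group G] [Group H] {f : G →* H} (hf : Function.Injective f)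
    {a b : G} {i : ℕ} (h : a ^ i * b ≠ b * a ^ i) : f a ^ i * f b ≠ f b * f a ^ i :=
  fun e => h (hf (by simpa using e))

variable {F : Type*} [Field F] [Fintype F]

theorem pn_exists_SL2 (hF : Odd (Fintype.card F)) : ∃ P : Subgroup SL(2, F), IsPGroup 2 P ∧
    ∃ a ∈ P, ∃ b ∈ P, a ^ 1 * b ≠ b * a ^ 1 := by
  obtain ⟨P⟩ : Nonempty (Sylow 2 SL(2, F)) := inferInstance
  obtain ⟨k, hk, ⟨e⟩⟩ := Cfsg.Agent.S0261.result hF P
  exact ⟨P, P.isPGroup', _, (e.symm _).2, _, (e.symm _).2, pn_ne_map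
    (f := (P : Subgroup SL(2, F)).subtype.comp e.symm.toMonoidHom)
    ((subtype_injective _).comp e.symm.injective) (pn_quat one_pos (Nat.one_lt_two_pow (by omega)))⟩

theorem pn_base (h2 : (2 : F) ≠ 0) {G : Subgroup (GL (Fin 2) F)} {Γ : Type*} [Group Γ]
    (j : Γ →* GL (Fin 2) F) (hj : Function.Injective j) (h1 : ∀ g, j g ∈ G ∧ (j g).1.det = 1)
    (h3 : ∃ P : Subgroup Γ, IsPGroup 2 P ∧ ∃ a ∈ P, ∃ b ∈ P, a ^ 1 * b ≠ b * a ^ 1)
    (h4 : ∀ T, CF.Loc.IsSyl 2 T G → ∃ a ∈ T, ∃ b ∈ T, a ^ 2 * b ≠ b * a ^ 2) :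
    ∃ T, CF.Loc.IsSyl 2 T G ∧ PnT T := by
  obtain ⟨P, hP, a, ha, b, hb, hab⟩ := h3
  obtain ⟨T, hT, h5⟩ := CF.Loc.exists_isSyl_ge (L := G) (hP.map j) (by
    rintro _ ⟨g, -, rfl⟩; exact (h1 g).1)
  exact ⟨T, hT, pnT_two h2 hT.isPGroup ⟨_, h5 ⟨a, ha, rfl⟩, _, h5 ⟨b, hb, rfl⟩, (h1 a).2, (h1 b).2,
    by simpa using pn_ne_map hj hab⟩ (h4 T hT)⟩

omit [Fintype F] in
theorem pnG_false (φ : F →+* F) (n : ℕ) : pnG False φ (Fin n) = ⊤ :=
  top_unique fun _ _ h => h.elim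

omit [Fintype F] in
theorem pnG_true {φ : F →+* F} {q : ℕ} (hφ : ∀ t, φ t = t ^ q) (n : ℕ) :
    pnG True φ (Fin n) = Cfsg.GU n F q := by
  ext g
  change (True → (g.1.map φ)ᵀ * g.1 = 1) ↔ _
  simp only [Geom.mem_GU, Geom.hermForm_eq hφ, Geom.hermSesq_apply, forall_const]
  refine ⟨fun h u v => ?_, fun h => ?_⟩
  · have := congrArg (fun M => (φ ∘ v) ⬝ᵥ M *ᵥ u) h
    simp only [one_mulVec, ← mulVec_mulVec] at this
    rw [dotProduct_mulVec, vecMul_transpose] at this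
    simpa [dotProduct, RingHom.map_mulVec] using this
  · ext i j
    simpa [mul_apply, one_apply, Pi.single_apply, eq_comm] using h (Pi.single j 1) (Pi.single i 1)

theorem pn_v2_GL (hF : Odd (Fintype.card F)) {n m : ℕ} (h : n = 2 * m) :
    padicValNat 2 (Nat.card (⊤ : Subgroup (GL (Fin n) F))) = m *
      (padicValNat 2 (Fintype.card F - 1) + padicValNat 2 (Fintype.card F ^ 2 - 1)) +
        padicValNat 2 m.factorial := by
  subst h
  rw [card_top, card_GL_field, Geom.v2_prod_gl Fintype.one_lt_card hF]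

theorem pn_v2_add {q n : ℕ} (h1 : 1 < q) (hq : Odd q) (hn : Odd n) :
    padicValNat 2 (q ^ n + 1) = padicValNat 2 (q + 1) := by
  have h2 := Geom.v2_pow_even h1 hq hn.pos.ne'
  have h3 := Geom.v2_sq h1 hq
  have h4 := Geom.v2_sq (Nat.one_lt_pow hn.pos.ne' h1) (hq.pow (n := n))
  rw [Geom.v2_pow_odd h1 hq hn, ← pow_mul, mul_comm] at h4
  rw [padicValNat.eq_zero_of_not_dvd hn.not_two_dvd_nat] at h2
  omega

theorem pn_v2_GU {q : ℕ} (hF : Fintype.card F = q ^ 2) (hq : Odd q) {n m : ℕ} (h : n = 2 * m) :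
    padicValNat 2 (Nat.card (Cfsg.GU n F q)) = m *
      (padicValNat 2 (q + 1) + padicValNat 2 (q ^ 2 - 1)) + padicValNat 2 m.factorial := by
  subst h
  have h1 : 1 < q := by
    by_contra h
    have := Fintype.one_lt_card (α := F)
    rw [hF, show q = 1 by obtain ⟨k, hk⟩ := hq; omega] at this
    simp at this
  rw [Geom.card_GU hF, Geom.v2_odd_pow_mul hq]
  have h0 : ∀ i, (if Even i then q ^ (i + 1) + 1 else q ^ (i + 1) - 1) ≠ 0 := fun i => by
    split_ifs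
    · positivity
    · exact Geom.pow_sub_one_ne h1 (by omega)
  induction m with
  | zero => simp
  | succ m ih =>
    rw [mul_add, mul_one, Finset.prod_range_succ, Finset.prod_range_succ,
      padicValNat.mul (mul_ne_zero (Finset.prod_ne_zero_iff.2 fun i _ => h0 i) (h0 _)) (h0 _),
      padicValNat.mul (Finset.prod_ne_zero_iff.2 fun i _ => h0 i) (h0 _), ih,
      if_pos (by simp), if_neg (by simp), pn_v2_add h1 hq (by simp),
      show 2 * m + 1 + 1 = 2 * (m + 1) by ring, Geom.v2_pow_even h1 hq (by omega),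
      Nat.factorial_succ, padicValNat.mul (by omega) (Nat.factorial_ne_zero _)]
    ring

theorem pn_two_ne (hF : Odd (Fintype.card F)) : (2 : F) ≠ 0 := fun h => by
  have : CharP F 2 := (CharP.charP_iff_prime_eq_zero Nat.prime_two).2 h
  obtain ⟨n, -, hn⟩ := FiniteField.card F 2
  rw [hn] at hF
  exact absurd hF (by simp [Nat.even_pow])

theorem isPronormal_PSL_odd (hF : Odd (Fintype.card F)) (k : ℕ)
    {H : Subgroup (ProjectiveSpecialLinearGroup (Fin (2 ^ (k + 2))) F)} (hH : Odd H.index) :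
    Cfsg.IsPronormal H := by
  have h2 := pn_two_ne hF
  obtain ⟨T, h1, h3⟩ := pn_base h2 (G := ⊤) SpecialLinearGroup.toGL SpecialLinearGroup.toGL_injective
    (fun g => ⟨trivial, g.2⟩) (pn_exists_SL2 hF) fun T hT => by
      obtain ⟨P, rfl⟩ := hT.exists_sylow_top
      obtain ⟨c, d, h6⟩ : ∃ a b : P, a ^ 2 * b ≠ b * a ^ 2 := by
        rw [← Nat.card_eq_fintype_card] at hF
        obtain h | h : Nat.card F % 4 = 1 ∨ Nat.card F % 4 = 3 := by obtain ⟨r, hr⟩ := hF; omega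
        · obtain ⟨m, r, h1, h3, h4⟩ := FusB.exists_one_of_mod h Finite.one_lt_card
          exact pn_sq_of_wr (FusB.wr_GL2' h1 h3 h4 P).1
        · obtain ⟨m, r, h1, h3, h4⟩ := FusB.exists_neg_of_mod h
          exact pn_sq_of_qd (FusB.qd_GL2 h1 h3 h4 P).1
      exact ⟨_, c.2, _, d.2, pn_ne_map (subtype_injective _) h6⟩
  rw [← pnG_false (RingHom.id F)] at h1
  obtain ⟨S, h4, h5⟩ := pn_exists_syl h2 h3 h1 k (by
    rw [pnG_false, pnG_false, pn_v2_GL hF (pow_succ' 2 (k + 1)), pn_v2_GL hF (m := 1) rfl]; simp)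
  exact isPronormal_of_pnN SpecialLinearGroup.toGL SpecialLinearGroup.toGL_injective
    (by rw [toGL_range_eq_ker_det, pnG_false, top_inf_eq]) h4 h5 hH

theorem isPronormal_PSU_odd {q : ℕ} (hF : Fintype.card F = q ^ 2) (hq : Odd q) (k : ℕ)
    {H : Subgroup (Cfsg.PSU (2 ^ (k + 2)) F q)} (hH : Odd H.index) : Cfsg.IsPronormal H := by
  have h2 := pn_two_ne (F := F) (hF ▸ hq.pow)
  obtain ⟨φ, hφ, -⟩ := Geom.exists_conj hF
  have hj : ∀ n, Function.Injective (SpecialLinearGroup.toGL.comp (Cfsg.SU n F q).subtype) :=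
    fun n => SpecialLinearGroup.toGL_injective.comp (subtype_injective _)
  obtain ⟨K, _, _, hK⟩ : ∃ (K : Type) (_ : Field K) (_ : Fintype K), Fintype.card K = q := by
    obtain ⟨p, hchar, n, hp, hn⟩ := FiniteField.card' F
    have : Fact p.Prime := ⟨hp⟩
    have h3 : q ∣ p ^ (n : ℕ) := by rw [← hn, hF]; exact Dvd.intro_left _ (pow_two q).symm
    obtain ⟨l, -, rfl⟩ := (Nat.dvd_prime_pow hp).1 h3
    have h4 : l ≠ 0 := by
      rintro rfl
      exact Fintype.one_lt_card.ne' (hF.trans (by simp))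
    let _ := Fintype.ofFinite (GaloisField p l)
    exact ⟨GaloisField p l, inferInstance, inferInstance, by
      rw [← Nat.card_eq_fintype_card, GaloisField.card p _ h4]⟩
  obtain ⟨T, h1, h3⟩ := pn_base h2 (G := Cfsg.GU 2 F q) _ (hj 2) (fun g => ⟨g.2, g.1.2⟩) (by
    obtain ⟨e⟩ := SU_two_equiv hK hF
    obtain ⟨P, h1, a, ha, b, hb, h3⟩ := pn_exists_SL2 (F := K) (hK ▸ hq)
    exact ⟨_, h1.map e.toMonoidHom, _, ⟨a, ha, rfl⟩, _, ⟨b, hb, rfl⟩, pn_ne_map e.injective h3⟩)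
    fun T hT => by
      obtain ⟨c, d, h6⟩ : ∃ a b : hT.toSylow, a ^ 2 * b ≠ b * a ^ 2 := by
        obtain h | h : q % 4 = 1 ∨ q % 4 = 3 := by obtain ⟨r, hr⟩ := hq; omega
        · exact pn_sq_of_qd (FusB.qd_GU2 hF h _)
        · exact pn_sq_of_wr (FusB.wr_GU2 hF h _)
      exact ⟨_, c.2, _, d.2, pn_ne_map (f := (Cfsg.GU 2 F q).subtype.comp
        (hT.toSylow : Subgroup (Cfsg.GU 2 F q)).subtype)
        ((subtype_injective _).comp (subtype_injective _)) h6⟩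
  rw [← pnG_true hφ] at h1
  obtain ⟨S, h4, h5⟩ := pn_exists_syl h2 h3 h1 k (by
    rw [pnG_true hφ, pnG_true hφ, pn_v2_GU hF hq (pow_succ' 2 (k + 1)), pn_v2_GU hF hq (m := 1) rfl]
    simp)
  refine isPronormal_of_pnN _ (hj _) ?_ h4 h5 hH
  rw [pnG_true hφ, ← toGL_range_eq_ker_det]
  ext g
  exact ⟨fun ⟨x, e⟩ => e ▸ ⟨x.2, x.1, rfl⟩, fun ⟨h6, x, e⟩ => ⟨⟨x, by subst e; exact h6⟩, e⟩⟩

end CF.Classical
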