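import Cfsg.Agent.Classical.PnCls
import Cfsg.Agent.Classical.Dickson
import Cfsg.Agent.Fgs2.Basic
import Cfsg.Agent.S0992

/-! Subgroups of odd index in `PSL₂(q)`, `q` odd, are pronormal. -/

set_option autoImplicit false

namespace CF.Classical

open Matrix Subgroup MatrixGroups MulAction

/-- Products of elements of odd order have odd order. -/
def PnOdd {G : Type*} [Group G] (L : Subgroup G) : Prop :=
  ∀ x ∈ L, ∀ y ∈ L, Odd (orderOf x) → Odd (orderOf y) → Odd (orderOf (x * y))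

section
variable {G G' : Type*} [Group G] [Group G'] {L : Subgroup G}

theorem pnOdd_of_burnside [Finite G] (S : Sylow 2 G) (h : (S : Subgroup G) ≤ L)
    (h1 : normalizer ((S : Subgroup G) : Set G) ⊓ L ≤ centralizer ((S : Subgroup G) : Set G)) :
    PnOdd L := by
  have h2 : normalizer ((S.subtype h : Subgroup L) : Set L) ≤
      centralizer ((S.subtype h : Subgroup L) : Set L) := fun x hx y hy => by
    refine Subtype.ext (h1 ⟨mem_normalizer_fintype fun s hs => ?_, x.2⟩ y hy)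
    exact (mem_normalizer_iff.1 hx ⟨s, h hs⟩).1 hs
  have h3 : ∀ x : L, Odd (orderOf x) → x ∈ (MonoidHom.transferSylow _ h2).ker := fun x hx => by
    obtain ⟨k, hk⟩ := (S.subtype h).isPGroup' (MonoidHom.transferSylow _ h2 x)
    exact pn_eq_one hx (by rw [← map_pow, pow_orderOf_eq_one, map_one]) hk
  intro x hx y hy h4 h5
  have := mul_mem (h3 ⟨x, hx⟩ (by rwa [orderOf_mk])) (h3 ⟨y, hy⟩ (by rwa [orderOf_mk]))
  have h6 := orderOf_dvd_natCard _ this
  rw [MulMemClass.mk_mul_mk, orderOf_mk] at h6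
  exact Nat.not_even_iff_odd.1 fun h7 =>
    MonoidHom.not_dvd_card_ker_transferSylow _ h2 (h7.two_dvd.trans h6)

theorem PnOdd.map (h : PnOdd L) {f : G →* G'} (hf : Function.Injective f) : PnOdd (L.map f) := by
  rintro _ ⟨x, hx, rfl⟩ _ ⟨y, hy, rfl⟩
  rw [← map_mul, orderOf_injective f hf, orderOf_injective f hf, orderOf_injective f hf]
  exact h x hx y hy

theorem PnOdd.comap (h : PnOdd L) {f : G' →* G} (hf : Function.Injective f) :
    PnOdd (L.comap f) := fun x hx y hy h1 h2 => by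
  rw [← orderOf_injective f hf] at h1 h2 ⊢
  rw [map_mul]
  exact h _ hx _ hy h1 h2

theorem PnOdd.not_equiv (h : PnOdd L) {a b : G'} (h1 : a ^ 3 = 1) (h2 : b ^ 3 = 1)
    (h3 : (a * b) ^ 2 = 1) (h4 : a * b ≠ 1) : ¬ Nonempty (L ≃* G') := fun ⟨e⟩ => by
  have := h.comap (f := L.subtype.comp e.symm.toMonoidHom)
    ((subtype_injective _).comp e.symm.injective) a (e.symm a).2 b (e.symm b).2
    (Odd.of_dvd_nat (by decide) (orderOf_dvd_of_pow_eq_one h1))
    (Odd.of_dvd_nat (by decide) (orderOf_dvd_of_pow_eq_one h2))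
  rw [orderOf_eq_prime h3 h4] at this
  exact absurd this (by decide)

end

theorem pn_not_pnOdd_psl {K : Type*} [Field K] {p : ℕ} [CharP K p] (hp : Odd p)
    {H : Subgroup PGL(2, K)} (h : psl K ≤ H) : ¬ PnOdd H := fun h1 => by
  have h2 : ∀ n : ℕ, pgl (1 : K) 1 0 1 (by simp) ^ n = pgl 1 (n : K) 0 1 (by simp) := fun n => by
    induction n with
    | zero => rw [pow_zero, eq_comm, pgl_eq_one_iff]; simp
    | succ n ih => rw [pow_succ, ih, pgl_mul, pgl_eq_pgl_iff]; exact ⟨1, by simp [add_comm]⟩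
  have h3 : ∀ n : ℕ, pgl (1 : K) 0 (-1) 1 (by simp) ^ n = pgl 1 0 (-n : K) 1 (by simp) := fun n => by
    induction n with
    | zero => rw [pow_zero, eq_comm, pgl_eq_one_iff]; simp
    | succ n ih => rw [pow_succ, ih, pgl_mul, pgl_eq_pgl_iff]; exact ⟨1, by simp [add_comm]⟩
  have h4 : Odd (orderOf (pgl (1 : K) 1 0 1 (by simp))) :=
    hp.of_dvd_nat (orderOf_dvd_of_pow_eq_one (by rw [h2, pgl_eq_one_iff]; simp))
  have h5 : Odd (orderOf (pgl (1 : K) 0 (-1) 1 (by simp))) :=
    hp.of_dvd_nat (orderOf_dvd_of_pow_eq_one (by rw [h3, pgl_eq_one_iff]; simp))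
  have h6 : pgl (1 : K) 1 0 1 (by simp) ∈ H := h (pgl_mem_psl.2 (by simp))
  have h7 : pgl (1 : K) 0 (-1) 1 (by simp) ∈ H := h (pgl_mem_psl.2 (by simp))
  have := h1 _ (mul_mem h6 h7) _ h6 (h1 _ h6 _ h7 h4 h5) h4
  rw [orderOf_eq_prime (p := 2) (by
    rw [pow_two, pgl_mul, pgl_mul, pgl_mul, pgl_eq_one_iff]; simp) (by
    rw [pgl_mul, pgl_mul, Ne, pgl_eq_one_iff]; simp)] at this
  exact absurd this (by decide)

variable {F : Type*} [Field F] [Fintype F]

theorem isPronormal_PSL2_four (hF : Odd (Fintype.card F)) [IsSimpleGroup PSL(2, F)]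
    (h4 : 4 ∣ Nat.card PSL(2, F)) (h8 : ¬ 8 ∣ Nat.card PSL(2, F)) {H : Subgroup PSL(2, F)}
    (hH : Odd H.index) : Cfsg.IsPronormal H := by
  have h2 := pn_two_ne hF
  obtain ⟨p, hchar, n, hp, hn⟩ := FiniteField.card' F
  have : Fact p.Prime := ⟨hp⟩
  have hp2 : Odd p := hp.odd_of_ne_two (by rintro rfl; exact h2 (CharP.cast_eq_zero F 2))
  have L := isL2_PSL F (AlgebraicClosure F)
  have := L.finite
  obtain ⟨S, hS⟩ := exists_sylow_le_of_not_dvd_index (p := 2) hH.not_two_dvd_nat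
  obtain ⟨h1, h3⟩ := Cfsg.Agent.S0992.result (G := PSL(2, F)) (fun h => by
      let _ : CommGroup PSL(2, F) := { mul_comm := h.is_comm.comm }
      have := IsSimpleGroup.prime_card (α := PSL(2, F))
      rcases (Nat.dvd_prime this).1 h4 with h | h
      · omega
      · exact absurd (h ▸ this) (by decide))
    (even_iff_two_dvd.2 ((by norm_num : 2 ∣ 4).trans h4)) h8 S
  have h5 : ¬ IsCyclic S := IsKleinFour.not_isCyclic
  obtain ⟨t, s, h6, h7⟩ := exists_isFourPair h1
  have h9 : centralizer ((S : Subgroup PSL(2, F)) : Set PSL(2, F)) = S := by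
    refine le_antisymm (fun g hg => ?_) fun g hg y hy => ?_
    · obtain ⟨x, y, hxy, ht⟩ := L.exists_torus_of_mul_self h2 h6.t2
      rw [h7] at hg ⊢
      exact h6.mem_closure_of_commute hxy ht (hg t (subset_closure (by simp))).symm
        (hg s (subset_closure (by simp))).symm
    · exact congrArg Subtype.val (IsKleinFour.isMulCommutative.is_comm.comm (⟨y, hy⟩ : S) ⟨g, hg⟩)
  refine isPronormal_of_sylow_le S hS fun g hg => or_iff_not_imp_right.2 fun hL => ?_
  set H' := H.map (MulAut.conj g).toMonoidHom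
  have hS' : (S : Subgroup PSL(2, F)) ≤ H' := fun x hx =>
    ⟨g⁻¹ * x * g, hS ((mem_normalizer_iff.1 hg _).2 (by simpa [mul_assoc] using hx)),
      by simp [mul_assoc]⟩
  have h10 : PnOdd (H ⊔ H') := by
    refine pnOdd_of_burnside S (le_sup_of_le_left hS) ?_
    rw [h9] at h3 ⊢
    have h11 := relIndex_mul_relIndex (S : Subgroup PSL(2, F)) _ _
      (le_inf le_normalizer (le_sup_of_le_left hS : _ ≤ H ⊔ H')) inf_le_left
    rw [h3] at h11
    rcases (Nat.dvd_prime Nat.prime_three).1 (Dvd.intro _ h11) with e | e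
    · exact relIndex_eq_one.1 e
    · rw [e] at h11
      exact absurd (mem_inf.1 (relIndex_eq_one.1
        (Nat.eq_of_mul_eq_mul_left (by norm_num) (h11.trans (mul_one 3).symm)) hg)).2 hL
  rcases L.dickson (H ⊔ H') with ⟨x, h⟩ | ⟨x, y, hxy, -, h⟩ | ⟨-, h | h | h⟩ | ⟨-, h⟩ |
    ⟨K, c, J, h, h'⟩
  · obtain ⟨y, hxy, h'⟩ := exists_le_torus ((le_sup_of_le_left hS).trans h)
      (disjoint_iff.1 (IsPGroup.disjoint_of_ne 2 p (by rintro rfl; exact absurd hp2 (by decide))
        _ _ S.isPGroup' (L.isPGroup_unip p _)))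
    exact absurd (isCyclic_of_le_torus hxy h') h5
  · have h11 : ¬ (S : Subgroup PSL(2, F)) ≤ torus _ x y := fun h' => h5 (isCyclic_of_le_torus hxy h')
    have h12 : ∀ J : Subgroup PSL(2, F), (S : Subgroup PSL(2, F)) ≤ J → J ≤ H ⊔ H' →
        Nat.card J = 2 * Nat.card (J ⊓ torus _ x y : Subgroup _) := fun J h1 h2 => by
      obtain ⟨e⟩ := equiv_dihedral_of_le_pairStab hxy (h2.trans h) fun h' => h11 (h1.trans h')
      rw [Nat.card_congr e.toEquiv, DihedralGroup.nat_card]
    have h13 : Nat.card H' = Nat.card H := card_map_of_injective (MulAut.conj g).injective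
    have := isCyclic_torus (H := PSL(2, F)) hxy
    have h14 : H' ⊓ torus _ x y ≤ H ⊓ torus _ x y :=
      Fgs2.le_of_card_dvd_of_isCyclic inf_le_right inf_le_right (dvd_of_eq (by
        rw [h12 _ hS' le_sup_right, h12 _ hS le_sup_left] at h13; omega))
    refine eq_of_le_of_card_ge (fun z hz => ?_) h13.ge
    obtain ⟨w, hw, h15⟩ := SetLike.not_le_iff_exists.1 h11
    rcases mem_pairStab.1 (h (mem_sup_right hz)) with e | e
    · exact (h14 ⟨hz, mem_torus.2 e⟩).1
    · have e' := (mem_pairStab.1 (h (mem_sup_left (hS hw)))).resolve_left fun e => h15 (mem_torus.2 e)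
      exact (mul_mem_cancel_left (hS hw)).1 (h14 ⟨mul_mem (hS' hw) hz,
        mem_torus.2 ⟨by rw [mul_smul, e.1, e'.2], by rw [mul_smul, e.2, e'.1]⟩⟩).1
  · exact absurd h (h10.not_equiv (a := ⟨Equiv.swap 0 1 * Equiv.swap 1 2,
      Equiv.Perm.mem_alternatingGroup.2 (by decide)⟩)
      (b := ⟨Equiv.swap 1 2 * Equiv.swap 2 3, Equiv.Perm.mem_alternatingGroup.2 (by decide)⟩)
      (by decide) (by decide) (by decide) (by decide))
  · exact absurd h (h10.not_equiv (a := Equiv.swap 0 1 * Equiv.swap 1 2)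
      (b := Equiv.swap 1 2 * Equiv.swap 2 3) (by decide) (by decide) (by decide) (by decide))
  · exact absurd h (h10.not_equiv (a := ⟨Equiv.swap 0 1 * Equiv.swap 1 2,
      Equiv.Perm.mem_alternatingGroup.2 (by decide)⟩)
      (b := ⟨Equiv.swap 1 2 * Equiv.swap 2 3, Equiv.Perm.mem_alternatingGroup.2 (by decide)⟩)
      (by decide) (by decide) (by decide) (by decide))
  · exact absurd h (h10.not_equiv (a := ⟨Equiv.swap 0 1 * Equiv.swap 1 2,
      Equiv.Perm.mem_alternatingGroup.2 (by decide)⟩)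
      (b := ⟨Equiv.swap 1 2 * Equiv.swap 2 3, Equiv.Perm.mem_alternatingGroup.2 (by decide)⟩)
      (by decide) (by decide) (by decide) (by decide))
  · have h11 := (h' ▸ h10.map L.inj).comap (subPGL_injective K c)
    rw [comap_map_eq_self_of_injective (subPGL_injective K c)] at h11
    exact absurd h11 (pn_not_pnOdd_psl hp2 h)

theorem isPronormal_PSL2_odd (hF : Odd (Fintype.card F)) [IsSimpleGroup PSL(2, F)]
    {H : Subgroup PSL(2, F)} (hH : Odd H.index) : Cfsg.IsPronormal H := by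
  have h2 := pn_two_ne hF
  obtain ⟨P⟩ : Nonempty (Sylow 2 SL(2, F)) := inferInstance
  obtain ⟨k, hk, ⟨e⟩⟩ := Cfsg.Agent.S0261.result hF P
  have h1 : Nat.card P = 4 * 2 ^ k := by
    rw [Nat.card_congr e.toEquiv, Nat.card_eq_fintype_card, QuaternionGroup.card]
  have h3 := (P : Subgroup SL(2, F)).card_mul_index
  have h4 := card_PSL_two' (F := F)
  rw [← card_SL_two', ← h3, Nat.gcd_eq_left (by
    rw [Nat.card_eq_fintype_card]; obtain ⟨r, hr⟩ := hF; omega), h1] at h4
  rcases hk.eq_or_lt with rfl | hk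
  · have h5 := P.not_dvd_index
    exact isPronormal_PSL2_four hF (by omega) (by omega) hH
  have hj := SpecialLinearGroup.toGL_injective (n := Fin 2) (R := F)
  refine isPronormal_of_pnN SpecialLinearGroup.toGL hj (G := SpecialLinearGroup.toGL.range)
    (T := (P : Subgroup SL(2, F)).map SpecialLinearGroup.toGL)
    (by rw [toGL_range_eq_ker_det, inf_idem])
    (by rw [MonoidHom.range_eq_map]; exact (CF.Loc.isSyl_top P).map _)
    (fun x hx hn => ?_) hH
  refine pn_norm_two h2 (P.isPGroup'.map SpecialLinearGroup.toGL) ⟨_, (e.symm _).2, rfl⟩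
    ⟨_, (e.symm _).2, rfl⟩ (pn_ne_map (f := SpecialLinearGroup.toGL.comp
      ((P : Subgroup SL(2, F)).subtype.comp e.symm.toMonoidHom))
      (hj.comp ((subtype_injective _).comp e.symm.injective))
      (pn_quat two_pos (Nat.pow_lt_pow_right one_lt_two hk))) x hx fun t ht => hn t ht ?_
  obtain ⟨s, -, rfl⟩ := ht
  exact s.2

end CF.Classical
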