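import Cfsg.Agent.Loc.Syl

/-! Iterated wreath products of `2`-subgroups of `GL`: centralisers and odd order normalising
elements are scalar. -/

set_option autoImplicit false

namespace CF.Classical

open Matrix Subgroup

theorem pn_inv_conj {G : Type*} [Group G] {x : G} (hx : Odd (orderOf x)) {P : G → Prop}
    (h : ∀ t, P t → P (x * t * x⁻¹)) (t : G) (ht : P t) : P (x⁻¹ * t * x) := by
  have h1 : ∀ k : ℕ, P (x ^ k * t * (x ^ k)⁻¹) := fun k => by
    induction k with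
    | zero => simpa using ht
    | succ k ih => simpa [pow_succ', mul_assoc] using h _ ih
  have h2 : x ^ (orderOf x - 1) = x⁻¹ := by
    rw [eq_inv_iff_mul_eq_one, ← pow_succ, Nat.sub_add_cancel hx.pos, pow_orderOf_eq_one]
  simpa [h2] using h1 (orderOf x - 1)

theorem pn_commute_of_sq {G : Type*} [Group G] {x z : G} (hx : Odd (orderOf x))
    (h : Commute (x ^ 2) z) : Commute x z := by
  obtain ⟨k, hk⟩ := hx
  have : x = (x ^ 2) ^ (k + 1) := by
    rw [← pow_mul, show 2 * (k + 1) = orderOf x + 1 by omega, pow_succ, pow_orderOf_eq_one, one_mul]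
  rw [this]
  exact h.pow_left _

theorem pn_eq_one {G : Type*} [Group G] {x : G} {n k : ℕ} (hn : Odd n) (h1 : x ^ n = 1)
    (h2 : x ^ 2 ^ k = 1) : x = 1 := by
  rw [← orderOf_eq_one_iff]
  exact Nat.eq_one_of_dvd_coprimes (Nat.Coprime.pow_right k (Nat.coprime_two_right.2 hn))
    (orderOf_dvd_of_pow_eq_one h1) (orderOf_dvd_of_pow_eq_one h2)

variable {F : Type*} [Field F] {ι κ : Type} [Fintype ι] [DecidableEq ι] [Fintype κ]
  [DecidableEq κ]

/-- Scalar matrices. -/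
def PnSc (y : Matrix ι ι F) : Prop := ∃ c : F, y = c • (1 : Matrix ι ι F)

theorem PnSc.comm {y : Matrix ι ι F} (h : PnSc y) (t : Matrix ι ι F) : y * t = t * y := by
  obtain ⟨c, rfl⟩ := h
  simp

/-- Block diagonal matrices. -/
def pnD : GL ι F × GL ι F →* GL (ι ⊕ ι) F where
  toFun x := ⟨fromBlocks x.1.1 0 0 x.2.1, fromBlocks x.1⁻¹.1 0 0 x.2⁻¹.1,
    by simp [fromBlocks_multiply], by simp [fromBlocks_multiply]⟩
  map_one' := Units.ext (by simp)
  map_mul' x y := Units.ext (by simp [fromBlocks_multiply])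

theorem pnD_val (a b : GL ι F) : (pnD (a, b)).1 = fromBlocks a.1 0 0 b.1 := rfl

theorem pnD_mul (a b c d : GL ι F) : pnD (a, b) * pnD (c, d) = pnD (a * c, b * d) :=
  (map_mul pnD _ _).symm

theorem pnD_inv (a b : GL ι F) : (pnD (a, b))⁻¹ = pnD (a⁻¹, b⁻¹) := (map_inv pnD _).symm

theorem pnD_inj {a b c d : GL ι F} (h : pnD (a, b) = pnD (c, d)) : a = c ∧ b = d := by
  have := fromBlocks_inj.1 (congrArg Units.val h)
  exact ⟨Units.ext this.1, Units.ext this.2.2.2⟩

theorem det_pnD (a b : GL ι F) : (pnD (a, b)).1.det = a.1.det * b.1.det := by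
  rw [pnD_val, det_fromBlocks_zero₂₁]

variable (ι F) in
/-- The block swap. -/
def pnS : GL (ι ⊕ ι) F := ⟨fromBlocks 0 1 1 0, fromBlocks 0 1 1 0,
  by simp [fromBlocks_multiply], by simp [fromBlocks_multiply]⟩

theorem pnS_val : (pnS F ι).1 = fromBlocks 0 1 1 0 := rfl

theorem pnS_mul_self : pnS F ι * pnS F ι = 1 := Units.ext (by simp [pnS_val, fromBlocks_multiply])

theorem pnS_inv : (pnS F ι)⁻¹ = pnS F ι := inv_eq_of_mul_eq_one_right pnS_mul_self

theorem pnS_mul_pnD (a b : GL ι F) : pnS F ι * pnD (a, b) = pnD (b, a) * pnS F ι :=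
  Units.ext (by simp [pnS_val, pnD_val, fromBlocks_multiply])

theorem pnD_mul_pnS_val (a b : GL ι F) : (pnD (a, b) * pnS F ι).1 = fromBlocks 0 a.1 b.1 0 := by
  simp [pnS_val, pnD_val, fromBlocks_multiply]

theorem det_pnS (h : Even (Fintype.card ι)) : (pnS F ι).1.det = 1 := by
  have : (pnS F ι).1 = fromBlocks 1 0 0 (-1) * (fromBlocks 1 1 0 1 * fromBlocks 1 0 (-1) 1 *
      fromBlocks 1 1 0 1) := by simp [pnS_val, fromBlocks_multiply]
  rw [this]
  simp [det_neg, h.neg_one_pow]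

variable (ι F) in
/-- The central involution modulo scalars. -/
abbrev pnZ : GL (ι ⊕ ι) F := pnD ((1 : GL ι F), (-1 : GL ι F))

theorem pnZ_val : (pnZ F ι).1 = fromBlocks 1 0 0 (-1) := rfl

theorem pnD_one : pnD ((1 : GL ι F), (1 : GL ι F)) = 1 := map_one pnD

theorem pnD_neg (a b : GL ι F) : pnD (-a, -b) = -pnD (a, b) :=
  Units.ext (by simp [pnD_val, fromBlocks_neg])

theorem pn_val_ne_zero [Nonempty ι] (a : GL ι F) : a.1 ≠ 0 := a.ne_zero

theorem pnD_ne [Nonempty ι] (a b c d : GL ι F) : pnD (a, b) ≠ pnD (c, d) * pnS F ι := fun h => by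
  have := congrArg Units.val h
  rw [pnD_mul_pnS_val, pnD_val] at this
  exact pn_val_ne_zero a (fromBlocks_inj.1 this).1

/-- The wreath product with the group of order two. -/
def pnW (T : Subgroup (GL ι F)) : Subgroup (GL (ι ⊕ ι) F) where
  carrier := {g | ∃ a ∈ T, ∃ b ∈ T, g = pnD (a, b) ∨ g = pnD (a, b) * pnS F ι}
  one_mem' := ⟨1, one_mem _, 1, one_mem _, Or.inl (map_one pnD).symm⟩
  mul_mem' := by
    rintro _ _ ⟨a, ha, b, hb, rfl | rfl⟩ ⟨c, hc, d, hd, rfl | rfl⟩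
    · exact ⟨_, mul_mem ha hc, _, mul_mem hb hd, Or.inl (pnD_mul ..)⟩
    · exact ⟨_, mul_mem ha hc, _, mul_mem hb hd, Or.inr (by rw [← mul_assoc, pnD_mul])⟩
    · exact ⟨_, mul_mem ha hd, _, mul_mem hb hc, Or.inr (by
        rw [mul_assoc, pnS_mul_pnD, ← mul_assoc, pnD_mul])⟩
    · exact ⟨_, mul_mem ha hd, _, mul_mem hb hc, Or.inl (by
        rw [mul_assoc, ← mul_assoc (pnS F ι), pnS_mul_pnD, mul_assoc, pnS_mul_self, mul_one,
          pnD_mul])⟩
  inv_mem' := by
    rintro _ ⟨a, ha, b, hb, rfl | rfl⟩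
    · exact ⟨_, inv_mem ha, _, inv_mem hb, Or.inl (pnD_inv ..)⟩
    · exact ⟨_, inv_mem hb, _, inv_mem ha, Or.inr (by
        rw [_root_.mul_inv_rev, pnS_inv, pnD_inv, pnS_mul_pnD])⟩

variable {T : Subgroup (GL ι F)}

theorem pnD_mem {a b : GL ι F} (ha : a ∈ T) (hb : b ∈ T) : pnD (a, b) ∈ pnW T :=
  ⟨a, ha, b, hb, Or.inl rfl⟩

theorem pnS_mem : pnS F ι ∈ pnW T :=
  ⟨1, one_mem _, 1, one_mem _, Or.inr (by rw [show pnD (1, 1) = 1 from map_one pnD, one_mul])⟩

theorem mem_of_pnD_mem [Nonempty ι] {a b : GL ι F} (h : pnD (a, b) ∈ pnW T) : a ∈ T ∧ b ∈ T := by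
  obtain ⟨c, hc, d, hd, e | e⟩ := h
  · obtain ⟨rfl, rfl⟩ := pnD_inj e
    exact ⟨hc, hd⟩
  · exact absurd e (pnD_ne _ _ _ _)

theorem card_pnW [Nonempty ι] : Nat.card (pnW T) = 2 * Nat.card T ^ 2 := by
  have : Nat.card ((T × T) ⊕ (T × T)) = Nat.card (pnW T) := by
    refine Nat.card_eq_of_bijective (Sum.elim (fun x => ⟨pnD (x.1, x.2), pnD_mem x.1.2 x.2.2⟩)
      fun x => ⟨pnD (x.1, x.2) * pnS F ι, mul_mem (pnD_mem x.1.2 x.2.2) pnS_mem⟩) ⟨?_, ?_⟩
    · rintro (x | x) (y | y) e <;> have e := congrArg Subtype.val e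
      · obtain ⟨h1, h2⟩ := pnD_inj e
        exact congrArg _ (Prod.ext (Subtype.ext h1) (Subtype.ext h2))
      · exact absurd e (pnD_ne _ _ _ _)
      · exact absurd e.symm (pnD_ne _ _ _ _)
      · obtain ⟨h1, h2⟩ := pnD_inj (mul_right_cancel e)
        exact congrArg _ (Prod.ext (Subtype.ext h1) (Subtype.ext h2))
    · rintro ⟨_, a, ha, b, hb, rfl | rfl⟩
      · exact ⟨Sum.inl (⟨a, ha⟩, ⟨b, hb⟩), rfl⟩
      · exact ⟨Sum.inr (⟨a, ha⟩, ⟨b, hb⟩), rfl⟩
  rw [← this]
  by_cases h : Finite T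
  · rw [Nat.card_sum, Nat.card_prod]; ring
  · have : Infinite T := not_finite_iff_infinite.1 h
    simp

theorem isPGroup_pnW (h : IsPGroup 2 T) : IsPGroup 2 (pnW T) := by
  rw [CF.Loc.isPGroup_iff_forall] at h ⊢
  have h1 : ∀ a ∈ T, ∀ b ∈ T, ∃ k, pnD (a, b) ^ 2 ^ k = 1 := fun a ha b hb => by
    obtain ⟨k, hk⟩ := h a ha
    obtain ⟨l, hl⟩ := h b hb
    refine ⟨k + l, ?_⟩
    rw [← map_pow, Prod.pow_mk, pow_add, pow_mul a, hk, mul_comm, pow_mul b, hl, one_pow, one_pow]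
    exact map_one pnD
  rintro _ ⟨a, ha, b, hb, rfl | rfl⟩
  · exact h1 a ha b hb
  · obtain ⟨k, hk⟩ := h1 _ (mul_mem ha hb) _ (mul_mem hb ha)
    refine ⟨k + 1, ?_⟩
    rw [pow_succ', pow_mul, pow_two, mul_assoc, ← mul_assoc (pnS F ι), pnS_mul_pnD, mul_assoc,
      pnS_mul_self, mul_one, pnD_mul, hk]

theorem pn_blocks_of_comm (h2 : (2 : F) ≠ 0) {y : Matrix (ι ⊕ ι) (ι ⊕ ι) F}
    (h : y * (pnZ F ι).1 = (pnZ F ι).1 * y) :
    y = fromBlocks y.toBlocks₁₁ 0 0 y.toBlocks₂₂ := by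
  have key : ∀ B : Matrix ι ι F, -B = B → B = 0 := fun B hB => by
    have : (2 : F) • B = 0 := by rw [two_smul]; nth_rewrite 1 [← hB]; simp
    exact (smul_eq_zero.1 this).resolve_left h2
  conv_lhs => rw [← fromBlocks_toBlocks y]
  rw [← fromBlocks_toBlocks y, pnZ_val] at h
  simp only [fromBlocks_multiply, Units.val_one, Units.val_neg, Matrix.mul_one, Matrix.mul_zero,
    add_zero, zero_add, Matrix.mul_neg, Matrix.one_mul, Matrix.zero_mul, Matrix.neg_mul,
    fromBlocks_inj] at h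
  rw [key _ h.2.1, key _ h.2.2.1.symm]

theorem exists_pnD_of_comm (h2 : (2 : F) ≠ 0) {x : GL (ι ⊕ ι) F} (h : Commute x (pnZ F ι)) :
    ∃ a b, x = pnD (a, b) := by
  have h1 := pn_blocks_of_comm h2 (congrArg Units.val h.eq)
  have h3 := pn_blocks_of_comm h2 (congrArg Units.val h.inv_left.eq)
  have h4 := x.mul_inv
  have h5 := x.inv_mul
  rw [h1, h3, fromBlocks_multiply, ← fromBlocks_one, fromBlocks_inj] at h4 h5
  simp only [Matrix.mul_zero, Matrix.zero_mul, add_zero, zero_add] at h4 h5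
  exact ⟨⟨_, _, h4.1, h5.1⟩, ⟨_, _, h4.2.2.2, h5.2.2.2⟩, Units.ext h1⟩

/-- Odd order elements normalising the determinant one part are scalar. -/
def PnN (T : Subgroup (GL ι F)) : Prop :=
  ∀ x : GL ι F, Odd (orderOf x) → (∀ t ∈ T, t.1.det = 1 → x * t * x⁻¹ ∈ T) → PnSc x.1

/-- The inductive hypothesis. -/
structure PnT (T : Subgroup (GL ι F)) : Prop where
  two : 2 ≤ Fintype.card ι
  ev : Even (Fintype.card ι)
  neg : -1 ∈ T
  pg : IsPGroup 2 T
  cent : ∀ y : Matrix ι ι F, (∀ t ∈ T, t.1.det = 1 → y * t.1 = t.1 * y) → PnSc y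
  norm : ∀ x : GL ι F, Odd (orderOf x) → (∀ t ∈ T, x * t * x⁻¹ ∈ T) → PnSc x.1

namespace PnT

variable (h : PnT T) (h2 : (2 : F) ≠ 0)
include h

theorem ne : Nonempty ι := Fintype.card_pos_iff.1 (by have := h.two; omega)

theorem z_mem : pnZ F ι ∈ pnW T ∧ (pnZ F ι).1.det = 1 :=
  ⟨pnD_mem (one_mem _) h.neg, by simp [det_pnD, det_neg, h.ev.neg_one_pow]⟩

omit h in
theorem z_comm {r : GL (ι ⊕ ι) F} (hr : r ∈ pnW T) :
    r * pnZ F ι = pnZ F ι * r ∨ r * pnZ F ι = -(pnZ F ι * r) := by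
  obtain ⟨a, -, b, -, rfl | rfl⟩ := hr
  · left; simp [pnD_mul]
  · right
    refine Units.ext ?_
    rw [Units.val_neg, Units.val_mul, Units.val_mul (pnZ F ι), pnD_mul_pnS_val, pnZ_val]
    simp [fromBlocks_multiply, fromBlocks_neg]

theorem not_pm : ¬ ∀ t ∈ T, t.1.det = 1 → t = 1 ∨ t = -1 := fun h3 => by
  obtain ⟨i, j, hij⟩ := Fintype.exists_pair_of_one_lt_card (α := ι) h.two
  obtain ⟨c, hc⟩ := h.cent (single i j 1) fun t ht hd => by
    rcases h3 t ht hd with rfl | rfl <;> simp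
  simpa [hij] using congrFun (congrFun hc i) j

include h2

theorem cent_wr (y : Matrix (ι ⊕ ι) (ι ⊕ ι) F)
    (hy : ∀ t ∈ pnW T, t.1.det = 1 → y * t.1 = t.1 * y) : PnSc y := by
  have h1 := pn_blocks_of_comm h2 (hy _ h.z_mem.1 h.z_mem.2)
  generalize y.toBlocks₁₁ = A, y.toBlocks₂₂ = D at h1
  subst h1
  obtain ⟨c, rfl⟩ := h.cent A fun t ht hd => by
    have := hy _ (pnD_mem ht (one_mem _)) (by simp [det_pnD, hd])
    simp only [pnD_val, fromBlocks_multiply, fromBlocks_inj] at this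
    simpa using this.1
  have := hy _ pnS_mem (det_pnS h.ev)
  simp only [pnS_val, fromBlocks_multiply, fromBlocks_inj] at this
  have h3 : c • (1 : Matrix ι ι F) = D := by simpa using this.2.1
  exact ⟨c, by rw [← h3, ← fromBlocks_one, fromBlocks_smul, smul_zero]⟩

theorem eq_z {w : GL (ι ⊕ ι) F} (hw : w ∈ pnW T) (h1 : w * w = 1) (h3 : w ≠ 1) (h4 : w ≠ -1)
    (h5 : ∀ r ∈ pnW T, r.1.det = 1 → r * w = w * r ∨ r * w = -(w * r)) :
    w = pnZ F ι ∨ w = -pnZ F ι := by
  have := h.ne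
  have key : ∀ b : GL ι F, b.1 ≠ -b.1 := fun b hb => by
    have : (2 : F) • b.1 = 0 := by rw [two_smul]; nth_rewrite 1 [hb]; simp
    exact pn_val_ne_zero b ((smul_eq_zero.1 this).resolve_left h2)
  obtain ⟨a, -, b, -, rfl | rfl⟩ := hw
  · have key2 : ∀ a : GL ι F, a * a = 1 → (∀ t ∈ T, t.1.det = 1 → a.1 * t.1 = t.1 * a.1) →
        a = 1 ∨ a = -1 := fun a e ha => by
      obtain ⟨c, hc⟩ := h.cent a.1 ha
      have e := congrArg Units.val e
      obtain ⟨i⟩ := h.ne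
      rw [Units.val_mul, hc] at e
      have e : c * c = 1 := by simpa using congrFun (congrFun e i) i
      rcases mul_self_eq_one_iff.1 e with rfl | rfl
      · exact Or.inl (Units.ext (by simpa using hc))
      · exact Or.inr (Units.ext (by simpa using hc))
    rw [pnD_mul, show (1 : GL (ι ⊕ ι) F) = pnD (1, 1) from (map_one pnD).symm] at h1
    have ha := key2 a (pnD_inj h1).1 fun t ht hd => by
      rcases h5 _ (pnD_mem ht (one_mem _)) (by simp [det_pnD, hd]) with e | e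
      · rw [pnD_mul, pnD_mul] at e
        exact (congrArg Units.val (pnD_inj e).1).symm
      · have e := congrArg Units.val e
        rw [pnD_mul, pnD_mul, Units.val_neg, pnD_val, pnD_val, fromBlocks_neg, fromBlocks_inj] at e
        exact absurd (by simpa using e.2.2.2) (key b)
    have hb := key2 b (pnD_inj h1).2 fun t ht hd => by
      rcases h5 _ (pnD_mem (one_mem _) ht) (by simp [det_pnD, hd]) with e | e
      · rw [pnD_mul, pnD_mul] at e
        exact (congrArg Units.val (pnD_inj e).2).symm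
      · have e := congrArg Units.val e
        rw [pnD_mul, pnD_mul, Units.val_neg, pnD_val, pnD_val, fromBlocks_neg, fromBlocks_inj] at e
        exact absurd (by simpa using e.1) (key a)
    rcases ha with rfl | rfl <;> rcases hb with rfl | rfl
    · exact absurd (map_one pnD) h3
    · exact Or.inl rfl
    · exact Or.inr (by rw [← pnD_neg, neg_neg])
    · exact absurd (by rw [pnD_neg, pnD_one]) h4
  · refine absurd (fun t ht hd => ?_) h.not_pm
    rcases h5 _ (pnD_mem ht (one_mem _)) (by simp [det_pnD, hd]) with e | e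
    · rw [← mul_assoc, pnD_mul, mul_assoc, pnS_mul_pnD, ← mul_assoc, pnD_mul] at e
      exact Or.inl (by simpa using (pnD_inj (mul_right_cancel e)).1)
    · have e := congrArg Units.val e
      rw [← mul_assoc, pnD_mul, mul_assoc, pnS_mul_pnD, ← mul_assoc, pnD_mul, Units.val_neg,
        pnD_mul_pnS_val, pnD_mul_pnS_val, fromBlocks_neg, fromBlocks_inj] at e
      right
      have : t * a = -1 * a := Units.ext (by simpa using e.2.1)
      exact mul_right_cancel this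

theorem norm_wr : PnN (pnW T) := by
  intro x hx hn
  have := h.ne
  have hd : ∀ a t : GL (ι ⊕ ι) F, (a * t * a⁻¹).1.det = t.1.det := fun a t => by
    rw [Units.val_mul, Units.val_mul, det_units_conj]
  have hn' := pn_inv_conj hx (P := fun t => t ∈ pnW T ∧ t.1.det = 1)
    fun t ht => ⟨hn t ht.1 ht.2, (hd x t).trans ht.2⟩
  set z : GL (ι ⊕ ι) F := pnZ F ι with hz
  have h0 : (1 : GL ι F) ≠ -1 := fun e => by
    obtain ⟨i⟩ := h.ne
    have e : (1 : F) = -1 := by simpa using congrArg (fun g : GL ι F => g.1 i i) e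
    exact h2 (by linear_combination e)
  have hz2 : z * z = 1 := by rw [hz, pnD_mul]; simpa using pnD_one
  have hz3 : z ≠ 1 := fun e => h0 (pnD_inj (e.trans pnD_one.symm)).2.symm
  have hz4 : z ≠ -1 := fun e => h0 (pnD_inj (e.trans (by rw [pnD_neg, pnD_one]))).1
  have h1 := h.eq_z h2 (hn _ h.z_mem.1 h.z_mem.2) (by
      simp only [mul_assoc, inv_mul_cancel_left]; rw [← mul_assoc z, hz2]; simp)
    (fun e => hz3 (by simpa [mul_inv_eq_iff_eq_mul] using e))
    (fun e => hz4 (mul_left_cancel (a := x) (by simpa [mul_inv_eq_iff_eq_mul] using e))) fun r hr hr' => by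
      rcases z_comm (hn' r ⟨hr, hr'⟩).1 with e | e
      · left
        calc r * (x * z * x⁻¹) = x * (x⁻¹ * r * x * z) * x⁻¹ := by group
          _ = _ := by rw [e]; group
      · right
        calc r * (x * z * x⁻¹) = x * (x⁻¹ * r * x * z) * x⁻¹ := by group
          _ = _ := by rw [e, mul_neg, neg_mul]; group
  have h3 : Commute x z := by
    rcases h1 with e | e
    · exact mul_inv_eq_iff_eq_mul.1 e
    · have e' : x * z = -(z * x) := by rw [← neg_mul]; exact mul_inv_eq_iff_eq_mul.1 e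
      refine pn_commute_of_sq hx ?_
      rw [Commute, SemiconjBy, pow_two, mul_assoc, e', mul_neg, ← mul_assoc, e', neg_mul, neg_neg,
        mul_assoc]
  obtain ⟨a, b, rfl⟩ := exists_pnD_of_comm h2 h3
  have h4 := pow_orderOf_eq_one (pnD (a, b) : GL (ι ⊕ ι) F)
  generalize orderOf (pnD (a, b) : GL (ι ⊕ ι) F) = n at hx h4
  rw [← map_pow, Prod.pow_mk] at h4
  replace h4 := pnD_inj (h4.trans (map_one pnD).symm)
  have h5 : ∀ t ∈ T, a * t * a⁻¹ ∈ T ∧ b * t⁻¹ * b⁻¹ ∈ T := fun t ht => by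
    have := hn _ (pnD_mem ht (inv_mem ht)) (by rw [det_pnD, ← det_mul]; simp)
    rw [pnD_inv, pnD_mul, pnD_mul] at this
    exact mem_of_pnD_mem this
  have ha := h.norm a (hx.of_dvd_nat (orderOf_dvd_of_pow_eq_one h4.1)) fun t ht => (h5 t ht).1
  have h6 : Commute a b := Units.ext (ha.comm _)
  have h7 : a * b⁻¹ ∈ T := by
    have := mul_mem (hn _ pnS_mem (det_pnS h.ev)) pnS_mem
    rw [pnD_inv, mul_assoc _ (pnS F ι), pnS_mul_pnD, ← mul_assoc, pnD_mul, mul_assoc,
      pnS_mul_self, mul_one] at this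
    exact (mem_of_pnD_mem this).1
  obtain ⟨k, hk⟩ := CF.Loc.isPGroup_iff_forall.1 h.pg _ h7
  have h8 := pn_eq_one hx (by rw [h6.inv_right.mul_pow, h4.1, inv_pow, h4.2]; simp) hk
  obtain rfl : a = b := mul_inv_eq_one.1 h8
  obtain ⟨c, hc⟩ := ha
  exact ⟨c, by rw [pnD_val, hc, ← fromBlocks_one, fromBlocks_smul, smul_zero]⟩

theorem wr : PnT (pnW T) where
  two := by have := h.two; rw [Fintype.card_sum]; omega
  ev := by rw [Fintype.card_sum]; exact Even.add_self _
  neg := by simpa only [pnD_neg, pnD_one] using pnD_mem h.neg h.neg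
  pg := isPGroup_pnW h.pg
  cent := h.cent_wr h2
  norm x hx hn := h.norm_wr h2 x hx fun t ht _ => hn t ht

end PnT

end CF.Classical
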