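import Cfsg.Agent.Classical.PnTow
import Cfsg.Agent.Classical.Pronormal
import Cfsg.Agent.Geom.Wr2

/-! The base of the tower, reindexing, and pronormality from self-normalising Sylow subgroups. -/

set_option autoImplicit false

namespace CF.Classical

open Matrix Subgroup

theorem pn_exists_z {P : Type*} [Group P] [Finite P] (h : IsPGroup 2 P) {a b : P}
    (hn : a * b ≠ b * a) :
    ∃ z : P, z ∉ center P ∧ ∀ t, t * z * t⁻¹ * z⁻¹ ∈ center P := by
  have : Nontrivial (P ⧸ center P) := ⟨QuotientGroup.mk a, 1, fun e =>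
    hn (mem_center_iff.1 ((QuotientGroup.eq_one_iff a).1 e) b).symm⟩
  have := (h.to_quotient (center P)).center_nontrivial
  obtain ⟨⟨w, hw⟩, h1⟩ := exists_ne (1 : center (P ⧸ center P))
  obtain ⟨z, rfl⟩ := QuotientGroup.mk_surjective w
  refine ⟨z, fun hz => h1 (Subtype.ext ((QuotientGroup.eq_one_iff z).2 hz)), fun t => ?_⟩
  rw [← QuotientGroup.eq_one_iff]
  simp only [QuotientGroup.mk_mul, QuotientGroup.mk_inv]
  rw [mem_center_iff.1 hw (t : P ⧸ center P)]
  simp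

variable {F : Type*} [Field F]

theorem pn_lin {y z : Matrix (Fin 2) (Fin 2) F} (hz : ¬ PnSc z) (h : y * z = z * y) :
    ∃ u v : F, y = u • (1 : Matrix (Fin 2) (Fin 2) F) + v • z := by
  have h00 := congrFun (congrFun h 0) 0
  have h01 := congrFun (congrFun h 0) 1
  have h10 := congrFun (congrFun h 1) 0
  simp only [mul_apply, Fin.sum_univ_two] at h00 h01 h10
  have key : ∀ v : F, y 0 1 = v * z 0 1 → y 1 0 = v * z 1 0 → y 0 0 - y 1 1 = v * (z 0 0 - z 1 1) →
      ∃ u v : F, y = u • (1 : Matrix (Fin 2) (Fin 2) F) + v • z := fun v h1 h2 h3 => by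
    refine ⟨y 0 0 - v * z 0 0, v, ?_⟩
    ext i j
    fin_cases i <;> fin_cases j <;> simp [h1, h2]
    linear_combination -h3
  by_cases hb : z 0 1 = 0
  · by_cases hc : z 1 0 = 0
    · have hd : z 0 0 - z 1 1 ≠ 0 := fun e => hz ⟨z 0 0, by
        ext i j
        fin_cases i <;> fin_cases j <;> simp [hb, hc]
        linear_combination -e⟩
      refine key ((y 0 0 - y 1 1) / (z 0 0 - z 1 1)) ?_ ?_ (by field_simp)
      · field_simp; linear_combination -h01
      · field_simp; linear_combination h10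
    · refine key (y 1 0 / z 1 0) ?_ (by field_simp) ?_
      · field_simp; linear_combination h00
      · field_simp; linear_combination -h10
  · refine key (y 0 1 / z 0 1) (by field_simp) ?_ ?_
    · field_simp; linear_combination -h00
    · field_simp; linear_combination h01

theorem pn_comm_two {y w z : Matrix (Fin 2) (Fin 2) F} (hz : ¬ PnSc z) (h : y * z = z * y)
    (h' : w * z = z * w) : y * w = w * y := by
  obtain ⟨u, v, rfl⟩ := pn_lin hz h
  simp [add_mul, mul_add, h']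

theorem pn_anti (h2 : (2 : F) ≠ 0) {s z : GL (Fin 2) F} (h : s * z = -(z * s))
    {y : Matrix (Fin 2) (Fin 2) F} (hz : ¬ PnSc z.1) (h1 : y * z.1 = z.1 * y)
    (h3 : y * s.1 = s.1 * y) : PnSc y := by
  obtain ⟨u, v, rfl⟩ := pn_lin hz h1
  have h4 : s.1 * z.1 = -(z.1 * s.1) := congrArg Units.val h
  simp only [add_mul, mul_add, smul_mul_assoc, mul_smul_comm, Matrix.one_mul, Matrix.mul_one, h4,
    add_right_inj, smul_neg] at h3
  have h5 : (2 * v) • (z * s).1 = 0 := by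
    rw [mul_smul, two_smul, Units.val_mul]; nth_rewrite 1 [h3]; simp
  have h6 := (mul_eq_zero.1 ((smul_eq_zero.1 h5).resolve_right (pn_val_ne_zero _))).resolve_left h2
  exact ⟨u, by simp [h6]⟩

theorem PnSc.conj {ι : Type} [Fintype ι] [DecidableEq ι] {a x : GL ι F}
    (h : PnSc (x * a * x⁻¹).1) : PnSc a.1 := by
  obtain ⟨c, hc⟩ := h
  refine ⟨c, ?_⟩
  have : a = x⁻¹ * (x * a * x⁻¹) * x := by group
  rw [this, Units.val_mul, Units.val_mul, hc]
  simp

variable {T : Subgroup (GL (Fin 2) F)}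

theorem pn_exists_z_two [Finite T] (pg : IsPGroup 2 T) {a b : GL (Fin 2) F}
    (ha : a ∈ T) (hb : b ∈ T) (hab : a * b ≠ b * a) : ∃ z ∈ T, ¬ PnSc z.1 ∧
      (∃ s ∈ T, s * z ≠ z * s) ∧ ∀ t ∈ T, t * z = z * t ∨ t * z = -(z * t) := by
  obtain ⟨z, h1, h3⟩ := pn_exists_z pg (a := ⟨a, ha⟩) (b := ⟨b, hb⟩)
    fun e => hab (congrArg Subtype.val e)
  have h4 : ∃ s ∈ T, s * z ≠ z * s := by
    by_contra! h4
    exact h1 (mem_center_iff.2 fun g => Subtype.ext (h4 g g.2))
  refine ⟨z, z.2, fun h => ?_, h4, fun t ht => ?_⟩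
  · obtain ⟨s, -, hs⟩ := h4
    exact hs (Units.ext (h.comm _).symm)
  have h5 := mem_center_iff.1 (h3 ⟨t, ht⟩)
  obtain ⟨c, hc⟩ : PnSc (t * z * t⁻¹ * z.1⁻¹).1 := by
    by_contra h6
    exact hab (Units.ext (pn_comm_two h6
      (congrArg (fun g : T => g.1.1) (h5 ⟨a, ha⟩)) (congrArg (fun g : T => g.1.1) (h5 ⟨b, hb⟩))))
  have h6 : c * c = 1 := by
    have := congrArg det hc
    rw [Units.val_mul, det_mul, Units.val_mul, Units.val_mul, det_units_conj, ← det_mul] at this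
    simpa [pow_two] using this.symm
  have h7 : t * z = t * z * t⁻¹ * z.1⁻¹ * (z * t) := by group
  rcases mul_self_eq_one_iff.1 h6 with rfl | rfl
  · exact Or.inl (by rw [h7, show t * z * t⁻¹ * z.1⁻¹ = 1 from Units.ext (by simpa using hc), one_mul])
  · exact Or.inr (by
      rw [h7, show t * z * t⁻¹ * z.1⁻¹ = -1 from Units.ext (by simpa using hc), neg_one_mul])

theorem pn_norm_two (h2 : (2 : F) ≠ 0) [Finite T] (pg : IsPGroup 2 T) {a b : GL (Fin 2) F}
    (ha : a ∈ T) (hb : b ∈ T) (hab : a ^ 2 * b ≠ b * a ^ 2) (x : GL (Fin 2) F)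
    (hx : Odd (orderOf x)) (hn : ∀ t ∈ T, x * t * x⁻¹ ∈ T) : PnSc x.1 := by
  obtain ⟨z, hz, h1, ⟨s, hs, h3⟩, h4⟩ := pn_exists_z_two pg (pow_mem ha 2) hb hab
  replace h3 := (h4 s hs).resolve_left h3
  have h5 : ∀ t ∈ T, ¬ PnSc (t ^ 2).1 → t * z = z * t := fun t ht h => by
    refine (h4 t ht).resolve_right fun e => h (pn_anti h2 e h1 ?_ ?_)
    · refine congrArg Units.val (?_ : t ^ 2 * z = z * t ^ 2)
      rw [pow_two, mul_assoc, e, mul_neg, ← mul_assoc, e, neg_mul, neg_neg, mul_assoc]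
    · exact congrArg Units.val ((Commute.refl t).pow_left 2).eq
  have h6 : ¬ PnSc (a ^ 2).1 := fun h => hab (Units.ext (h.comm _))
  have h7 := h5 _ (hn a ha) fun h => h6 (PnSc.conj (x := x) (by rwa [conj_pow] at h))
  have h8 : ¬ PnSc (x * a * x⁻¹).1 := fun h => h6 (by
    obtain ⟨c, hc⟩ := h.conj
    exact ⟨c * c, by rw [pow_two, Units.val_mul, hc]; simp [smul_smul]⟩)
  have h9 : x * z * x⁻¹ * (x * a * x⁻¹) = x * a * x⁻¹ * (x * z * x⁻¹) := by
    simp only [mul_assoc, inv_mul_cancel_left]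
    rw [← mul_assoc z, ← h5 a ha h6, mul_assoc]
  obtain ⟨u, v, e⟩ := pn_lin h1 (pn_comm_two h8 (congrArg Units.val h9)
    (congrArg Units.val h7.symm))
  have ht : z.1.trace = 0 := by
    have : (s * z * s⁻¹).1.trace = z.1.trace := by
      rw [Units.val_mul, Units.val_mul, trace_units_conj]
    rw [h3, neg_mul, mul_inv_cancel_right, Units.val_neg, trace_neg] at this
    exact (mul_eq_zero.1 (show 2 * z.1.trace = 0 by linear_combination -this)).resolve_left h2
  have hu : u = 0 := by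
    have := congrArg trace e
    rw [Units.val_mul, Units.val_mul, trace_units_conj, ht] at this
    simp only [trace_add, trace_smul, ht, trace_one, Fintype.card_fin, smul_eq_mul] at this
    exact (mul_eq_zero.1 (show 2 * u = 0 by push_cast at this; linear_combination -this)).resolve_left h2
  rw [hu, zero_smul, zero_add] at e
  have hv : v * v = 1 := by
    have := congrArg det e
    rw [Units.val_mul, Units.val_mul, det_units_conj, det_smul] at this
    have h0 : z.1.det ≠ 0 := z.det_ne_zero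
    refine mul_right_cancel₀ h0 ?_
    simpa [pow_two] using this.symm
  have h10 : Commute x z := by
    rcases mul_self_eq_one_iff.1 hv with rfl | rfl
    · exact mul_inv_eq_iff_eq_mul.1 (Units.ext (by simpa using e))
    · have e' : x * z = -(z * x) := by
        rw [← neg_mul]; exact mul_inv_eq_iff_eq_mul.1 (Units.ext (by simpa using e))
      refine pn_commute_of_sq hx ?_
      rw [Commute, SemiconjBy, pow_two, mul_assoc, e', mul_neg, ← mul_assoc, e', neg_mul, neg_neg,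
        mul_assoc]
  have h11 : Commute x (s * x⁻¹ * s⁻¹) := by
    refine Units.ext (pn_comm_two h1 (congrArg Units.val h10.eq) (congrArg Units.val
      (?_ : s * x⁻¹ * s⁻¹ * z = z * (s * x⁻¹ * s⁻¹))))
    have e1 : s⁻¹ * z = -(z * s⁻¹) := by
      rw [inv_mul_eq_iff_eq_mul, mul_neg, ← mul_assoc, h3]; simp
    rw [mul_assoc, e1, mul_neg, ← mul_assoc, mul_assoc s, h10.inv_left.eq, ← mul_assoc, h3]
    simp [mul_assoc]
  obtain ⟨k, hk⟩ := CF.Loc.isPGroup_iff_forall.1 pg _ (mul_mem (hn s hs) (inv_mem hs))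
  have h12 := pn_eq_one hx (by
    rw [mul_assoc x, mul_assoc x, h11.mul_pow, conj_pow, inv_pow, pow_orderOf_eq_one]; simp) hk
  refine pn_anti h2 h3 h1 (congrArg Units.val h10.eq) (congrArg Units.val (?_ : x * s = s * x))
  rw [← mul_inv_eq_iff_eq_mul, ← mul_inv_eq_one, h12]

theorem pnT_two (h2 : (2 : F) ≠ 0) [Finite T] (pg : IsPGroup 2 T)
    (h1 : ∃ a ∈ T, ∃ b ∈ T, a.1.det = 1 ∧ b.1.det = 1 ∧ a * b ≠ b * a)
    (h3 : ∃ a ∈ T, ∃ b ∈ T, a ^ 2 * b ≠ b * a ^ 2) : PnT T := by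
  obtain ⟨a, ha, b, hb, h4, h5, h6⟩ := h1
  obtain ⟨c, hc, d, hd, h7⟩ := h3
  refine ⟨by simp, by simp, ?_, pg, fun y hy => ?_, pn_norm_two h2 pg hc hd h7⟩
  · obtain ⟨z, hz, -, ⟨s, hs, h8⟩, h9⟩ := pn_exists_z_two pg ha hb h6
    have := mul_mem (mul_mem hs hz) (inv_mem (mul_mem hz hs))
    rw [(h9 s hs).resolve_left h8] at this
    simpa using this
  · by_contra h8
    exact h6 (Units.ext (pn_comm_two h8 (hy a ha h4).symm (hy b hb h5).symm))

section
variable {ι κ : Type} [Fintype ι] [DecidableEq ι] [Fintype κ] [DecidableEq κ]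

variable (F) in
/-- Reindexing. -/
def pnR (e : ι ≃ κ) : GL ι F ≃* GL κ F := Units.mapEquiv (reindexAlgEquiv F F e).toMulEquiv

theorem pnR_val (e : ι ≃ κ) (g : GL ι F) : (pnR F e g).1 = g.1.submatrix e.symm e.symm := rfl

theorem PnN.reindex {T : Subgroup (GL ι F)} (h : PnN T) (e : ι ≃ κ) :
    PnN (T.map (pnR F e).toMonoidHom) := by
  intro x hx hn
  obtain ⟨x, rfl⟩ := (pnR F e).surjective x
  obtain ⟨c, hc⟩ := h x (by rwa [MulEquiv.orderOf_eq] at hx) fun t ht hd => by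
    obtain ⟨y, hy, e'⟩ := hn _ (mem_map_of_mem _ ht) (by simpa [pnR_val] using hd)
    have : y = x * t * x⁻¹ := (pnR F e).injective (by simpa using e')
    exact this ▸ hy
  exact ⟨c, by rw [pnR_val, hc]; simp [submatrix_smul]⟩

/-- The unitary group of the standard form (or `GL` if `b` is false). -/
def pnG (b : Prop) (φ : F →+* F) (ι : Type) [Fintype ι] [DecidableEq ι] : Subgroup (GL ι F) where
  carrier := {g | b → (g.1.map φ)ᵀ * g.1 = 1}
  one_mem' _ := by simp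
  mul_mem' {g h} hg hh hb := by
    rw [Units.val_mul, Matrix.map_mul, transpose_mul, Matrix.mul_assoc, ← Matrix.mul_assoc _ g.1,
      hg hb, Matrix.one_mul, hh hb]
  inv_mem' {g} hg hb := by
    have h1 : (g.1.map φ)ᵀ = g⁻¹.1 := by
      rw [← Matrix.mul_one (g.1.map φ)ᵀ, ← g.mul_inv, ← Matrix.mul_assoc, hg hb, Matrix.one_mul]
    nth_rewrite 2 [← h1]
    rw [← transpose_mul, ← Matrix.map_mul, g.mul_inv]
    simp

theorem pnW_le {b : Prop} {φ : F →+* F} {T : Subgroup (GL ι F)} (h : T ≤ pnG b φ ι) :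
    pnW T ≤ pnG b φ (ι ⊕ ι) := by
  have h1 : ∀ x ∈ T, ∀ y ∈ T, pnD (x, y) ∈ pnG b φ (ι ⊕ ι) := fun x hx y hy hb => by
    simp [pnD_val, fromBlocks_map, fromBlocks_transpose, fromBlocks_multiply, h hx hb, h hy hb]
  have h3 : pnS F ι ∈ pnG b φ (ι ⊕ ι) := fun hb => by
    simp [pnS_val, fromBlocks_map, fromBlocks_transpose, fromBlocks_multiply]
  rintro _ ⟨x, hx, y, hy, rfl | rfl⟩
  · exact h1 x hx y hy
  · exact mul_mem (h1 x hx y hy) h3

theorem map_pnR_le {b : Prop} {φ : F →+* F} {T : Subgroup (GL ι F)} (h : T ≤ pnG b φ ι)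
    (e : ι ≃ κ) : T.map (pnR F e).toMonoidHom ≤ pnG b φ κ := by
  rintro _ ⟨x, hx, rfl⟩ hb
  change ((x.1.submatrix e.symm e.symm).map φ)ᵀ * x.1.submatrix e.symm e.symm = 1
  rw [← submatrix_map, transpose_submatrix, submatrix_mul_equiv, h hx hb, submatrix_one_equiv]

theorem pn_tower (h2 : (2 : F) ≠ 0) {b : Prop} {φ : F →+* F} {T : Subgroup (GL (Fin 2) F)}
    (h : PnT T) (hle : T ≤ pnG b φ (Fin 2)) (k : ℕ) :
    ∃ (ι : Type) (_ : Fintype ι) (_ : DecidableEq ι) (S : Subgroup (GL ι F)),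
      Fintype.card ι = 2 ^ (k + 1) ∧ PnT S ∧ S ≤ pnG b φ ι ∧
        2 * Nat.card S = (2 * Nat.card T) ^ 2 ^ k := by
  induction k with
  | zero => exact ⟨Fin 2, _, _, T, by simp, h, hle, by simp⟩
  | succ k ih =>
    obtain ⟨ι, _, _, S, h1, h3, h4, h5⟩ := ih
    have := h3.ne
    refine ⟨ι ⊕ ι, _, _, pnW S, by rw [Fintype.card_sum, h1]; ring, h3.wr h2, pnW_le h4, ?_⟩
    rw [card_pnW, pow_succ 2 k, pow_mul, ← h5]; ring

theorem pn_v2_factorial (k : ℕ) : padicValNat 2 (2 ^ k).factorial + 1 = 2 ^ k := by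
  induction k with
  | zero => simp
  | succ k ih => rw [pow_succ', padicValNat_factorial_mul]; omega

theorem pn_exists_syl [Finite F] (h2 : (2 : F) ≠ 0) {b : Prop} {φ : F →+* F}
    {T : Subgroup (GL (Fin 2) F)} (h : PnT T) (hT : CF.Loc.IsSyl 2 T (pnG b φ (Fin 2))) (k : ℕ)
    (hc : padicValNat 2 (Nat.card (pnG b φ (Fin (2 ^ (k + 2))))) = 2 ^ (k + 1) *
      padicValNat 2 (Nat.card (pnG b φ (Fin 2))) + padicValNat 2 (2 ^ (k + 1)).factorial) :
    ∃ S, CF.Loc.IsSyl 2 S (pnG b φ (Fin (2 ^ (k + 2)))) ∧ PnN S := by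
  obtain ⟨ι, _, _, S, h1, h3, h4, h5⟩ := pn_tower h2 h hT.le k
  have := h3.ne
  let e : ι ⊕ ι ≃ Fin (2 ^ (k + 2)) :=
    Fintype.equivFinOfCardEq (by rw [Fintype.card_sum, h1]; ring)
  refine ⟨_, ?_, (h3.norm_wr h2).reindex e⟩
  obtain ⟨P, hP⟩ := CF.Loc.exists_isSyl 2 (pnG b φ (Fin (2 ^ (k + 2))))
  refine hP.of_card_le ((isPGroup_pnW h3.pg).map _) (map_pnR_le (pnW_le h4) e) ?_
  rw [card_map_of_injective (f := (pnR F e).toMonoidHom) (pnR F e).injective, hP.card_eq,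
    Nat.factorization_def _ Nat.prime_two,
    hc]
  refine Nat.le_of_mul_le_mul_left (le_of_eq ?_) two_pos
  rw [card_pnW, show 2 * (2 * Nat.card S ^ 2) = (2 * Nat.card S) ^ 2 by ring, h5, hT.card_eq,
    Nat.factorization_def _ Nat.prime_two, ← pow_succ', ← pow_succ', ← pow_mul, ← pow_mul,
    ← pow_succ 2 k, add_assoc, pn_v2_factorial]
  ring

end

theorem isPronormal_of_selfnorm {Γ : Type*} [Group Γ] [Finite Γ] (R : Sylow 2 Γ)
    (h : ∀ x ∈ normalizer ((R : Subgroup Γ) : Set Γ), Odd (orderOf x) → x ∈ center Γ)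
    {H : Subgroup (Γ ⧸ center Γ)} (hH : Odd H.index) : Cfsg.IsPronormal H := by
  obtain ⟨P, hP⟩ := exists_sylow_le_of_not_dvd_index (p := 2) hH.not_two_dvd_nat
  obtain ⟨g, rfl⟩ := MulAction.exists_smul_eq (Γ ⧸ center Γ)
    (R.mapSurjective (QuotientGroup.mk'_surjective (center Γ))) P
  refine isPronormal_of_sylow_le _ hP fun y hy => Or.inr (mem_sup_left (hP ?_))
  replace hy := Sylow.smul_eq_iff_mem_normalizer.2 hy
  rw [smul_smul, ← inv_smul_eq_iff, smul_smul, ← mul_assoc] at hy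
  replace hy := Sylow.smul_eq_iff_mem_normalizer.1 hy
  obtain ⟨x, hx⟩ := QuotientGroup.mk_surjective (g⁻¹ * y * g)
  rw [← hx] at hy
  have h1 : x ∈ normalizer ((R : Subgroup Γ) : Set Γ) := by
    refine mem_normalizer_fintype fun r hr => ?_
    obtain ⟨s, hs, e⟩ := (mem_normalizer_iff.1 hy (r : Γ ⧸ center Γ)).1 ⟨r, hr, rfl⟩
    have h2 : s⁻¹ * (x * r * x⁻¹) ∈ center Γ := QuotientGroup.eq.1 e
    obtain ⟨k, hk⟩ := CF.Loc.isPGroup_iff_forall.1 R.isPGroup' _ hs
    obtain ⟨l, hl⟩ := CF.Loc.isPGroup_iff_forall.1 R.isPGroup' _ hr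
    have h3 : (s⁻¹ * (x * r * x⁻¹)) ^ 2 ^ (k + l) = 1 := by
      have h4 : Commute s (s⁻¹ * (x * r * x⁻¹)) := mem_center_iff.1 h2 s
      have h5 := h4.mul_pow (2 ^ (k + l))
      rwa [mul_inv_cancel_left, conj_pow, pow_add, pow_mul s, hk, one_pow, one_mul, mul_comm,
        pow_mul r, hl, one_pow, mul_one, mul_inv_cancel, mul_comm, ← pow_add, eq_comm] at h5
    have h4 := (CF.Loc.isSyl_top R).le_of_le_normalizer' (CF.Loc.isPGroup_zpowers h3) le_top
      (zpowers_le.2 (center_le_normalizer _ h2)) (mem_zpowers _)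
    have h5 := mul_mem hs h4
    rwa [mul_inv_cancel_left] at h5
  obtain ⟨k, m, hm, e⟩ := Nat.exists_eq_two_pow_mul_odd (orderOf_pos x).ne'
  have h2 := h _ (pow_mem h1 (2 ^ k)) (by
    rwa [orderOf_pow' _ (by positivity), e, Nat.gcd_eq_right (Dvd.intro _ rfl),
      Nat.mul_div_cancel_left _ (by positivity)])
  have h3 : (x : Γ ⧸ center Γ) ^ 2 ^ k = 1 := (QuotientGroup.eq_one_iff _).2 h2
  have h4 := (CF.Loc.isSyl_top _).le_of_le_normalizer' (CF.Loc.isPGroup_zpowers h3) le_top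
    (zpowers_le.2 hy) (mem_zpowers _)
  exact ⟨_, h4, by simp [hx, mul_assoc]⟩

theorem isPronormal_of_pnN [Finite F] {ι : Type} [Fintype ι] [DecidableEq ι] {Γ : Type*} [Group Γ]
    (j : Γ →* GL ι F) (hj : Function.Injective j) {G T : Subgroup (GL ι F)}
    (hr : j.range = G ⊓ GeneralLinearGroup.det.ker) (hT : CF.Loc.IsSyl 2 T G) (hN : PnN T)
    {H : Subgroup (Γ ⧸ center Γ)} (hH : Odd H.index) : Cfsg.IsPronormal H := by
  have := Finite.of_injective j hj
  have hd : ∀ t : GL ι F, t ∈ GeneralLinearGroup.det.ker ↔ t.1.det = 1 := fun t =>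
    MonoidHom.mem_ker.trans Units.ext_iff
  have h1 := hT.inf_of_le_normalizer (N := j.range) (hr ▸ inf_le_left) (by
    rw [hr]
    exact fun g hg => mem_normalizer_fintype fun n hn =>
      ⟨G.mul_mem (G.mul_mem hg hn.1) (G.inv_mem hg), (MonoidHom.normal_ker _).conj_mem _ hn.2 g⟩)
  have h2 : ¬ 2 ∣ (T.comap j).index := by
    rw [index_comap, ← inf_relIndex_right]
    exact h1.not_dvd_relIndex
  refine isPronormal_of_selfnorm ((hT.isPGroup.comap_of_injective j hj).toSylow h2)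
    (fun x hx ho => ?_) hH
  have h3 := hN (j x) (by rwa [orderOf_injective j hj]) fun t ht hdt => by
    obtain ⟨s, rfl⟩ : t ∈ j.range := hr ▸ ⟨hT.le ht, (hd t).2 hdt⟩
    simpa using (mem_normalizer_iff.1 hx s).1 ht
  exact mem_center_iff.2 fun g => hj (by rw [map_mul, map_mul]; exact Units.ext (h3.comm _).symm)

end CF.Classical
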