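import Cfsg.Agent.Classical.PSL2
import Cfsg.Agent.Classical.SL2b
import Cfsg.Agent.Classical.MaxL2

/-! Redundant Sylow subgroups of `PSL₂(q)` and `SL₂(q)`. -/

set_option autoImplicit false

open MulAction Subgroup Matrix OnePoint
open scoped MatrixGroups Classical

namespace CF.Classical

/-- every `p`-element lies in two Sylow `p`-subgroups -/
def Redun (p : ℕ) (G : Type*) [Group G] : Prop :=
  ∀ x : G, (∃ k, x ^ p ^ k = 1) → ∃ P Q : Sylow p G, P ≠ Q ∧ x ∈ P ∧ x ∈ Q

variable {G H : Type*} [Group G] [Group H] {p : ℕ} [hp : Fact p.Prime]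

theorem isPGroup_zpowers_of_pow {x : G} {k : ℕ} (h : x ^ p ^ k = 1) : IsPGroup p (zpowers x) := by
  rintro ⟨_, n, rfl⟩
  refine ⟨k, Subtype.ext ?_⟩
  change (x ^ n) ^ p ^ k = 1
  rw [← zpow_natCast, ← _root_.zpow_mul, mul_comm, _root_.zpow_mul, zpow_natCast, h,
    _root_.one_zpow]

theorem redun_iff [Finite G] : (∃ Q : Sylow p G, ∀ x : G, (∃ k : ℕ, orderOf x = p ^ k) →
    ∃ P : Sylow p G, P ≠ Q ∧ x ∈ P) ↔ Redun p G := by
  refine ⟨fun ⟨Q, hQ⟩ x ⟨k, hk⟩ => ?_, fun h => ⟨default, fun x ⟨k, hk⟩ => ?_⟩⟩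
  · obtain ⟨P, hP⟩ := (isPGroup_zpowers_of_pow hk).exists_le_sylow
    obtain ⟨g, rfl⟩ := exists_smul_eq G Q P
    obtain ⟨j, -, hj⟩ := (Nat.dvd_prime_pow hp.out).1 (orderOf_dvd_of_pow_eq_one hk)
    obtain ⟨R, h1, h2⟩ := hQ (g⁻¹ * x * g) ⟨j, by
      rw [← hj]; simpa using ((MulAut.conj g⁻¹).orderOf_eq x)⟩
    refine ⟨g • R, g • Q, fun h => h1 (MulAction.injective g h), ?_, hP (mem_zpowers x)⟩
    exact ⟨_, h2, by simp [mul_assoc]⟩
  · obtain ⟨P, Q, h1, h2, h3⟩ := h x ⟨k, hk ▸ pow_orderOf_eq_one x⟩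
    by_cases h4 : P = default
    · exact ⟨Q, h4 ▸ h1.symm, h3⟩
    · exact ⟨P, h4, h2⟩

theorem mem_sylow_of_map_mem [Finite G] {f : G →* H} (hf : f.ker ≤ center G) {P : Sylow p G}
    {x : G} {k : ℕ} (hx : x ^ p ^ k = 1) (h : f x ∈ (P : Subgroup G).map f) : x ∈ P := by
  obtain ⟨y, hy, h⟩ := h
  have h1 : x ∈ normalizer ((P : Subgroup G) : Set G) := by
    have h2 : x * y⁻¹ ∈ center G := hf (by simp [h])
    simpa using mul_mem (center_le_normalizer _ h2) (le_normalizer hy)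
  have := (isPGroup_zpowers_of_pow hx).inf_normalizer_sylow P
  exact (this ▸ (⟨mem_zpowers x, h1⟩ : x ∈ zpowers x ⊓ _) : x ∈ zpowers x ⊓ (P : Subgroup G)).2

theorem redun_congr [Finite G] {f : G →* H} (hs : Function.Surjective f) (hf : f.ker ≤ center G) :
    Redun p G ↔ Redun p H := by
  have : Finite H := Finite.of_surjective f hs
  refine ⟨fun h y ⟨k, hk⟩ => ?_, fun h x ⟨k, hk⟩ => ?_⟩
  · obtain ⟨R, hR⟩ := (isPGroup_zpowers_of_pow hk).exists_le_sylow
    obtain ⟨R, rfl⟩ := Sylow.mapSurjective_surjective hs p R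
    obtain ⟨x, hx, rfl⟩ := hR (mem_zpowers y)
    obtain ⟨j, hj⟩ := R.isPGroup' ⟨x, hx⟩
    obtain ⟨P, Q, h1, h2, h3⟩ := h x ⟨j, congrArg Subtype.val hj⟩
    refine ⟨P.mapSurjective hs, Q.mapSurjective hs, fun e => h1 (Sylow.ext
      (Q.is_maximal' P.isPGroup' fun u hu => ?_)), ⟨x, h2, rfl⟩, ⟨x, h3, rfl⟩⟩
    obtain ⟨i, hi⟩ := Q.isPGroup' ⟨u, hu⟩
    refine mem_sylow_of_map_mem hf (congrArg Subtype.val hi) ?_
    rw [← Sylow.coe_mapSurjective hs, e]
    exact ⟨u, hu, rfl⟩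
  · obtain ⟨P, Q, h1, h2, h3⟩ := h (f x) ⟨k, by rw [← map_pow, hk, map_one]⟩
    obtain ⟨P, rfl⟩ := Sylow.mapSurjective_surjective hs p P
    obtain ⟨Q, rfl⟩ := Sylow.mapSurjective_surjective hs p Q
    exact ⟨P, Q, fun e => h1 (e ▸ rfl), mem_sylow_of_map_mem hf hk h2,
      mem_sylow_of_map_mem hf hk h3⟩

theorem Sylow.eq_of_le' {P Q : Sylow p G} (h : (P : Subgroup G) ≤ Q) : P = Q :=
  (Sylow.ext (P.is_maximal' Q.isPGroup' h)).symm

theorem redun_PSL2 {F : Type*} [Field F] [Finite F] : Redun p PSL(2, F) ↔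
    (p = 2 ∧ (¬ ∃ k : ℕ, Nat.card F + 1 = 2 ^ k) ∧ (¬ ∃ k : ℕ, Nat.card F = 2 ^ k) ∧
      ¬ ∃ k : ℕ, Nat.card F = 2 ^ k + 1) := by
  let K := AlgebraicClosure F
  have L := isL2_PSL F K
  have := L.finite
  obtain ⟨r, _⟩ := CharP.exists F
  have : Fact r.Prime := ⟨CharP.char_is_prime F r⟩
  obtain ⟨n, hn, hq⟩ := exists_card_eq_pow F r
  have hq1 : 2 ≤ Nat.card F := Finite.one_lt_card
  have hodd : r ≠ 2 → Odd (Nat.card F) := fun h =>
    hq ▸ ((Fact.out : r.Prime).odd_of_ne_two h).pow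
  refine ⟨fun h => ?_, fun ⟨h1, h2, h3, h4⟩ x ⟨k, hk⟩ => ?_⟩
  · have hpr : p ≠ r := by
      rintro rfl
      obtain ⟨u, hu⟩ := L.exists_isUnip ∞
      obtain ⟨P, Q, h1, h2, h3⟩ := h u ⟨1, by
        rw [pow_one]; exact L.pow_eq_one_of_mem_unip p (mem_unip.2 (Or.inr hu))⟩
      obtain ⟨x, hx⟩ := L.sylow_eq_unip p P
      obtain ⟨y, hy⟩ := L.sylow_eq_unip p Q
      have h2 : u ∈ unip _ (ratPt K x) := hx ▸ h2
      have h3 : u ∈ unip _ (ratPt K y) := hy ▸ h3
      refine h1 (Sylow.ext ?_)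
      rw [hx, hy, eq_of_mem_unip hu.ne_one h2 (unip_le_stabilizer _ h3)]
    obtain rfl : p = 2 := by
      by_contra h2
      obtain ⟨Q⟩ : Nonempty (Sylow p PSL(2, F)) := inferInstance
      have hc : IsCyclic (Q : Subgroup PSL(2, F)) := by
        by_cases h0 : (Q : Subgroup PSL(2, F)) = ⊥
        · rw [h0]; infer_instance
        obtain ⟨x, y, hxy, -, -, h3⟩ := L.exists_le_pairStab r hpr Q.isPGroup' h0
        exact isCyclic_of_le_torus hxy (h3 h2)
      obtain ⟨x, hx⟩ := (Subgroup.isCyclic_iff_exists_zpowers_eq_top _).1 hc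
      obtain ⟨i, hi⟩ := Q.isPGroup' ⟨x, hx ▸ mem_zpowers x⟩
      obtain ⟨P, P', h1, h3, h4⟩ := h x ⟨i, congrArg Subtype.val hi⟩
      exact h1 ((Sylow.eq_of_le' (hx ▸ zpowers_le.2 h3)).symm.trans
        (Sylow.eq_of_le' (hx ▸ zpowers_le.2 h4)))
    have ho := hodd hpr.symm
    have hi := (index_range_pslToPGL F).trans (gcd_two_of_odd ho)
    have key : ∀ j, ¬ (2 ^ (j + 1) * 2 = Nat.card F - 1 ∨ 2 ^ (j + 1) * 2 = Nat.card F + 1) := by
      intro j hj
      obtain ⟨x, y, hxy, hT⟩ := L.exists_torus_card (n := 2 ^ (j + 1)) (by rwa [hi])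
      have hT0 : torus PSL(2, F) x y ≠ ⊥ := fun h => by
        rw [h, card_bot] at hT
        exact absurd hT (Nat.one_lt_two_pow (by omega)).ne
      obtain ⟨s, hs1, hs2⟩ := (L.torus_cases hxy hT0).1
      have hD := card_pairStab hxy hs1 hs2
      rw [hT, ← pow_succ'] at hD
      have hG := L.card_mul_index
      rw [hi, ← (pairStab _ x y).index_mul_card, hD] at hG
      have hind : ¬ 2 ∣ (pairStab PSL(2, F) x y).index := by
        rintro ⟨c, hc⟩
        obtain ⟨m, hm⟩ := ho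
        rw [hc, hm, show (2 * m + 1) ^ 2 - 1 = 4 * m * (m + 1) by
          rw [Nat.sub_eq_iff_eq_add (Nat.one_le_pow _ _ (by omega))]; ring] at hG
        rcases hj with hj | hj
        · obtain rfl : m = 2 ^ (j + 1) := by omega
          have : 2 * c = (2 * 2 ^ (j + 1) + 1) * (2 * 2 ^ j + 1) :=
            Nat.eq_of_mul_eq_mul_left (show 0 < 4 * 2 ^ (j + 1) by positivity)
              (by linear_combination hG)
          have : Odd (2 * c) := this ▸ (odd_two_mul_add_one _).mul (odd_two_mul_add_one _)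
          exact absurd this (by simp [Nat.odd_mul])
        · have h5 : m + 1 = 2 ^ (j + 1) := by omega
          have : 2 * c = (2 * m + 1) * m :=
            Nat.eq_of_mul_eq_mul_left (show 0 < 4 * 2 ^ (j + 1) by positivity)
              (by rw [h5] at hG; linear_combination hG)
          have h6 : Odd m := by rw [pow_succ] at h5; exact ⟨2 ^ j - 1, by omega⟩
          have : Odd (2 * c) := this ▸ (odd_two_mul_add_one _).mul h6
          exact absurd this (by simp [Nat.odd_mul])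
      let D := (IsPGroup.of_card hD).toSylow hind
      obtain ⟨t, ht⟩ := (Subgroup.isCyclic_iff_exists_zpowers_eq_top _).1
        (isCyclic_torus (H := PSL(2, F)) hxy)
      have htT : t ∈ torus _ x y := ht ▸ mem_zpowers t
      have ht1 : t ≠ 1 := fun h => hT0 (by rw [← ht, h, zpowers_one_eq_bot])
      have hle : ∀ P : Sylow 2 PSL(2, F), t ∈ P → P = D := fun P hP => by
        refine Sylow.eq_of_le' (show _ ≤ pairStab _ x y from ?_)
        by_cases h2 : t * t = 1
        · have h3 : 2 ^ (j + 1) ≤ 2 := by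
            rw [← hT, ← ht, Nat.card_zpowers]
            exact orderOf_le_of_pow_eq_one two_pos (by rwa [pow_two])
          obtain rfl : j = 0 := by
            by_contra h
            have := Nat.one_lt_two_pow h
            omega
          have h4 := IsPGroup.isMulCommutative_of_card_eq_prime_sq (G := P) (p := 2)
            ((Nat.card_congr (P.equiv D).toEquiv).trans hD)
          exact fun u hu => centralizer_le_pairStab hxy ht1 htT (mem_centralizer_singleton_iff.2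
            (congrArg Subtype.val (h4.is_comm.comm (⟨u, hu⟩ : P) ⟨t, hP⟩)))
        · have : Nontrivial (P : Subgroup PSL(2, F)) := ⟨⟨t, hP⟩, 1, by simpa using ht1⟩
          obtain ⟨z, hz, hz1⟩ := (bot_lt_iff_ne_bot.1 P.isPGroup'.bot_lt_center |>
            (ne_bot_iff_exists_ne_one.1 ·)).imp fun z h => And.intro z.2 h
          have hzT : (z : PSL(2, F)) ∈ torus _ x y := centralizer_eq_torus hxy htT h2 ▸
            mem_centralizer_singleton_iff.2
              (congrArg Subtype.val (mem_center_iff.1 hz ⟨t, hP⟩)).symm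
          exact fun u hu => centralizer_le_pairStab hxy (fun h => hz1 (Subtype.ext (Subtype.ext h)))
            hzT (mem_centralizer_singleton_iff.2
              (congrArg Subtype.val (mem_center_iff.1 hz ⟨u, hu⟩)))
      obtain ⟨P, Q, h1, h2, h3⟩ := h t ⟨j + 1, by
        rw [← hT, ← ht, Nat.card_zpowers, pow_orderOf_eq_one]⟩
      exact h1 ((hle P h2).trans (hle Q h3).symm)
    obtain ⟨m, hm⟩ := ho
    refine ⟨rfl, fun ⟨k, hk⟩ => ?_, fun ⟨k, hk⟩ => ?_, fun ⟨k, hk⟩ => ?_⟩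
    · match k with
      | 0 => omega
      | 1 => omega
      | k + 2 => exact key k (Or.inr (by rw [hk]; ring))
    · match k with
      | 0 => omega
      | k + 1 => omega
    · match k with
      | 0 => omega
      | 1 => exact key 0 (Or.inr (by omega))
      | k + 2 => exact key k (Or.inl (by rw [hk, Nat.add_sub_cancel]; ring))
  · subst h1
    have hr : r ≠ 2 := fun h => h3 ⟨n, h ▸ hq⟩
    have hi := (index_range_pslToPGL F).trans (gcd_two_of_odd (hodd hr))
    obtain ⟨a, b, hab, hx, hT0⟩ : ∃ a b : OnePoint K, a ≠ b ∧ x ∈ torus _ a b ∧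
        torus PSL(2, F) a b ≠ ⊥ := by
      by_cases h : x = 1
      · obtain ⟨a, b, h1, -, h2, -⟩ := L.exists_nonsplit_torus
        exact ⟨a, b, h1, h ▸ one_mem _, h2⟩
      · obtain ⟨a, b, h1, h2⟩ := L.exists_mem_torus r (g := x) (Nat.Coprime.coprime_dvd_left
          (orderOf_dvd_of_pow_eq_one hk) (Nat.Coprime.pow_left _
            ((Nat.coprime_primes Nat.prime_two Fact.out).2 hr.symm)))
        exact ⟨a, b, h1, h2, fun e => h (by simpa [e] using h2)⟩
    obtain ⟨⟨s, hs1, hs2⟩, h5⟩ := L.torus_cases hab hT0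
    obtain ⟨l, hl, hl1, hl2⟩ : ∃ l, l.Prime ∧ l ∣ Nat.card (torus PSL(2, F) a b) ∧ l ≠ 2 := by
      by_contra! h
      have := Nat.eq_prime_pow_of_unique_prime_dvd Nat.card_pos.ne' fun {d} => h d
      generalize (Nat.card (torus PSL(2, F) a b)).primeFactorsList.length = j at this
      rw [hi, this, ← pow_succ] at h5
      rcases h5 with ⟨-, h5⟩ | ⟨-, -, h5⟩
      · exact h4 ⟨j + 1, by omega⟩
      · exact h2 ⟨j + 1, h5.symm⟩
    obtain ⟨u, hu, hu'⟩ := exists_orderOf_eq_of_isCyclic (isCyclic_torus hab) hl1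
    have hss : s ^ 2 ^ 2 = 1 := by
      have h6 : s * s ∈ torus PSL(2, F) a b := mem_torus.2 (by simp [mul_smul, hs1, hs2])
      have := conj_eq_inv_of_swap hab hs1 hs2 h6
      rw [mul_assoc, mul_assoc, mul_inv_cancel, mul_one, eq_inv_iff_mul_eq_one] at this
      rw [← this]
      simp [pow_succ, mul_assoc]
    obtain ⟨P, hP⟩ := ((isPGroup_zpowers_of_pow hk).to_sup_of_normal_left'
      (isPGroup_zpowers_of_pow hss) (zpowers_le.2 (mem_normalizer_fintype fun g hg =>
        conj_mem_of_mem_pairStab hab (zpowers_le.2 hx)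
          (mem_pairStab.2 (Or.inr ⟨hs1, hs2⟩)) hg))).exists_le_sylow
    have hxP : x ∈ P := hP (mem_sup_left (mem_zpowers x))
    have hsP : s ∈ P := hP (mem_sup_right (mem_zpowers s))
    refine ⟨P, u • P, fun h => ?_, hxP, x, hxP, ?_⟩
    · have h6 : u * s * u⁻¹ ∈ P := by
        rw [h]; exact ⟨s, hsP, rfl⟩
      have h7 : u * u ∈ P := by
        have := mul_mem h6 (inv_mem hsP)
        rwa [mul_assoc, mul_assoc, ← mul_assoc s, conj_eq_inv_of_swap hab hs1 hs2 (inv_mem hu),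
          inv_inv] at this
      obtain ⟨i, hi⟩ := P.isPGroup' ⟨_, h7⟩
      have h8 : u ^ 2 ^ (i + 1) = 1 := by
        rw [pow_succ', pow_mul, pow_two]; exact congrArg Subtype.val hi
      exact hl2 ((Nat.prime_dvd_prime_iff_eq hl Nat.prime_two).1
        (hl.dvd_of_dvd_pow (hu' ▸ orderOf_dvd_of_pow_eq_one h8)))
    · simp [torus_mul_comm hab hu hx]

end CF.Classical
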