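/-
Generation by regular unipotent elements: generic tools (pointwise membership, transvection
rules, cyclic vectors, irreducibility, transfer to matrix groups).
-/
import Cfsg.Agent.Geom.TvGen
import Cfsg.Agent.Classical.MinDegSL
import Cfsg.Agent.Cls.Misc

set_option autoImplicit false
set_option linter.unusedSectionVars false

namespace CF.Classical

open Module CF.Geom

variable {F V : Type*} [Field F] [AddCommGroup V] [Module F V] {H : Subgroup (V ≃ₗ[F] V)}

/-- Some element of `H` acts as the map `f`. -/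
def RHas (H : Subgroup (V ≃ₗ[F] V)) (f : V → V) : Prop := ∃ g ∈ H, ∀ x, g x = f x

theorem RHas.of_mem {g : V ≃ₗ[F] V} (hg : g ∈ H) {f : V → V} (e : ∀ x, g x = f x) : RHas H f :=
  ⟨g, hg, e⟩

theorem RHas.congr {f f' : V → V} (h : RHas H f) (e : ∀ x, f x = f' x) : RHas H f' := by
  obtain ⟨g, hg, e'⟩ := h; exact ⟨g, hg, fun x => (e' x).trans (e x)⟩

theorem RHas.comp {f f' : V → V} (h : RHas H f) (h' : RHas H f') : RHas H fun x => f (f' x) := by
  obtain ⟨g, hg, e⟩ := h; obtain ⟨g', hg', e'⟩ := h'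
  exact ⟨g * g', mul_mem hg hg', fun x => by rw [LinearEquiv.mul_apply, e, e']⟩

theorem RHas.inv {f f' : V → V} (h : RHas H f) (e : ∀ x, f (f' x) = x) : RHas H f' := by
  obtain ⟨g, hg, e'⟩ := h
  exact ⟨g⁻¹, inv_mem hg, fun x => by
    apply g.injective; rw [apply_inv_apply, e', e]⟩

theorem RHas.id : RHas H fun x => x := ⟨1, one_mem _, fun _ => rfl⟩

theorem RHas.mem {g : V ≃ₗ[F] V} (h : RHas H g) : g ∈ H := by
  obtain ⟨g', hg, e⟩ := h; rwa [← LinearEquiv.ext e]

/-- The transvection `x ↦ x + φ x • a` lies in `H`. -/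
def RTv (H : Subgroup (V ≃ₗ[F] V)) (φ : Dual F V) (a : V) : Prop :=
  φ a = 0 ∧ RHas H fun x => x + φ x • a

namespace RTv

variable {φ ψ : Dual F V} {a b : V}

theorem zero : RTv H φ 0 := ⟨map_zero _, RHas.id.congr fun x => by simp⟩

theorem add (h : RTv H φ a) (h' : RTv H φ b) : RTv H φ (a + b) :=
  ⟨by simp [h.1, h'.1], (h.2.comp h'.2).congr fun x => by simp [h'.1]; abel⟩

theorem neg (h : RTv H φ a) : RTv H φ (-a) :=
  ⟨by simp [h.1], h.2.inv fun x => by simp [h.1]⟩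

theorem sub (h : RTv H φ a) (h' : RTv H φ b) : RTv H φ (a - b) := by
  rw [sub_eq_add_neg]; exact h.add h'.neg

theorem congr (h : RTv H φ a) (e : a = b) : RTv H φ b := e ▸ h

theorem natCast (h : RTv H φ a) (k : ℕ) : RTv H φ ((k : F) • a) := by
  induction k with
  | zero => simpa using zero
  | succ k ih => exact (ih.add h).congr (by push_cast; module)

theorem map (h : RTv H φ a) {g : V ≃ₗ[F] V} (hg : g ∈ H) {c : F} (e : ∀ x, c * ψ (g x) = φ x)
    (hc : c ≠ 0) : RTv H ψ (c • g a) := by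
  refine ⟨by simp [e, h.1], ?_⟩
  refine (((RHas.of_mem hg fun _ => rfl).comp h.2).comp
    (RHas.of_mem (inv_mem hg) fun _ => rfl)).congr fun x => ?_
  rw [map_add, map_smul, ← e, apply_inv_apply, smul_smul, mul_comm]

theorem map' (h : RTv H φ a) {f : V → V} (hf : RHas H f) {c : F} (e : ∀ x, c * ψ (f x) = φ x)
    (hc : c ≠ 0) : RTv H ψ (c • f a) := by
  obtain ⟨g, hg, e'⟩ := hf
  rw [← e']; exact h.map hg (fun x => by rw [e', e]) hc

/-- Conjugation by an element fixing the functional. -/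
theorem fix (h : RTv H φ a) {f : V → V} (hf : RHas H f) (e : ∀ x, φ (f x) = φ x) :
    RTv H φ (f a) :=
  (h.map' hf (c := 1) (by simpa using e) one_ne_zero).congr (one_smul _ _)

/-- Conjugation by an element negating the functional. -/
theorem fixNeg (h : RTv H φ a) {f : V → V} (hf : RHas H f) (e : ∀ x, φ (f x) = -φ x) :
    RTv H φ (f a) :=
  (h.map' hf (c := -1) (fun x => by simp [e]) (by simp)).neg.congr (by simp)

theorem comm (h : RTv H φ a) (h' : RTv H ψ b) (e : φ b = 0) : RTv H φ (ψ a • b) :=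
  ((h.fix h'.2 fun x => by simp [e]).sub h).congr (by abel)

/-- The commutator of a transvection with a conjugate transvection. -/
theorem commConj (h : RTv H φ a) (h' : RTv H φ b) {g : V ≃ₗ[F] V} (hg : g ∈ H)
    (e : φ (g b) = 0) : RTv H φ (φ (g⁻¹ a) • g b) := by
  have := h'.map (ψ := φ ∘ₗ (g⁻¹ : V ≃ₗ[F] V).toLinearMap) hg (c := 1)
    (fun x => by simp [inv_apply_apply]) one_ne_zero
  rw [one_smul] at this
  exact h.comm this e

end RTv

theorem rTv_of_ax {φ : Dual F V} (h : ∀ a, φ a = 0 → RTv H φ a) : Ax H φ := fun v hv =>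
  RHas.mem ((h v hv).2.congr fun _ => rfl)

/-- An additive set of scalars containing `1` and closed under generators is everything. -/
theorem forall_of_closure {R : Type*} [CommRing R] {P : R → Prop} {s : Set R}
    (hs : Subring.closure s = ⊤) (h1 : P 1) (hadd : ∀ a b, P a → P b → P (a + b))
    (hneg : ∀ a, P a → P (-a)) (hmul : ∀ r ∈ s, ∀ a, P a → P (r * a)) (c : R) : P c := by
  have h0 : P 0 := by simpa using hadd _ _ h1 (hneg _ h1)
  let T : Subring R :=
    { carrier := {r | ∀ a, P a → P (r * a)}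
      mul_mem' := fun {r r'} hr hr' a ha => by rw [mul_assoc]; exact hr _ (hr' _ ha)
      one_mem' := fun a ha => by rwa [one_mul]
      add_mem' := fun {r r'} hr hr' a ha => by rw [add_mul]; exact hadd _ _ (hr _ ha) (hr' _ ha)
      zero_mem' := fun a _ => by rwa [zero_mul]
      neg_mem' := fun {r} hr a ha => by rw [neg_mul]; exact hneg _ (hr _ ha) }
  have : c ∈ T := (Subring.closure_le.2 (show s ⊆ T from hmul)) (hs ▸ Subring.mem_top c)
  simpa using this 1 h1

theorem RTv.all_smul {φ : Dual F V} {z : V} (h : RTv H φ z) {ρ : F}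
    (hs : Subring.closure {ρ} = ⊤) (hm : ∀ l, RTv H φ (l • z) → RTv H φ ((ρ * l) • z)) (c : F) :
    RTv H φ (c • z) :=
  forall_of_closure (P := fun c => RTv H φ (c • z)) hs (by simpa using h)
    (fun a b ha hb => (ha.add hb).congr (by module)) (fun a ha => ha.neg.congr (by module))
    (fun r hr a ha => by rw [Set.mem_singleton_iff.1 hr]; exact hm a ha) c

/-- The vectors all of whose multiples give transvections in `H`. -/
def rTvS (H : Subgroup (V ≃ₗ[F] V)) (φ : Dual F V) : Submodule F V where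
  carrier := {a | ∀ c : F, RTv H φ (c • a)}
  add_mem' ha hb c := ((ha c).add (hb c)).congr (by module)
  zero_mem' c := by simpa using RTv.zero
  smul_mem' d a ha c := (ha (c * d)).congr (by module)

theorem rTvS_ker {φ : Dual F V} {a : V} (h : a ∈ rTvS H φ) : φ a = 0 := by
  simpa using (h 1).1

/-- `z` generates `V` as a module over the algebra generated by `f`. -/
def RCyc (F : Type*) [Field F] [Module F V] (f : V → V) (z : V) : Prop :=
  ∀ Y : Submodule F V, z ∈ Y → (∀ y ∈ Y, f y ∈ Y) → Y = ⊤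

theorem rTvS_step {ζ : Dual F V} {z a : V} (hz : z ∈ rTvS H ζ) (ha : a ∈ rTvS H ζ)
    {h : V ≃ₗ[F] V} (hh : h ∈ H) (h1 : ζ (h⁻¹ z) ≠ 0) (h2 : ζ (h a) = 0) : h a ∈ rTvS H ζ :=
  fun c => ((hz 1).commConj (ha (c / ζ (h⁻¹ z))) hh (by simp [h2])).congr (by
    rw [one_smul, map_smul, smul_smul, mul_div_cancel₀ _ h1])

/-- Spreading a full root group along a cyclic vector. -/
theorem ax_of_cyc {ζ : Dual F V} {z : V} (hz : z ∈ rTvS H ζ) {h : V ≃ₗ[F] V} (hh : h ∈ H)
    (h0 : ζ (h z) = 0) (h1 : ζ (h⁻¹ z) ≠ 0) (hc : RCyc F h z) : Ax H ζ := by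
  classical
  have k1 : ∀ a ∈ rTvS H ζ, ζ (h a) = 0 → h a ∈ rTvS H ζ := fun a ha => rTvS_step hz ha hh h1
  have hz1 := k1 z hz h0
  have k2 : ∀ a ∈ rTvS H ζ, ζ (h (h a)) = 0 → h (h a) ∈ rTvS H ζ := fun a ha e =>
    rTvS_step hz1 ha (mul_mem hh hh) (by
      rwa [mul_inv_rev, LinearEquiv.mul_apply, inv_apply_apply]) e
  have hex : ∃ k : ℕ, (h ^ k) z ∉ rTvS H ζ := by
    by_contra! hk
    let Y : Submodule F V :=
      { carrier := {a | ∀ k : ℕ, (h ^ k) a ∈ rTvS H ζ}
        add_mem' := fun ha hb k => by rw [map_add]; exact add_mem (ha k) (hb k)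
        zero_mem' := fun k => by rw [map_zero]; exact zero_mem _
        smul_mem' := fun c a ha k => by rw [map_smul]; exact Submodule.smul_mem _ _ (ha k) }
    have := hc Y hk fun y hy k => by
      rw [← LinearEquiv.mul_apply, ← pow_succ]; exact hy _
    exact h1 (rTvS_ker (by simpa using (show h⁻¹ z ∈ Y from this ▸ Submodule.mem_top) 0))
  obtain ⟨L, hL⟩ : ∃ L, Nat.find hex = L + 2 := by
    rcases e : Nat.find hex with _ | _ | L
    · exact absurd (by simpa using hz) (e ▸ Nat.find_spec hex)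
    · exact absurd (by simpa using hz1) (e ▸ Nat.find_spec hex)
    · exact ⟨L, rfl⟩
  have s0 : (h ^ L) z ∈ rTvS H ζ := by simpa using Nat.find_min hex (m := L) (by omega)
  have s1 : (h ^ (L + 1)) z ∈ rTvS H ζ := by
    simpa using Nat.find_min hex (m := L + 1) (by omega)
  have s2 := Nat.find_spec hex
  rw [hL, pow_succ', LinearEquiv.mul_apply] at s2
  rw [pow_succ', LinearEquiv.mul_apply] at s1 s2
  set y := (h ^ L) z
  have hw : ζ (h (h y)) ≠ 0 := fun e => s2 (k1 _ s1 e)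
  have := hc (rTvS H ζ ⊔ F ∙ h (h y)) (Submodule.mem_sup_left hz) fun a ha => by
    obtain ⟨s, hs, t, ht, rfl⟩ := Submodule.mem_sup.1 ha
    obtain ⟨c, rfl⟩ := Submodule.mem_span_singleton.1 ht
    have m : ∀ c : F, c • h (h y) ∈ rTvS H ζ ⊔ F ∙ h (h y) := fun c =>
      Submodule.mem_sup_right (Submodule.smul_mem _ _ (Submodule.mem_span_singleton_self _))
    rw [map_add, map_smul]
    refine add_mem ?_ (Submodule.smul_mem _ _ ?_)
    · have := k1 (s - (ζ (h s) / ζ (h (h y))) • h y) (sub_mem hs (Submodule.smul_mem _ _ s1))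
        (by simp [hw])
      convert add_mem (Submodule.mem_sup_left this) (m (ζ (h s) / ζ (h (h y)))) using 1
      simp
    · have := k2 (h y - (ζ (h (h (h y))) / ζ (h (h y))) • y) (sub_mem s1 (Submodule.smul_mem _ _ s0))
        (by simp [hw])
      convert add_mem (Submodule.mem_sup_left this) (m (ζ (h (h (h y))) / ζ (h (h y)))) using 1
      simp
  refine rTv_of_ax fun a ha => ?_
  obtain ⟨s, hs, t, ht, rfl⟩ := Submodule.mem_sup.1 (this ▸ Submodule.mem_top : a ∈ _)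
  obtain ⟨c, rfl⟩ := Submodule.mem_span_singleton.1 ht
  have : c = 0 := by simpa [rTvS_ker hs, hw] using ha
  simpa [this] using hs 1

/-- `H` leaves no proper non-zero subspace invariant. -/
def RIrr (H : Subgroup (V ≃ₗ[F] V)) : Prop :=
  ∀ W : Submodule F V, (∀ g ∈ H, ∀ w ∈ W, g w ∈ W) → W = ⊥ ∨ W = ⊤

theorem SLG_le_of_ax [FiniteDimensional F V] {ζ : Dual F V} (hζ : Ax H ζ) (h0 : ζ ≠ 0)
    (hi : RIrr H) : SLG F V ≤ H := by
  refine SLG_le_of_axSub ?_
  rcases hi (axSub H).dualCoannihilator (fun g hg w hw => by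
    rw [Submodule.mem_dualCoannihilator] at hw ⊢
    intro φ hφ
    exact hw (φ ∘ₗ g.toLinearMap) (Ax.map hφ (inv_mem hg) fun x => by simp [apply_inv_apply]))
    with e | e
  · rw [← Subspace.dualCoannihilator_dualAnnihilator_eq (W := axSub H), e,
      Submodule.dualAnnihilator_bot]
  · exact absurd (LinearMap.ext fun x => (Submodule.mem_dualCoannihilator _).1
      (e ▸ Submodule.mem_top : x ∈ (axSub H).dualCoannihilator) ζ hζ) h0

theorem exists_ker_mem {N : End F V} (hN : IsNilpotent N) {W : Submodule F V}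
    (hW : ∀ w ∈ W, N w ∈ W) (h0 : W ≠ ⊥) : ∃ x ∈ W, x ≠ 0 ∧ N x = 0 := by
  obtain ⟨x, hx, x0⟩ := Submodule.exists_mem_ne_zero_of_ne_bot h0
  obtain ⟨k, hk⟩ := hN
  by_contra! hc
  have : ∀ j : ℕ, (N ^ j) x ∈ W ∧ (N ^ j) x ≠ 0 := fun j => by
    induction j with
    | zero => exact ⟨hx, x0⟩
    | succ j ih => rw [pow_succ', End.mul_apply]; exact ⟨hW _ ih.1, hc _ ih.1 ih.2⟩
  exact (this k).2 (by simp [hk])

theorem rIrr_of {N : End F V} (hN : IsNilpotent N) (hu : RHas H fun x => x + N x) {e : V}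
    (he : ∀ x, N x = 0 → x ∈ F ∙ e) {f : V → V} (hf : RHas H f) (hc : RCyc F f e) : RIrr H := by
  intro W hW
  refine or_iff_not_imp_left.2 fun h0 => ?_
  obtain ⟨u, hu, eu⟩ := hu
  obtain ⟨g, hg, eg⟩ := hf
  obtain ⟨x, hx, x0, hNx⟩ := exists_ker_mem hN (W := W) (fun w hw => by
    have := sub_mem (hW u hu w hw) hw
    rwa [eu, add_sub_cancel_left] at this) h0
  obtain ⟨c, rfl⟩ := Submodule.mem_span_singleton.1 (he x hNx)
  exact hc W ((W.smul_mem_iff (left_ne_zero_of_smul x0)).1 hx) fun y hy => eg y ▸ hW g hg y hy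

theorem rCyc_of_pow [FiniteDimensional F V] {N : End F V} (hN : IsNilpotent N) {z : V}
    (hz : (N ^ (finrank F V - 1)) z ≠ 0) {f : V → V} (hf : ∀ x, f x = x + N x) : RCyc F f z := by
  intro Y hY hi
  by_contra hne
  have h1 := Cls.le_ker_pow_of_invariant hN Y (fun v hv => by
    have := sub_mem (hi v hv) hv
    rwa [hf, add_sub_cancel_left] at this) hY
  have h2 := Submodule.finrank_lt hne
  obtain ⟨k, hk⟩ : ∃ k, finrank F V - 1 = k + finrank F Y := ⟨finrank F V - 1 - finrank F Y, by omega⟩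
  rw [hk, pow_add, End.mul_apply, LinearMap.mem_ker.1 h1, map_zero] at hz
  exact hz rfl

/-- The unipotent automorphism `1 + N`. -/
noncomputable def rUnip {N : End F V} (hN : IsNilpotent N) : V ≃ₗ[F] V :=
  LinearMap.GeneralLinearGroup.toLinearEquiv hN.isUnit_one_add.unit

theorem rUnip_apply {N : End F V} (hN : IsNilpotent N) (x : V) : rUnip hN x = x + N x := rfl

theorem det_eq_one_of_nil [FiniteDimensional F V] {N : End F V} (hN : IsNilpotent N)
    {g : V ≃ₗ[F] V} (e : ∀ x, g x = x + N x) : g ∈ SLG F V := by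
  have h1 : IsNilpotent ((g : End F V) - 1) := by
    convert hN; ext x; simp [e]
  rw [mem_SLG, LinearMap.det_eq_sign_charpoly_coeff, Cls.charpoly_unip h1,
    Polynomial.coeff_zero_eq_eval_zero]
  simp [← mul_pow]

/-! ### Transfer to matrix groups -/

section transfer

variable {ι : Type} [Fintype ι] [DecidableEq ι] {G : Type*} [Group G]
  {L : Subgroup ((ι → F) ≃ₗ[F] (ι → F))}

theorem reg_transfer {A : Matrix ι ι F} {N : End F (ι → F)} (e : ∀ x, A.mulVec x = x + N x)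
    (hN : IsNilpotent N) {k : ℕ} (hk : N ^ k ≠ 0) : IsNilpotent (A - 1) ∧ (A - 1) ^ k ≠ 0 := by
  have h1 : Matrix.toLinAlgEquiv' (A - 1) = N := by
    refine LinearMap.ext fun x => ?_
    rw [Matrix.toLinAlgEquiv'_apply, Matrix.sub_mulVec, Matrix.one_mulVec, e, add_sub_cancel_left]
  constructor
  · obtain ⟨m, hm⟩ := hN
    exact ⟨m, Matrix.toLinAlgEquiv'.injective (by rw [map_pow, h1, hm, map_zero])⟩
  · intro h; exact hk (by rw [← h1, ← map_pow, h, map_zero])

theorem closure_transfer {M : Type*} [Group M] {L : Subgroup M} (ε : G ≃* L) {s : Set G}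
    (h : ∀ K : Subgroup M, K ≤ L → (∀ g ∈ s, (ε g).1 ∈ K) → L ≤ K) : Subgroup.closure s = ⊤ := by
  rw [eq_top_iff]
  intro g _
  obtain ⟨g', hg', e⟩ := h ((Subgroup.closure s).map (L.subtype.comp ε.toMonoidHom))
    (by rintro _ ⟨x, -, rfl⟩; exact (ε x).2)
    (fun x hx => ⟨x, Subgroup.subset_closure hx, rfl⟩) (ε g).2
  rwa [← ε.injective (Subtype.ext e)]

theorem gen3_transfer (ε : G ≃* L) (toMat : G → Matrix ι ι F)
    (hε : ∀ g v, (ε g).1 v = (toMat g).mulVec v) {u g h : (ι → F) ≃ₗ[F] (ι → F)} (hu : u ∈ L)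
    (hg : g ∈ L) (hh : h ∈ L) {N : End F (ι → F)} (hN : IsNilpotent N) {k : ℕ} (hk : N ^ k ≠ 0)
    (e : ∀ x, u x = x + N x)
    (gen : ∀ K ≤ L, u ∈ K → g * u * g⁻¹ ∈ K → h * u * h⁻¹ ∈ K → L ≤ K) :
    ∃ u g h : G, (IsNilpotent (toMat u - 1) ∧ (toMat u - 1) ^ k ≠ 0) ∧
      Subgroup.closure {u, g * u * g⁻¹, h * u * h⁻¹} = ⊤ := by
  refine ⟨ε.symm ⟨u, hu⟩, ε.symm ⟨g, hg⟩, ε.symm ⟨h, hh⟩,
    reg_transfer (fun x => by rw [← hε, ε.apply_symm_apply, e]) hN hk,
    closure_transfer ε fun K hK hs => gen K hK ?_ ?_ ?_⟩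
  · simpa using hs (ε.symm ⟨u, hu⟩) (by simp)
  · simpa using hs (ε.symm ⟨g, hg⟩ * ε.symm ⟨u, hu⟩ * (ε.symm ⟨g, hg⟩)⁻¹) (by simp)
  · simpa using hs (ε.symm ⟨h, hh⟩ * ε.symm ⟨u, hu⟩ * (ε.symm ⟨h, hh⟩)⁻¹) (by simp)

theorem gen2_transfer (ε : G ≃* L) (toMat : G → Matrix ι ι F)
    (hε : ∀ g v, (ε g).1 v = (toMat g).mulVec v) {u g : (ι → F) ≃ₗ[F] (ι → F)} (hu : u ∈ L)
    (hg : g ∈ L) {N : End F (ι → F)} (hN : IsNilpotent N) {k : ℕ} (hk : N ^ k ≠ 0)
    (e : ∀ x, u x = x + N x) (gen : ∀ K ≤ L, u ∈ K → g * u * g⁻¹ ∈ K → L ≤ K) :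
    ∃ u g : G, (IsNilpotent (toMat u - 1) ∧ (toMat u - 1) ^ k ≠ 0) ∧
      Subgroup.closure {u, g * u * g⁻¹} = ⊤ := by
  refine ⟨ε.symm ⟨u, hu⟩, ε.symm ⟨g, hg⟩,
    reg_transfer (fun x => by rw [← hε, ε.apply_symm_apply, e]) hN hk,
    closure_transfer ε fun K hK hs => gen K hK ?_ ?_⟩
  · simpa using hs (ε.symm ⟨u, hu⟩) (by simp)
  · simpa using hs (ε.symm ⟨g, hg⟩ * ε.symm ⟨u, hu⟩ * (ε.symm ⟨g, hg⟩)⁻¹) (by simp)

theorem gen3_of_gen2 {P : G → Prop}
    (h : ∃ u g : G, P u ∧ Subgroup.closure {u, g * u * g⁻¹} = ⊤) :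
    ∃ u g h : G, P u ∧ Subgroup.closure {u, g * u * g⁻¹, h * u * h⁻¹} = ⊤ := by
  obtain ⟨u, g, h1, h2⟩ := h
  exact ⟨u, g, g, h1, by simpa using h2⟩

end transfer

/-! ### Generators of finite fields -/

theorem closure_eq_top_of_cast {R : Type*} [Ring R] (h : ∀ x : R, ∃ k : ℤ, x = k) (s : Set R) :
    Subring.closure s = ⊤ :=
  eq_top_iff.2 fun x _ => by obtain ⟨k, rfl⟩ := h x; exact intCast_mem _ k

theorem cast_of_closure {R : Type*} [Ring R] {k : ℤ} (h : Subring.closure {(k : R)} = ⊤) (x : R) :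
    ∃ k : ℤ, x = k := by
  have : Subring.closure {(k : R)} ≤ (Int.castRingHom R).range :=
    Subring.closure_le.2 (by rintro _ rfl; exact ⟨k, rfl⟩)
  obtain ⟨m, hm⟩ := this (h ▸ Subring.mem_top x)
  exact ⟨m, hm.symm⟩

theorem cast_of_prime [Fintype F] (h : (Fintype.card F).Prime) (x : F) : ∃ k : ℤ, x = k := by
  have := Fact.mk h
  let e := ZMod.ringEquivOfPrime F h rfl
  obtain ⟨k, hk⟩ := ZMod.intCast_surjective (e.symm x)
  exact ⟨k, by rw [← e.apply_symm_apply x, ← hk, map_intCast]⟩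

theorem inv_mem_subring [Finite F] (S : Subring F) {x : F} (hx : x ∈ S) : x⁻¹ ∈ S := by
  by_cases h0 : x = 0
  · simp [h0]
  have := Fintype.ofFinite F
  have h1 : x ^ (Fintype.card F - 2) = x⁻¹ := by
    refine eq_inv_of_mul_eq_one_left ?_
    have := Fintype.one_lt_card (α := F)
    rw [← pow_succ, show Fintype.card F - 2 + 1 = Fintype.card F - 1 by omega,
      FiniteField.pow_card_sub_one_eq_one _ h0]
  exact h1 ▸ S.pow_mem hx _

theorem closure_eq_top_of_mem {R : Type*} [Ring R] {a : R} {s : Set R}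
    (h : Subring.closure {a} = ⊤) (hb : a ∈ Subring.closure s) : Subring.closure s = ⊤ :=
  eq_top_iff.2 (h ▸ Subring.closure_le.2 (by rintro _ rfl; exact hb))

theorem exists_prim [Finite F] : ∃ θ : F, θ ≠ 0 ∧ ∀ x : F, x ≠ 0 → ∃ k : ℕ, x = θ ^ k := by
  obtain ⟨g, hg⟩ := IsCyclic.exists_monoid_generator (α := Fˣ)
  refine ⟨g, g.ne_zero, fun x hx => ?_⟩
  obtain ⟨k, hk⟩ := hg (Units.mk0 x hx)
  exact ⟨k, by simpa using congrArg Units.val hk.symm⟩

theorem exists_field_gen [Finite F] : ∃ θ : F, θ ≠ 0 ∧ Subring.closure {θ} = ⊤ := by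
  obtain ⟨θ, h0, h⟩ := exists_prim (F := F)
  refine ⟨θ, h0, eq_top_iff.2 fun x _ => ?_⟩
  by_cases hx : x = 0
  · exact hx ▸ zero_mem _
  obtain ⟨k, rfl⟩ := h x hx
  exact pow_mem (Subring.subset_closure (Set.mem_singleton θ)) _

theorem exists_nat_inv [Finite F] (k : ℕ) : ∃ m : ℕ, (m : F) = (k : F)⁻¹ := by
  by_cases h0 : (k : F) = 0
  · exact ⟨0, by simp [h0]⟩
  have := Fintype.ofFinite F
  refine ⟨k ^ (Fintype.card F - 2), eq_inv_of_mul_eq_one_left ?_⟩
  have := Fintype.one_lt_card (α := F)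
  rw [Nat.cast_pow, ← pow_succ, show Fintype.card F - 2 + 1 = Fintype.card F - 1 by omega,
    FiniteField.pow_card_sub_one_eq_one _ h0]

theorem exists_sqrt_two [Finite F] (h2 : (2 : F) = 0) (x : F) : ∃ r, r * r = x := by
  have : Function.Injective fun r : F => r * r := fun a b e => by
    have : (a - b) * (a - b) = 0 := by
      have e' : a * a = b * b := e
      linear_combination e' + (b * b - a * b) * h2
    exact sub_eq_zero.1 (mul_self_eq_zero.1 this)
  exact Finite.surjective_of_injective this x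

end CF.Classical
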