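/-
Generation of `SL_n(q)`, `n ≥ 4`, by regular unipotent elements.
-/
import Cfsg.Agent.Classical.RegGenA

set_option autoImplicit false
set_option linter.unusedSectionVars false

namespace CF.Classical

open Module CF.Geom

variable {F : Type*} [Field F] {n : ℕ}

/-- The `i`-th coordinate (zero for `i ≥ n`). -/
def rco (F : Type*) [Field F] (n i : ℕ) : Dual F (Fin n → F) :=
  if h : i < n then LinearMap.proj ⟨i, h⟩ else 0

theorem rco_ge {i : ℕ} (h : n ≤ i) (x : Fin n → F) : rco F n i x = 0 := by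
  simp [rco, not_lt.2 h]

theorem rco_lt {i : ℕ} (h : i < n) (x : Fin n → F) : rco F n i x = x ⟨i, h⟩ := by simp [rco, h]

theorem rco_ext {x y : Fin n → F} (h : ∀ i < n, rco F n i x = rco F n i y) : x = y :=
  funext fun i => by simpa [rco_lt i.2] using h i i.2

/-- The vector with given coordinates. -/
def rmk (n : ℕ) (f : ℕ → F) : Fin n → F := fun i => f i

theorem rco_mk {i : ℕ} (h : i < n) (f : ℕ → F) : rco F n i (rmk n f) = f i := rco_lt h _

/-- The linear map with given coordinate functionals. -/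
def rpi (n : ℕ) (f : ℕ → Dual F (Fin n → F)) : End F (Fin n → F) := LinearMap.pi fun i => f i

theorem rco_pi {i : ℕ} (h : i < n) (f : ℕ → Dual F (Fin n → F)) (x : Fin n → F) :
    rco F n i (rpi n f x) = f i x := rco_lt h _

/-- The shift. -/
def rsh (F : Type*) [Field F] (n : ℕ) : End F (Fin n → F) := rpi n fun i => rco F n (i + 1)

theorem rco_sh (i : ℕ) (x : Fin n → F) : rco F n i (rsh F n x) = rco F n (i + 1) x := by
  by_cases h : i < n
  · exact rco_pi h _ x
  · rw [rco_ge (by omega), rco_ge (by omega)]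

theorem rco_sh_pow (i k : ℕ) (x : Fin n → F) :
    rco F n i ((rsh F n ^ k) x) = rco F n (i + k) x := by
  induction k generalizing i with
  | zero => simp
  | succ k ih => rw [pow_succ', End.mul_apply, rco_sh, ih]; congr 1; ring_nf

theorem rsh_nil : IsNilpotent (rsh F n) :=
  ⟨n, LinearMap.ext fun x => rco_ext fun i _ => by rw [rco_sh_pow, rco_ge (by omega)]; simp⟩

/-- The first basis vector. -/
def re0 (F : Type*) [Field F] (n : ℕ) : Fin n → F := rmk n fun i => if i = 0 then 1 else 0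

theorem rco_e0 (hn : 0 < n) (i : ℕ) : rco F n i (re0 F n) = if i = 0 then 1 else 0 := by
  by_cases h : i < n
  · exact rco_mk h _
  · rw [rco_ge (by omega), if_neg (by omega)]

theorem rsh_ker (hn : 0 < n) (x : Fin n → F) (h : rsh F n x = 0) : x ∈ F ∙ re0 F n := by
  refine Submodule.mem_span_singleton.2 ⟨rco F n 0 x, rco_ext fun i _ => ?_⟩
  rcases i with _ | i
  · simp [rco_e0 hn]
  · rw [← rco_sh i x, h]; simp [rco_e0 hn]

theorem rsh_pow_ne {z : Fin n → F} (h : rco F n (n - 1) z ≠ 0) : (rsh F n ^ (n - 1)) z ≠ 0 :=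
  fun e => h (by simpa [rco_sh_pow] using congrArg (rco F n 0) e)

theorem rsh_pow_ne' (hn : 0 < n) : rsh F n ^ (n - 1) ≠ 0 := fun e =>
  rsh_pow_ne (z := rmk n fun _ => (1 : F)) (by rw [rco_mk (by omega)]; exact one_ne_zero)
    (by rw [e]; rfl)

/-- The functional `-(2 x₀ + x₁)`. -/
def rζ (F : Type*) [Field F] (n : ℕ) : Dual F (Fin n → F) := -((2 : F) • rco F n 0 + rco F n 1)

theorem rζ_apply (x : Fin n → F) : rζ F n x = -(2 * rco F n 0 x + rco F n 1 x) := by simp [rζ]

/-- The nilpotent part of the second generator. -/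
def rN (z : Fin n → F) : End F (Fin n → F) :=
  rsh F n + (rco F n 0).smulRight (z + rsh F n z - (2 : F) • re0 F n) -
    (rco F n 1).smulRight (re0 F n)

theorem rN_apply (z x : Fin n → F) : rN z x = rsh F n x +
    rco F n 0 x • (z + rsh F n z - (2 : F) • re0 F n) - rco F n 1 x • re0 F n := rfl

/-- The standing assumptions on `z`. -/
structure RZ (z : Fin n → F) : Prop where
  hn : 3 ≤ n
  z0 : rco F n 0 z = -2
  z1 : rco F n 1 z = 4
  zl : rco F n (n - 1) z ≠ 0

namespace RZ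

variable {z : Fin n → F} (hz : RZ z) {H : Subgroup ((Fin n → F) ≃ₗ[F] (Fin n → F))}
include hz

theorem pos : 0 < n := by have := hz.hn; omega

theorem co0_N (x : Fin n → F) : rco F n 0 (rN z x) = 0 := by
  simp [rN_apply, rco_sh, rco_e0 hz.pos, hz.z0, hz.z1]; norm_num

theorem co_N (i : ℕ) (x : Fin n → F) : rco F n (i + 1) (rN z x) =
    rco F n (i + 2) x + rco F n 0 x * (rco F n (i + 1) z + rco F n (i + 2) z) := by
  simp [rN_apply, rco_sh, rco_e0 hz.pos]

theorem co_N_pow (i k : ℕ) (x : Fin n → F) :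
    rco F n (i + 1) ((rN z ^ (k + 1)) x) = rco F n (i + 1 + k) (rN z x) := by
  induction k generalizing i with
  | zero => simp
  | succ k ih =>
    rw [pow_succ', End.mul_apply, hz.co_N, ih, pow_succ', End.mul_apply, hz.co0_N]
    simp only [zero_mul, add_zero]; congr 2; omega

theorem nil : IsNilpotent (rN z) := by
  refine ⟨n + 1, LinearMap.ext fun x => rco_ext fun i _ => ?_⟩
  rcases i with _ | i
  · rw [pow_succ', End.mul_apply, hz.co0_N]; simp
  · rw [hz.co_N_pow, rco_ge (by omega)]; simp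

theorem pow_e0 : (rN z ^ (n - 1)) (re0 F n) ≠ 0 := fun e => by
  have h3 := hz.hn
  have := hz.co_N_pow 0 (n - 2) (re0 F n)
  rw [show n - 2 + 1 = n - 1 by omega, e, show 0 + 1 + (n - 2) = n - 2 + 1 by omega, hz.co_N,
    rco_ge (i := n - 2 + 2) (by omega), rco_ge (i := n - 2 + 2) (by omega),
    show n - 2 + 1 = n - 1 by omega, rco_e0 hz.pos] at this
  exact hz.zl (by simpa using this.symm)

theorem pow_ne : rN z ^ (n - 1) ≠ 0 := fun e => hz.pow_e0 (by rw [e]; rfl)

theorem ζz : rζ F n z = 0 := by rw [rζ_apply, hz.z0, hz.z1]; ring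

variable (hu : RHas H fun x => x + rsh F n x) (hv : RHas H fun x => x + rN z x)
include hu hv

theorem irr : RIrr H :=
  rIrr_of rsh_nil hu (rsh_ker hz.pos) hv
    (rCyc_of_pow hz.nil (by simpa using hz.pow_e0) fun _ => rfl)

theorem has_g : RHas H fun x => x + rco F n 0 x • z + rζ F n x • re0 F n := by
  obtain ⟨u, hu, eu⟩ := hu
  refine ((RHas.of_mem (inv_mem hu) fun _ => rfl).comp hv).congr fun x => ?_
  apply u.injective
  rw [apply_inv_apply, eu]
  refine rco_ext fun i _ => ?_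
  simp [rN_apply, rco_sh, rco_e0 hz.pos, rζ_apply]
  split_ifs <;> ring

theorem tv_z : RTv H (rζ F n) z := by
  refine ⟨hz.ζz, ((hz.has_g hu hv).comp (hz.has_g hu hv)).congr fun x => ?_⟩
  simp only [map_add, map_smul, hz.ζz, hz.z0, rζ_apply, hz.z1, rco_e0 hz.pos, smul_eq_mul]
  simp only [if_true, one_ne_zero, if_false]
  module

theorem tv_proj {a : Fin n → F} (ha : RTv H (rζ F n) a) : RTv H (rζ F n) (rco F n 0 a • z) := by
  refine ((ha.fixNeg (hz.has_g hu hv) fun x => ?_).sub ha).congr (by simp [ha.1])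
  simp only [map_add, map_smul, hz.ζz, rζ_apply, hz.z0, hz.z1, rco_e0 hz.pos, smul_eq_mul]
  simp only [if_true, one_ne_zero, if_false]
  ring

theorem fin (hS : z ∈ rTvS H (rζ F n)) {h : (Fin n → F) ≃ₗ[F] (Fin n → F)} (hh : h ∈ H)
    (h0 : rζ F n (h z) = 0) (h1 : rζ F n (h⁻¹ z) ≠ 0) (hc : RCyc F h z) :
    SLG F (Fin n → F) ≤ H :=
  SLG_le_of_ax (ax_of_cyc hS hh h0 h1 hc) (fun e => h1 (by simp [e])) (hz.irr hu hv)

theorem mul_of {h : (Fin n → F) ≃ₗ[F] (Fin n → F)} (hh : h ∈ H) (h0 : rζ F n (h z) = 0) (l : F)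
    (hl : RTv H (rζ F n) (l • z)) :
    RTv H (rζ F n) ((rζ F n (h⁻¹ z) * rco F n 0 (h z) * l) • z) :=
  (hz.tv_proj hu hv ((hz.tv_z hu hv).commConj hl hh (by simp [h0]))).congr (by
    simp only [map_smul, smul_eq_mul]; congr 1; ring)

end RZ

/-- The vector `w = u⁻¹ z`. -/
def rW (n : ℕ) (r d : F) : Fin n → F := rmk n fun i =>
  if i = n - 1 then d else if i = 0 then 2 - r else if i = 1 then r - 4 else
    if i = 2 then 8 - r else if i = 3 then r - 16 else 0

section caseA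

variable {r d : F} (hn : 4 ≤ n) (hd : n = 4 → d = r - 16)
include hn hd

theorem rW_co : rco F n 0 (rW n r d) = 2 - r ∧ rco F n 1 (rW n r d) = r - 4 ∧
    rco F n 2 (rW n r d) = 8 - r ∧ rco F n 3 (rW n r d) = r - 16 ∧
    rco F n (n - 1) (rW n r d) = d := by
  refine ⟨?_, ?_, ?_, ?_, ?_⟩ <;> rw [rW, rco_mk (by omega)]
  · rw [if_neg (by omega)]; simp
  · rw [if_neg (by omega)]; simp
  · rw [if_neg (by omega)]; simp
  · by_cases h : n = 4
    · rw [if_pos (by omega)]; exact hd h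
    · rw [if_neg (by omega)]; simp
  · simp

theorem rW_last : rco F n (n - 1) (rW n r d + rsh F n (rW n r d)) = d := by
  rw [map_add, rco_sh, rco_ge (i := n - 1 + 1) (by omega), (rW_co hn hd).2.2.2.2, add_zero]

theorem rZ_W (d0 : d ≠ 0) : RZ (rW n r d + rsh F n (rW n r d)) := by
  obtain ⟨h0, h1, h2, h3, h4⟩ := rW_co hn hd
  refine ⟨by omega, ?_, ?_, by rwa [rW_last hn hd]⟩
  · simp [rco_sh, h0, h1]; ring
  · simp [rco_sh, h2, h1]; ring

variable {H : Subgroup ((Fin n → F) ≃ₗ[F] (Fin n → F))} (d0 : d ≠ 0)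
  (hu : RHas H fun x => x + rsh F n x)
  (hv : RHas H fun x => x + rN (rW n r d + rsh F n (rW n r d)) x)
include d0 hu hv

theorem caseA_fin (r0 : r ≠ 0) (hS : rW n r d + rsh F n (rW n r d) ∈ rTvS H (rζ F n)) :
    SLG F (Fin n → F) ≤ H := by
  obtain ⟨h0, h1, h2, h3, h4⟩ := rW_co hn hd
  have hz := rZ_W hn hd d0
  obtain ⟨u, hu', eu⟩ := id hu
  beta_reduce at eu
  refine hz.fin hu hv hS hu' ?_ ?_ (rCyc_of_pow rsh_nil (by simpa using rsh_pow_ne hz.zl) eu)
  · simp [eu, rζ_apply, rco_sh, h0, h1, h2, h3]; ring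
  · rw [← eu, inv_apply_apply, rζ_apply, h0, h1]; intro e; exact r0 (by linear_combination e)

theorem caseA_odd (hr : Subring.closure {2 * r} = ⊤) :
    rW n r d + rsh F n (rW n r d) ∈ rTvS H (rζ F n) := by
  obtain ⟨h0, h1, h2, h3, h4⟩ := rW_co hn hd
  have hz := rZ_W hn hd d0
  obtain ⟨u, hu', eu⟩ := id hu
  beta_reduce at eu
  refine (hz.tv_z hu hv).all_smul hr fun l hl => ?_
  convert hz.mul_of hu hv hu' (by simp [eu, rζ_apply, rco_sh, h0, h1, h2, h3]; ring) l hl using 3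
  rw [← eu, inv_apply_apply]
  simp [eu, rζ_apply, rco_sh, h0, h1, h2]; ring

theorem caseA_two (h2 : (2 : F) = 0) (hr : Subring.closure {r * r} = ⊤) :
    rW n r d + rsh F n (rW n r d) ∈ rTvS H (rζ F n) := by
  obtain ⟨w0, w1, w2, w3, -⟩ := rW_co hn hd
  have hz := rZ_W hn hd d0
  obtain ⟨u, hu', eu⟩ := id hu
  beta_reduce at eu
  obtain ⟨g, hg, eg⟩ := hz.has_g hu hv
  set w := rW n r d
  have pos := hz.pos
  have e1 : g⁻¹ w = w + r • re0 F n := by
    apply g.injective
    rw [apply_inv_apply, eg]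
    refine rco_ext fun i _ => ?_
    simp only [map_add, map_smul, rζ_apply, rco_e0 pos, w0, w1, smul_eq_mul]
    split_ifs <;> simp <;> grind
  have e2 : (u * u * g⁻¹ * u⁻¹) (w + rsh F n w) = u (u (w + r • re0 F n)) := by
    simp only [LinearEquiv.mul_apply]; rw [← eu, inv_apply_apply, e1]
  have hh : u * u * g⁻¹ * u⁻¹ ∈ H := mul_mem (mul_mem (mul_mem hu' hu') (inv_mem hg)) (inv_mem hu')
  refine (hz.tv_z hu hv).all_smul hr fun l hl => ?_
  convert hz.mul_of hu hv hh (by
    rw [e2]; simp [eu, rζ_apply, rco_sh, w0, w1, w2, w3, rco_e0 pos]; grind) l hl using 3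
  obtain ⟨s, hs⟩ := u.surjective w
  have e3 : (u * u * g⁻¹ * u⁻¹)⁻¹ (w + rsh F n w) = u (g s) := by
    simp only [mul_inv_rev, inv_inv, LinearEquiv.mul_apply]
    rw [← eu, inv_apply_apply, ← hs, inv_apply_apply]
  have s0 := congrArg (rco F n 0) hs
  have s1 := congrArg (rco F n 1) hs
  rw [e2, e3]
  simp [eu, eg, rζ_apply, rco_sh, w0, w1, w2, w3, rco_e0 pos] at s0 s1 ⊢
  grind

end caseA

/-! ### Conjugacy of the two generators -/

/-- The signed cyclic shift. -/
def rC (F : Type*) [Field F] (n : ℕ) : End F (Fin n → F) :=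
  rpi n fun i => if i = 0 then rco F n (n - 1) else -rco F n (i - 1)

theorem rco_C {i : ℕ} (h : i < n) (x : Fin n → F) :
    rco F n i (rC F n x) = if i = 0 then rco F n (n - 1) x else -rco F n (i - 1) x := by
  rw [rC, rco_pi h]; split_ifs <;> rfl

theorem rC_val (i : Fin n) (x : Fin n → F) :
    rC F n x i = if (i : ℕ) = 0 then rco F n (n - 1) x else -rco F n (i - 1) x := by
  rw [← rco_C i.2, rco_lt i.2]

/-- The Jordan block as an automorphism. -/
noncomputable def rU (F : Type*) [Field F] (n : ℕ) : (Fin n → F) ≃ₗ[F] (Fin n → F) :=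
  rUnip (rsh_nil (F := F) (n := n))

theorem rU_apply (x : Fin n → F) : rU F n x = x + rsh F n x := rfl

theorem rU_mem : rU F n ∈ SLG F (Fin n → F) := det_eq_one_of_nil rsh_nil rU_apply

theorem det_rC (m : ℕ) : LinearMap.det (rC F (m + 1)) = 1 := by
  rw [← LinearMap.det_toMatrix', Matrix.det_succ_row_zero, Finset.sum_eq_single (Fin.last m)]
  · have : (LinearMap.toMatrix' (rC F (m + 1))).submatrix Fin.succ (Fin.last m).succAbove = -1 := by
      ext i j
      rw [Matrix.submatrix_apply, LinearMap.toMatrix'_apply, rC_val,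
        if_neg (by simp), rco_lt (by simp only [Fin.val_succ]; omega)]
      simp [Matrix.one_apply, Fin.ext_iff, Pi.single_apply]
    rw [this, LinearMap.toMatrix'_apply, rC_val, if_pos (Fin.val_zero _),
      rco_lt (by omega), Matrix.det_neg]
    simp [← mul_pow, Pi.single_apply, Fin.ext_iff]
  · intro j _ hj
    rw [LinearMap.toMatrix'_apply, rC_val, if_pos (Fin.val_zero _),
      rco_lt (by omega)]
    have : (j : ℕ) ≠ m := fun e => hj (Fin.ext e)
    simp [Pi.single_apply, Fin.ext_iff, this.symm]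
  · simp

theorem RZ.conj {z : Fin n → F} (hz : RZ z) (hd : rco F n (n - 1) z = -1) :
    ∃ P ∈ SLG F (Fin n → F), ∀ x, (P * rU F n * P⁻¹) x = x + rN z x := by
  obtain ⟨m, rfl⟩ : ∃ m, n = m + 1 := ⟨n - 1, by have := hz.hn; omega⟩
  have h3 := hz.hn
  let C := LinearEquiv.ofIsUnitDet (f := rC F (m + 1)) (v := Pi.basisFun F _) (v' := Pi.basisFun F _)
    (by rw [LinearMap.det_toMatrix, det_rC]; exact isUnit_one)
  have hC : ∀ x, C x = rC F (m + 1) x := fun _ => rfl
  let a : Fin (m + 1) → F := rmk _ fun i =>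
    if i ≤ 1 then 0 else -(rco F _ (i - 1) z + rco F _ i z)
  have ha : rco F _ 0 a = 0 := by rw [rco_mk (by omega)]; simp
  refine ⟨tvE ha * C, mul_mem (tvE_mem_SLG ha) (mem_SLG.2 (det_rC m)), fun x => ?_⟩
  obtain ⟨x, rfl⟩ := (tvE ha * C).surjective x
  rw [LinearEquiv.mul_apply, inv_apply_apply]
  simp only [LinearEquiv.mul_apply, tvE_apply, hC, rU_apply]
  have c0 : ∀ x, rco F (m + 1) 0 (rC F (m + 1) x) = rco F (m + 1) m x := fun x => by
    rw [rco_C (by omega)]; simp
  refine rco_ext fun i hi => ?_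
  rcases i with _ | i
  · simp only [map_add, map_smul, hz.co0_N, c0, rco_sh, rco_ge (i := m + 1) le_rfl, ha]; simp
  · have cs : ∀ x, rco F (m + 1) (i + 1) (rC F (m + 1) x) = -rco F (m + 1) i x := fun x => by
      rw [rco_C hi]; simp
    simp only [map_add, map_smul, hz.co_N, c0, cs, rco_sh, rco_ge (i := m + 1) le_rfl, ha,
      smul_eq_mul]
    by_cases h : i + 2 < m + 1
    · rw [rco_C h, rco_mk h]; simp; ring
    · obtain rfl : m = i + 1 := by omega
      rw [rco_ge (i := i + 2) le_rfl, rco_ge (i := i + 2) le_rfl, rco_ge (i := i + 2) le_rfl]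
      simp only [add_tsub_cancel_right] at hd
      rw [hd]; ring

/-! ### Assembly -/

/-- `SL_n` is generated by `1 + N` and the second generator attached to `z`. -/
def RGen (z : Fin n → F) : Prop := ∀ H : Subgroup ((Fin n → F) ≃ₗ[F] (Fin n → F)),
  RHas H (fun x => x + rsh F n x) → RHas H (fun x => x + rN z x) → SLG F (Fin n → F) ≤ H

theorem exists_good_r [Finite F] : ∃ r : F, r ≠ 0 ∧ ((2 : F) ≠ 0 ∧ Subring.closure {2 * r} = ⊤ ∨
    (2 : F) = 0 ∧ Subring.closure {r * r} = ⊤) := by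
  obtain ⟨θ, h0, hθ⟩ := exists_field_gen (F := F)
  by_cases h2 : (2 : F) = 0
  · obtain ⟨r, rfl⟩ := exists_sqrt_two h2 θ
    exact ⟨r, left_ne_zero_of_mul h0, Or.inr ⟨h2, hθ⟩⟩
  · exact ⟨θ / 2, div_ne_zero h0 h2, Or.inl ⟨h2, by rwa [mul_div_cancel₀ _ h2]⟩⟩

theorem rGen_of_good {r d : F} (hn : 4 ≤ n) (hd : n = 4 → d = r - 16) (d0 : d ≠ 0) (r0 : r ≠ 0)
    (hr : (2 : F) ≠ 0 ∧ Subring.closure {2 * r} = ⊤ ∨
      (2 : F) = 0 ∧ Subring.closure {r * r} = ⊤) : RGen (rW n r d + rsh F n (rW n r d)) :=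
  fun _ hu hv => caseA_fin hn hd d0 hu hv r0 (hr.elim (fun h => caseA_odd hn hd d0 hu hv h.2)
    fun h => caseA_two hn hd d0 hu hv h.1 h.2)

theorem exists_rGen_five [Finite F] (hn : 5 ≤ n) :
    ∃ z : Fin n → F, RZ z ∧ rco F n (n - 1) z = -1 ∧ RGen z := by
  obtain ⟨r, r0, hr⟩ := exists_good_r (F := F)
  have hd : n = 4 → (-1 : F) = r - 16 := fun h => by omega
  exact ⟨_, rZ_W (by omega) hd (by simp), rW_last (by omega) hd,
    rGen_of_good (by omega) hd (by simp) r0 hr⟩

/-- In dimension four with last coordinate `-1`: generation once the root group is full. -/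
theorem exists_four : ∃ z : Fin 4 → F, RZ z ∧ rco F 4 3 z = -1 ∧
    ∀ H : Subgroup ((Fin 4 → F) ≃ₗ[F] (Fin 4 → F)), RHas H (fun x => x + rsh F 4 x) →
      RHas H (fun x => x + rN z x) → z ∈ rTvS H (rζ F 4) → SLG F (Fin 4 → F) ≤ H := by
  by_cases h : (15 : F) = 0
  · have h2 : (2 : F) ≠ 0 := fun e => one_ne_zero (α := F) (by linear_combination h - 7 * e)
    have h11 : (11 : F) ≠ 0 := fun e => one_ne_zero (α := F) (by linear_combination 3 * h - 4 * e)
    let z : Fin 4 → F := ![-2, 4, 0, -1]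
    have hz : RZ z := ⟨by omega, rfl, rfl, by simp [rco_lt, z]⟩
    refine ⟨z, hz, rfl, fun H hu hv hS => ?_⟩
    obtain ⟨u, hu', eu⟩ := id hu
    beta_reduce at eu
    have z2 : rco F 4 2 z = 0 := rfl
    have z3 : rco F 4 3 z = -1 := rfl
    refine hz.fin hu hv hS (mul_mem hu' hu') ?_ ?_ ?_
    · simp [eu, rζ_apply, rco_sh, hz.z0, hz.z1, z2, z3]; linear_combination -h
    · have : z = (u * u) ![-6, 1, 2, -1] := rco_ext fun i hi => by
        simp only [LinearEquiv.mul_apply, eu, map_add, rco_sh]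
        interval_cases i <;> simp [rco, z] <;> norm_num
      rw [this, inv_apply_apply, rζ_apply]
      intro e; exact h11 (by simp [rco] at e; linear_combination e)
    · refine rCyc_of_pow (N := rsh F 4 * (2 + rsh F 4))
        (Commute.isNilpotent_mul_right (Commute.add_right (Commute.ofNat_right _ _)
          (Commute.refl _)) rsh_nil) (fun e => ?_) fun x => ?_
      · have := congrArg (rco F 4 0) e
        have k : ∀ i x, rco F 4 i ((rsh F 4 * (2 + rsh F 4) : End F _) x) =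
            2 * rco F 4 (i + 1) x + rco F 4 (i + 2) x := fun i x => by
          simp [rco_sh, two_smul, two_mul]
        generalize (rsh F 4 * (2 + rsh F 4) : End F _) = M at k this
        simp only [finrank_fin_fun, Nat.add_one_sub_one, pow_succ, pow_zero, one_mul,
          End.mul_apply, k] at this
        simp [z3, rco_ge] at this
        exact h2 this
      · simp [eu, two_smul]; abel
  · have hd : 4 = 4 → (-1 : F) = 15 - 16 := fun _ => by norm_num
    exact ⟨_, rZ_W le_rfl hd (by simp), rW_last le_rfl hd, fun H hu hv hS =>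
      caseA_fin le_rfl hd (by simp) hu hv h hS⟩

theorem exists_rGen_four_prime (h : ∀ x : F, ∃ k : ℤ, x = k) :
    ∃ z : Fin 4 → F, RZ z ∧ rco F 4 3 z = -1 ∧ RGen z := by
  obtain ⟨z, hz, hd, hg⟩ := exists_four (F := F)
  exact ⟨z, hz, hd, fun H hu hv => hg H hu hv ((hz.tv_z hu hv).all_smul
    (closure_eq_top_of_cast h {1}) fun l hl => by rwa [one_mul])⟩

theorem exists_rGen [Finite F] (hn : 4 ≤ n) : ∃ z : Fin n → F, RZ z ∧ RGen z := by
  rcases hn.eq_or_lt with rfl | h5
  · by_cases h : ∀ x : F, ∃ k : ℤ, x = k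
    · obtain ⟨z, h1, -, h2⟩ := exists_rGen_four_prime h
      exact ⟨z, h1, h2⟩
    obtain ⟨r, r0, hr⟩ := exists_good_r (F := F)
    have d0 : r - 16 ≠ 0 := fun e => h (by
      obtain rfl : r = 16 := sub_eq_zero.1 e
      rcases hr with hr | hr
      · exact cast_of_closure (k := 2 * 16) (by rw [Int.cast_mul]; exact_mod_cast hr.2)
      · exact cast_of_closure (k := 16 * 16) (by rw [Int.cast_mul]; exact_mod_cast hr.2))
    exact ⟨_, rZ_W le_rfl (fun _ => rfl) d0, rGen_of_good le_rfl (fun _ => rfl) d0 r0 hr⟩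
  · obtain ⟨z, h1, -, h2⟩ := exists_rGen_five (F := F) h5
    exact ⟨z, h1, h2⟩

open MatrixGroups in
theorem RGen.conj_gen {z : Fin n → F} (hz : RZ z) (hd : rco F n (n - 1) z = -1) (h : RGen z) :
    ∃ u g : Matrix.SpecialLinearGroup (Fin n) F, (IsNilpotent (u.1 - 1) ∧ (u.1 - 1) ^ (n - 1) ≠ 0) ∧
      Subgroup.closure {u, g * u * g⁻¹} = ⊤ := by
  obtain ⟨P, hP, e⟩ := hz.conj hd
  exact gen2_transfer (slEquiv n F) (fun g => g.1) (slEquiv_apply n)
    rU_mem hP rsh_nil (rsh_pow_ne' hz.pos) rU_apply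
    fun K _ h1 h2 => h K (.of_mem h1 rU_apply) (.of_mem h2 e)

theorem sl4_three [Finite F] :
    ∃ u g h : Matrix.SpecialLinearGroup (Fin 4) F, (IsNilpotent (u.1 - 1) ∧ (u.1 - 1) ^ (4 - 1) ≠ 0) ∧
      Subgroup.closure {u, g * u * g⁻¹, h * u * h⁻¹} = ⊤ := by
  obtain ⟨z, hz, hd, hg⟩ := exists_four (F := F)
  obtain ⟨P, hP, e⟩ := hz.conj hd
  obtain ⟨θ, -, hθ⟩ := exists_field_gen (F := F)
  let b : Fin 4 → F := ![0, θ, -2 * θ, 0]
  let c : Fin 4 → F := ![-θ, 2 * θ, 0, 0]
  have hb : rco F 4 3 b = 0 := rfl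
  refine gen3_transfer (slEquiv 4 F) (fun g => g.1) (slEquiv_apply 4)
    rU_mem hP (tvE_mem_SLG hb) rsh_nil
    (rsh_pow_ne' hz.pos) rU_apply fun K _ h1 h2 h3 => ?_
  have hu : RHas K fun x => x + rsh F 4 x := .of_mem h1 rU_apply
  have hv : RHas K fun x => x + rN z x := .of_mem h2 e
  have ht : RTv K (rco F 4 3) c := ⟨rfl, .of_mem (mul_mem h3 (inv_mem h1)) fun x => by
    obtain ⟨x, rfl⟩ := (rU F 4).surjective x
    rw [LinearEquiv.mul_apply, inv_apply_apply, tvE_inv hb (by simp [hb])]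
    refine rco_ext fun i hi => ?_
    simp only [LinearEquiv.mul_apply, tvE_apply, rU_apply, map_add, map_smul, rco_sh, map_neg]
    interval_cases i <;> simp [rco, b, c] <;> ring⟩
  refine hg K hu hv ((hz.tv_z hu hv).all_smul hθ fun l hl => ?_)
  refine (hz.tv_proj hu hv (hl.comm ht (by simp [rζ_apply, rco, c]))).congr ?_
  rw [map_smul, map_smul, hd]
  congr 1
  simp [rco, c, mul_comm]

end CF.Classical
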