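/-
Generation of `SL_3(q)` by two conjugate regular unipotent elements.
-/
import Cfsg.Agent.Classical.RegGenA
import Cfsg.Agent.Classical.Subfields

set_option autoImplicit false
set_option linter.unusedSectionVars false

namespace CF.Classical

open Module CF.Geom Matrix

variable {F : Type*} [Field F]

theorem RTv.commHas {V : Type*} [AddCommGroup V] [Module F V] {H : Subgroup (V ≃ₗ[F] V)}
    {φ : Dual F V} {a b a' : V} (h : RTv H φ a) (h' : RTv H φ b) {f : V → V} (hf : RHas H f)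
    (e : φ (f b) = 0) (e' : f a' = a) : RTv H φ (φ a' • f b) := by
  obtain ⟨g, hg, eg⟩ := hf
  have := h.commConj h' hg (by rwa [eg])
  rwa [eg, ← e', ← eg a', inv_apply_apply] at this

/-- A `3 × 3` matrix as a linear map. -/
def m3 (a b c d e f g h i : F) : End F (Fin 3 → F) := toLin' !![a, b, c; d, e, f; g, h, i]

theorem m3_eq (a b c d e f g h i : F) (x : Fin 3 → F) :
    m3 a b c d e f g h i x = !![a, b, c; d, e, f; g, h, i] *ᵥ x := rfl

@[simp] theorem m3_0 (a b c d e f g h i : F) (x : Fin 3 → F) :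
    m3 a b c d e f g h i x 0 = a * x 0 + b * x 1 + c * x 2 := by
  simp [m3_eq, mulVec, dotProduct, Fin.sum_univ_three]

@[simp] theorem m3_1 (a b c d e f g h i : F) (x : Fin 3 → F) :
    m3 a b c d e f g h i x 1 = d * x 0 + e * x 1 + f * x 2 := by
  simp [m3_eq, mulVec, dotProduct, Fin.sum_univ_three]

@[simp] theorem m3_2 (a b c d e f g h i : F) (x : Fin 3 → F) :
    m3 a b c d e f g h i x 2 = g * x 0 + h * x 1 + i * x 2 := by
  simp [m3_eq, mulVec, dotProduct, Fin.sum_univ_three]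

theorem ext3 {α : Type*} {x y : Fin 3 → α} (h0 : x 0 = y 0) (h1 : x 1 = y 1) (h2 : x 2 = y 2) :
    x = y := by
  ext j; fin_cases j <;> assumption

/-- A functional on `F³`. -/
def rφ3 (a b c : F) : Dual F (Fin 3 → F) :=
  a • LinearMap.proj 0 + b • LinearMap.proj 1 + c • LinearMap.proj 2

theorem rφ3_apply (a b c : F) (x : Fin 3 → F) : rφ3 a b c x = a * x 0 + b * x 1 + c * x 2 := by
  simp [rφ3]

theorem nil3_up (a b c : F) : IsNilpotent (m3 0 a b 0 0 c 0 0 0) :=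
  ⟨3, LinearMap.ext fun x => by refine ext3 ?_ ?_ ?_ <;> simp [pow_succ]⟩

theorem nil3_low (a b c : F) : IsNilpotent (m3 0 0 0 a 0 0 b c 0) :=
  ⟨3, LinearMap.ext fun x => by refine ext3 ?_ ?_ ?_ <;> simp [pow_succ]⟩

theorem up3_apply (a b c : F) (x : Fin 3 → F) : m3 1 a b 0 1 c 0 0 1 x =
    x + m3 0 a b 0 0 c 0 0 0 x := by
  refine ext3 ?_ ?_ ?_ <;> simp [add_assoc]

theorem up3_pow_ne {a b c : F} (ha : a ≠ 0) (hc : c ≠ 0) :
    (m3 0 a b 0 0 c 0 0 0) ^ (3 - 1) ≠ 0 := fun e => by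
  have := congrFun (LinearMap.congr_fun e ![0, 0, 1]) 0
  simp [pow_succ, ha, hc] at this

theorem irr3 {H : Subgroup ((Fin 3 → F) ≃ₗ[F] (Fin 3 → F))} {a b c a' b' c' : F} (ha : a ≠ 0)
    (hc : c ≠ 0) (ha' : a' ≠ 0) (hc' : c' ≠ 0)
    (hu : RHas H fun x => m3 1 a b 0 1 c 0 0 1 x)
    (hv : RHas H fun x => m3 1 0 0 a' 1 0 b' c' 1 x) : RIrr H := by
  refine rIrr_of (nil3_up a b c) (hu.congr (up3_apply a b c)) (e := ![1, 0, 0]) (fun x hx => ?_) hv
    (rCyc_of_pow (nil3_low a' b' c') (fun e => ?_) fun x => ?_)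
  · have h0 := congrFun hx 0
    have h1 := congrFun hx 1
    simp [hc] at h1
    simp [h1, ha] at h0
    exact Submodule.mem_span_singleton.2 ⟨x 0, by refine ext3 ?_ ?_ ?_ <;> simp [h0, h1]⟩
  · have := congrFun e 2
    simp [pow_succ, ha', hc'] at this
  · refine ext3 ?_ ?_ ?_ <;> simp <;> ring

theorem sl3_of {a b c : F} (ha : a ≠ 0) (hc : c ≠ 0) {B P : Matrix (Fin 3) (Fin 3) F}
    (hP : P.det = 1) (e : P * !![1, a, b; 0, 1, c; 0, 0, 1] = B * P)
    (gen : ∀ H : Subgroup ((Fin 3 → F) ≃ₗ[F] (Fin 3 → F)),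
      RHas H (fun x => m3 1 a b 0 1 c 0 0 1 x) → RHas H (fun x => B *ᵥ x) →
        SLG F (Fin 3 → F) ≤ H) :
    ∃ u g : SpecialLinearGroup (Fin 3) F, (IsNilpotent (u.1 - 1) ∧ (u.1 - 1) ^ (3 - 1) ≠ 0) ∧
      Subgroup.closure {u, g * u * g⁻¹} = ⊤ := by
  refine gen2_transfer (slEquiv 3 F) (fun g => g.1) (slEquiv_apply 3)
    (det_eq_one_of_nil (nil3_up a b c) (rUnip_apply (nil3_up a b c))) (slEquiv 3 F ⟨P, hP⟩).2
    (nil3_up a b c) (up3_pow_ne ha hc) (rUnip_apply _) fun K _ h1 h2 =>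
      gen K (.of_mem h1 fun x => (up3_apply a b c x).symm) (.of_mem h2 fun x => ?_)
  obtain ⟨x, rfl⟩ := (slEquiv 3 F ⟨P, hP⟩).1.surjective x
  rw [LinearEquiv.mul_apply, inv_apply_apply, LinearEquiv.mul_apply, rUnip_apply, ← up3_apply,
    m3_eq]
  exact (mulVec_mulVec x P _).trans (e ▸ (mulVec_mulVec x B P).symm)

theorem sl3_two [Finite F] (h2 : (2 : F) = 0) :
    ∃ u g : SpecialLinearGroup (Fin 3) F, (IsNilpotent (u.1 - 1) ∧ (u.1 - 1) ^ (3 - 1) ≠ 0) ∧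
      Subgroup.closure {u, g * u * g⁻¹} = ⊤ := by
  obtain ⟨θ, h0, hθ⟩ := exists_field_gen (F := F)
  refine sl3_of (b := θ) one_ne_zero one_ne_zero (B := !![1, 0, 0; 1, 1, 0; 0, 1, 1])
    (P := !![0, 0, 1; 0, 1, 0; 1, θ, 0]) (by simp [det_fin_three]; grind)
    (by ext i j; fin_cases i <;> fin_cases j <;> simp [mul_apply, Fin.sum_univ_three] <;> grind)
    fun H hu hv => ?_
  replace hv : RHas H fun x => m3 1 0 0 1 1 0 0 1 1 x := hv
  have ht : RTv H (rφ3 0 0 1) ![1, 0, 0] := ⟨by simp [rφ3_apply], (hu.comp hu).congr fun x => by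
    refine ext3 ?_ ?_ ?_ <;> simp [rφ3_apply] <;> grind⟩
  have k : ∀ l : F, RTv H (rφ3 0 0 1) (l • ![1, 0, 0]) →
      RTv H (rφ3 0 0 1) ((θ * l) • ![0, 1, 0]) := fun l hl =>
    (ht.commHas hl (hv.comp (hv.comp (hu.comp hv))) (a' := ![θ, 1 + θ, θ])
      (by simp [rφ3_apply]; grind)
      (by refine ext3 ?_ ?_ ?_ <;> simp <;> grind)).congr
      (by refine ext3 ?_ ?_ ?_ <;> simp [rφ3_apply] <;> grind)
  have h1 := ht.all_smul hθ fun l hl => (((k l hl).fix hu fun x => by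
    simp [rφ3_apply]).sub (k l hl)).congr (by refine ext3 ?_ ?_ ?_ <;> simp)
  refine SLG_le_of_ax (ζ := rφ3 0 0 1) (rTv_of_ax fun a ha => ?_) (fun e => ?_)
    (irr3 one_ne_zero one_ne_zero one_ne_zero one_ne_zero hu hv)
  · simp [rφ3_apply] at ha
    exact ((h1 (a 0)).add (k _ (h1 (a 1 / θ)))).congr (by
      refine ext3 ?_ ?_ ?_ <;> simp [ha, mul_div_cancel₀ _ h0])
  · simpa [rφ3_apply] using LinearMap.congr_fun e ![0, 0, 1]

theorem sl3_odd_of [Finite F] (h2 : (2 : F) ≠ 0) {c : F} (c0 : c ≠ 0) (c2 : c ≠ 2) (c4 : c + 4 ≠ 0)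
    (hc : Subring.closure {c ^ 3 / 2 - 2} = ⊤) :
    ∃ u g : SpecialLinearGroup (Fin 3) F, (IsNilpotent (u.1 - 1) ∧ (u.1 - 1) ^ (3 - 1) ≠ 0) ∧
      Subgroup.closure {u, g * u * g⁻¹} = ⊤ := by
  refine sl3_of (a := -1) (b := -2) (c := -c) (by simp) (by simpa using c0)
    (B := !![1, 0, 0; c, 1, 0; -2, 1, 1])
    (P := !![0, 0, 1; 0, -1, 0; 1, 0, 0]) (by simp [det_fin_three])
    (by ext i j; fin_cases i <;> fin_cases j <;> simp [mul_apply, Fin.sum_univ_three])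
    fun H hu hv => ?_
  replace hv : RHas H fun x => m3 1 0 0 c 1 0 (-2) 1 1 x := hv
  have hU : RHas H fun x => m3 1 1 (c + 2) 0 1 c 0 0 1 x := hu.inv fun x => by
    refine ext3 ?_ ?_ ?_ <;> simp; ring
  have hg : RHas H fun x => m3 (-c - 3) (c + 3) (c + 2) (-c) (c + 1) c (-2) 1 1 x :=
    (hU.comp hv).congr fun x => by refine ext3 ?_ ?_ ?_ <;> simp <;> ring
  have ht : RTv H (rφ3 1 (-1) (-1)) ((c + 4) • ![1, 0, 1]) :=
    ⟨by simp [rφ3_apply], (hg.comp hg).congr fun x => by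
      refine ext3 ?_ ?_ ?_ <;> simp [rφ3_apply] <;> ring⟩
  obtain ⟨m, hm⟩ := exists_nat_inv (F := F) 2
  obtain ⟨t, rfl⟩ : ∃ t, c = 2 * t := ⟨c / 2, by field_simp⟩
  have ht' : RTv H (rφ3 1 (-1) (-1)) ![t + 2, 0, t + 2] := (ht.natCast m).congr (by
    refine ext3 ?_ ?_ ?_ <;> simp [hm] <;> field_simp <;> ring)
  have hj : RHas H fun x => m3 (-1 - t + 2 * t ^ 2) (1 - 4 * t ^ 2) (t - 4 * t ^ 2 + 4 * t ^ 3)
      (-2 * t + 2 * t ^ 2) (1 + 2 * t - 4 * t ^ 2) (2 * t - 6 * t ^ 2 + 4 * t ^ 3) t (-1 - 2 * t)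
      (-1 - t + 2 * t ^ 2) x :=
    (hU.comp (hg.comp (ht'.neg.2.comp hu))).congr fun x => by
      refine ext3 ?_ ?_ ?_ <;> simp [rφ3_apply, -add_cons, -smul_cons, -neg_cons] <;> ring
  have k : ∀ l : F, RTv H (rφ3 1 (-1) (-1)) (l • ![1, 0, 1]) → RTv H (rφ3 1 (-1) (-1))
      ((l * (2 * t ^ 2 - 1)) • ![1, 0, 1] + (l * (4 * t ^ 3 - 4 * t ^ 2)) • ![1, 1, 0]) :=
    fun l hl => (hl.fixNeg hj fun x => by simp [rφ3_apply]; ring).congr (by
      refine ext3 ?_ ?_ ?_ <;> simp <;> ring)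
  have h1 := ht.all_smul hc fun l hl => by
    have := k (l * (2 * t + 4)) (hl.congr (by module))
    exact ((this.fixNeg hg fun x => by simp [rφ3_apply]; ring).sub this).neg.congr (by
      refine ext3 ?_ ?_ ?_ <;> simp [-add_cons, -smul_cons, -neg_cons, -sub_cons, -cons_sub] <;>
        field_simp <;> ring)
  have h1' : ∀ l : F, RTv H (rφ3 1 (-1) (-1)) (l • ![1, 0, 1]) := fun l =>
    (h1 (l / (2 * t + 4))).congr (by rw [smul_smul, div_mul_cancel₀ _ c4])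
  have hβ : 4 * t ^ 3 - 4 * t ^ 2 ≠ 0 := fun e => by
    have : (2 * t) ^ 2 * (2 * t - 2) = 0 := by linear_combination 2 * e
    exact (mul_ne_zero (pow_ne_zero _ c0) (sub_ne_zero.2 c2)) this
  refine SLG_le_of_ax (ζ := rφ3 1 (-1) (-1)) (rTv_of_ax fun a ha => ?_) (fun e => ?_)
    (irr3 one_ne_zero c0 c0 one_ne_zero hU hv)
  · simp [rφ3_apply] at ha
    refine ((h1' (a 2 - a 1 / (4 * t ^ 3 - 4 * t ^ 2) * (2 * t ^ 2 - 1))).add
      (k _ (h1' (a 1 / (4 * t ^ 3 - 4 * t ^ 2))))).congr ?_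
    rw [div_mul_cancel₀ _ hβ]
    refine ext3 ?_ ?_ ?_ <;> simp
    linear_combination -ha
  · simpa [rφ3_apply] using LinearMap.congr_fun e ![1, 0, 0]

/-- If the powers of `x` are many, `x` generates the field. -/
theorem closure_eq_top_of_orderOf [Finite F] {x : F} (h0 : x ≠ 0)
    (h : ∀ s : ℕ, s ^ 2 ≤ Nat.card F → 2 ≤ s → x ^ (s - 1) ≠ 1 ∨
      ¬ ∃ m, s ^ m = Nat.card F) : Subring.closure {x} = ⊤ := by
  let K : Subfield F := { Subring.closure {x} with inv_mem' := fun y hy => inv_mem_subring _ hy }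
  by_contra hne
  have hK : K ≠ ⊤ := fun e => hne (eq_top_iff.2 fun y _ => (e ▸ Subfield.mem_top y : y ∈ K))
  obtain ⟨m, -, hm⟩ := card_subfield_pow_of_le (le_top (a := K))
  have h2 : 2 ≤ Nat.card K := Finite.one_lt_card
  rcases h _ (sq_le_card_of_ne_top hK) h2 with h | h
  · have := (mem_subfield_iff_pow K).1 (show x ∈ K from Subring.subset_closure rfl)
    refine h (mul_right_cancel₀ h0 ?_)
    rw [← pow_succ, Nat.sub_add_cancel (by omega), this, one_mul]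
  · exact h ⟨m, by rw [hm, card_subfield_top]⟩

theorem prim_pow_eq_one [Finite F] {θ : F} (h0 : θ ≠ 0) (h : ∀ x : F, x ≠ 0 → ∃ k : ℕ, x = θ ^ k)
    {m : ℕ} (hm : θ ^ m = 1) : Nat.card F - 1 ∣ m := by
  rw [← Nat.card_units, ← IsCyclic.exponent_eq_card]
  refine Monoid.exponent_dvd_of_forall_pow_eq_one fun g => Units.ext ?_
  obtain ⟨k, hk⟩ := h g g.ne_zero
  rw [Units.val_pow_eq_pow_val, hk, ← pow_mul, mul_comm, pow_mul, hm, one_pow, Units.val_one]

theorem two_eq_zero_of_card [Finite F] {m : ℕ} (h : 2 ^ m = Nat.card F) : (2 : F) = 0 := by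
  have := Fintype.ofFinite F
  have h1 := FiniteField.cast_card_eq_zero F
  rw [← Nat.card_eq_fintype_card, ← h] at h1
  exact pow_eq_zero_iff (n := m) (by rintro rfl; simp at h1) |>.1 (by exact_mod_cast h1)

theorem sl3_gen [Finite F] :
    ∃ u g : SpecialLinearGroup (Fin 3) F, (IsNilpotent (u.1 - 1) ∧ (u.1 - 1) ^ (3 - 1) ≠ 0) ∧
      Subgroup.closure {u, g * u * g⁻¹} = ⊤ := by
  by_cases h2 : (2 : F) = 0
  · exact sl3_two h2
  by_cases h : ∀ x : F, ∃ k : ℤ, x = k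
  · refine sl3_odd_of h2 (c := -2) (by simpa using h2) (fun e => ?_) (fun e => ?_)
      (closure_eq_top_of_cast h _)
    · exact mul_ne_zero h2 h2 (by linear_combination -e)
    · exact h2 (by linear_combination e)
  obtain ⟨θ, h0, hθ⟩ := exists_prim (F := F)
  have hk : ∀ k : ℤ, θ ≠ k := fun k e => h fun x => by
    by_cases hx : x = 0
    · exact ⟨0, by simp [hx]⟩
    obtain ⟨j, rfl⟩ := hθ x hx
    exact ⟨k ^ j, by simp [e]⟩
  refine sl3_odd_of h2 h0 (by simpa using hk 2) (fun e => hk (-4) (by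
    push_cast; linear_combination e)) (closure_eq_top_of_mem (a := θ ^ 3) ?_ ?_)
  · refine closure_eq_top_of_orderOf (pow_ne_zero _ h0) fun s h1 hs => ?_
    rcases hs.eq_or_lt with rfl | hs
    · exact Or.inr fun ⟨m, hm⟩ => h2 (two_eq_zero_of_card hm)
    refine Or.inl fun e => ?_
    have := Nat.le_of_dvd (by omega) (prim_pow_eq_one h0 hθ (m := 3 * (s - 1)) (by rw [pow_mul, e]))
    obtain ⟨t, rfl⟩ : ∃ t, s = t + 3 := ⟨s - 3, by omega⟩
    simp only [show t + 3 - 1 = t + 2 by omega] at this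
    have : Nat.card F ≤ 3 * (t + 2) + 1 := by omega
    nlinarith
  · have := Subring.subset_closure (s := {θ ^ 3 / 2 - 2}) rfl
    convert mul_mem (add_mem this (ofNat_mem _ 2)) (ofNat_mem _ 2) using 1
    field_simp; ring

end CF.Classical
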