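/-
Generation by regular unipotent elements: symplectic and unitary groups, uniform part.
-/
import Cfsg.Agent.Classical.RegGenA
import Cfsg.Agent.Classical.MinIdxH2

set_option autoImplicit false
set_option linter.unusedSectionVars false

namespace CF.Classical

open Module CF.Geom

variable {F V : Type*} [Field F] [AddCommGroup V] [Module F V] {σ : F →+* F}
  {B : V →ₛₗ[σ] V →ₗ[F] F} {ε : F} {H G : Subgroup (V ≃ₗ[F] V)}

/-- `H` contains an element of the radical at `e` with displacement `a`. -/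
def RQ (B : V →ₛₗ[σ] V →ₗ[F] F) (ε : F) (H : Subgroup (V ≃ₗ[F] V)) (e a : V) : Prop :=
  B e a = 0 ∧ ∃ c, ε * c + σ c = B a a ∧ rd B ε e a c ∈ H

namespace EH

variable (hE : EH B ε) {e a a' : V} {c : F}
include hE

theorem conj_rd {g : V ≃ₗ[F] V} (hg : g ∈ UG B) (he : B e e = 0) (ha : B e a = 0) (c : F) :
    g * rd B ε e a c * g⁻¹ = rd B ε (g e) (g a) c := by
  rw [hE.mul_rd hg he ha, mul_inv_cancel_right]

theorem rd_conj_mem {g : V ≃ₗ[F] V} (hg : g ∈ UG B) (hH : g ∈ H) (he : B e e = 0) (ha : B e a = 0)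
    (h : rd B ε e a c ∈ H) : rd B ε (g e) (g a) c ∈ H :=
  hE.conj_rd hg he ha c ▸ mul_mem (mul_mem hH h) (inv_mem hH)

theorem rd_div (he : B e e = 0) (ha : B e a = 0) (c c' : F) :
    rd B ε e a c * (rd B ε e a c')⁻¹ = rd B ε e 0 (c - c') := by
  rw [hE.rd_inv he ha, hE.rd_mul he ha (by simp [ha])]
  congr 1
  · simp
  · simp only [map_neg]; ring

variable (he : B e e = 0)
include he

theorem rq_add (h : RQ B ε H e a) (h' : RQ B ε H e a') : RQ B ε H e (a + a') := by
  obtain ⟨h1, c, h2, h3⟩ := h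
  obtain ⟨h1', c', h2', h3'⟩ := h'
  exact ⟨by simp [h1, h1'], _, hE.cond_add h2 h2', hE.rd_mul he h1 h1' c c' ▸ mul_mem h3 h3'⟩

theorem rq_neg (h : RQ B ε H e a) : RQ B ε H e (-a) := by
  obtain ⟨h1, c, h2, h3⟩ := h
  exact ⟨by simp [h1], _, hE.cond_neg h2, hE.rd_inv he h1 c ▸ inv_mem h3⟩

theorem rq_sub (h : RQ B ε H e a) (h' : RQ B ε H e a') : RQ B ε H e (a - a') := by
  rw [sub_eq_add_neg]; exact hE.rq_add he h (hE.rq_neg he h')

theorem rq_e (k : F) : RQ B ε H e (k • e) := by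
  refine ⟨by simp [he], k - ε * σ k, ?_, ?_⟩
  · simp only [map_sub, map_mul, hE.fix, hE.invol, map_smul, LinearMap.map_smulₛₗ, he,
      LinearMap.smul_apply, smul_zero]
    linear_combination (-σ k) * hE.sq
  · have := hE.rd_shift he (map_zero _) k (k - ε * σ k)
    rw [zero_add] at this
    rw [this, show k - ε * σ k - k + ε * σ k = 0 by ring, hE.rd_zero he]
    exact one_mem _

theorem rq_congr (h : RQ B ε H e a) (k : F) (e' : a' = a + k • e) : RQ B ε H e a' :=
  e' ▸ hE.rq_add he h (hE.rq_e he k)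

theorem rq_scale (h : RQ B ε H e a) {g : V ≃ₗ[F] V} (hg : g ∈ UG B) (hH : g ∈ H) {l : F}
    (l0 : l ≠ 0) (hge : g e = l • e) : RQ B ε H e (σ l • g a) := by
  obtain ⟨h1, c, h2, h3⟩ := h
  have h4 := hE.rd_conj_mem hg hH he h1 h3
  have h5 : B e (g a) = 0 := by
    have := ug_map hg e a
    rw [hge, h1] at this
    simpa [l0] using this
  rw [hge, hE.rd_smul he h5] at h4
  refine ⟨by simp [h5], _, ?_, h4⟩
  simp only [map_mul, hE.invol, LinearMap.map_smulₛₗ, LinearMap.smul_apply, smul_eq_mul,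
    RingHom.id_apply, ug_map hg, ← h2]
  ring

theorem rq_conj (h : RQ B ε H e a) {g : V ≃ₗ[F] V} (hg : g ∈ UG B) (hH : g ∈ H) (hge : g e = e) :
    RQ B ε H e (g a) := by
  simpa using hE.rq_scale he h hg hH one_ne_zero (by simpa using hge)

theorem rq_step {x t : V} {g : V ≃ₗ[F] V} (hg : g ∈ UG B) (hH : g ∈ H) (hge : g e = e) {ρ s : F}
    (hx : g x = x + ρ • t + s • e) {l : F} (h : RQ B ε H e (l • x)) : RQ B ε H e ((l * ρ) • t) :=
  hE.rq_congr he (hE.rq_sub he (hE.rq_conj he h hg hH hge) h) (-(l * s)) (by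
    rw [map_smul, hx]; module)

/-- The submodule of full displacements. -/
def rqS (H : Subgroup (V ≃ₗ[F] V)) : Submodule F V where
  carrier := {a | ∀ c : F, RQ B ε H e (c • a)}
  add_mem' ha hb c := by rw [smul_add]; exact hE.rq_add he (ha c) (hb c)
  zero_mem' c := by simpa using hE.rq_e he (H := H) 0
  smul_mem' d a ha c := by rw [smul_smul]; exact ha _

theorem centre_of_comm (hT : ∀ a, B e a = 0 → RQ B ε H e a) (ha : B e a = 0) (ha' : B e a' = 0)
    (h0 : B a a' ≠ 0) (b : F) : rd B ε e 0 (ε * b - σ b) ∈ H := by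
  have ha2 : B e ((b / B a a') • a') = 0 := by simp [ha']
  obtain ⟨-, c1, -, h1⟩ := hT a ha
  obtain ⟨-, c2, -, h2⟩ := hT _ ha2
  have := mul_mem (mul_mem h1 h2) (inv_mem (mul_mem h2 h1))
  rw [hE.rd_mul he ha ha2, hE.rd_mul he ha2 ha, add_comm _ a, hE.rd_div he (by simp [ha, ha'])] at this
  convert this using 2
  have e : B a ((b / B a a') • a') = b := by simp [h0]
  rw [hE.symm a, e]
  linear_combination (σ b) * hE.sq

theorem rad_le_of [FiniteDimensional F V] (he0 : e ≠ 0) (hT : ∀ a, B e a = 0 → RQ B ε H e a)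
    (hZ : ∀ c, ε * c + σ c = 0 → rd B ε e 0 c ∈ H) : Rad B (fun x => B x x) e ⊤ ≤ H := by
  intro g hg
  obtain ⟨w, -, c, h1, h2, rfl⟩ := hE.exists_eq_rd he0 he hg
  obtain ⟨-, c', h3, h4⟩ := hT w h1
  have := mul_mem (hZ (c - c') (by rw [map_sub]; linear_combination h2 - h3)) h4
  rwa [← hE.rd_div he h1, inv_mul_cancel_right] at this

end EH

theorem RIrr.exists_move (hi : RIrr H) (hW : ∀ x, (∀ y, B x y = 0) → x = 0) {x e : V} (hx : x ≠ 0)
    (he : e ≠ 0) : ∃ g ∈ H, B x (g e) ≠ 0 := by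
  let W : Submodule F V :=
    { carrier := {y | ∀ g ∈ H, B x (g y) = 0}
      add_mem' := fun ha hb g hg => by simp [ha g hg, hb g hg]
      zero_mem' := fun g _ => by simp
      smul_mem' := fun c a ha g hg => by simp [ha g hg] }
  by_contra! hc
  rcases hi W (fun g hg w hw g' hg' => hw _ (mul_mem hg' hg)) with e | e
  · exact he (e ▸ (show _ ∈ W from hc) : _ ∈ (⊥ : Submodule F V))
  · exact hx (hW x fun y => (e ▸ Submodule.mem_top : y ∈ W) 1 (one_mem _))

theorem EH.finish [FiniteDimensional F V] (hE : EH B ε) (hG : PolarG B (fun x => B x x) G)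
    (hH : H ≤ UG B) (hi : RIrr H) {e : V} (he0 : e ≠ 0) (he : B e e = 0)
    (hT : ∀ a, B e a = 0 → RQ B ε H e a) (hZ : ∀ c, ε * c + σ c = 0 → rd B ε e 0 c ∈ H) :
    G ≤ H := by
  obtain ⟨g, hg, h⟩ := hi.exists_move hE.witt.nondeg he0 he0
  exact hG.le_of_move (by simpa using he) (hE.rad_le_of he he0 hT hZ) (hH hg) hg h

theorem RCyc.conj {u g : V ≃ₗ[F] V} {w : V} (h : RCyc F u w) : RCyc F (g * u * g⁻¹) (g w) := by
  intro Y hY hi
  have := h (Y.comap g.toLinearMap) hY fun y hy => by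
    have := hi _ hy
    rwa [LinearEquiv.mul_apply, LinearEquiv.mul_apply, LinearEquiv.coe_coe, inv_apply_apply] at this
  refine eq_top_iff.2 fun y _ => ?_
  have : g⁻¹ y ∈ Y.comap g.toLinearMap := this ▸ Submodule.mem_top
  rwa [Submodule.mem_comap, LinearEquiv.coe_coe, apply_inv_apply] at this

theorem mul_of_closure {R : Type*} [CommRing R] {P : R → Prop} {s : Set R} (h0 : P 0)
    (hadd : ∀ a b, P a → P b → P (a + b)) (hneg : ∀ a, P a → P (-a))
    (hmul : ∀ r ∈ s, ∀ a, P a → P (r * a)) {c : R} (hc : c ∈ Subring.closure s) (a : R)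
    (ha : P a) : P (c * a) := by
  let T : Subring R :=
    { carrier := {r | ∀ a, P a → P (r * a)}
      mul_mem' := fun {r r'} hr hr' a ha => by rw [mul_assoc]; exact hr _ (hr' _ ha)
      one_mem' := fun a ha => by rwa [one_mul]
      add_mem' := fun {r r'} hr hr' a ha => by rw [add_mul]; exact hadd _ _ (hr _ ha) (hr' _ ha)
      zero_mem' := fun a _ => by rwa [zero_mul]
      neg_mem' := fun {r} hr a ha => by rw [neg_mul]; exact hneg _ (hr _ ha) }
  exact (Subring.closure_le.2 (show s ⊆ T from hmul)) hc a ha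

/-- A regular unipotent isometry `u = 1 + N` with cyclic vector `w` in dimension `m + 1`. -/
structure RegU (B : V →ₛₗ[σ] V →ₗ[F] F) (ε : F) (u : V ≃ₗ[F] V) (N : End F V) (w : V) (m : ℕ) :
    Prop where
  hE : EH B ε
  ug : u ∈ UG B
  eu : ∀ x, u x = x + N x
  nil : N ^ (m + 1) = 0
  top : B w ((N ^ m) w) ≠ 0
  dim : finrank F V = m + 1

namespace RegU

variable {u : V ≃ₗ[F] V} {N : End F V} {w : V} {m : ℕ} (h : RegU B ε u N w m)
include h

theorem isNil : IsNilpotent N := ⟨_, h.nil⟩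

theorem e_ne : (N ^ m) w ≠ 0 := fun e => h.top (by simp [e])

theorem pow_ne : N ^ m ≠ 0 := fun e => h.e_ne (by simp [e])

theorem pow_zero_of {i : ℕ} (hi : m < i) (x : V) : (N ^ i) x = 0 := by
  obtain ⟨k, rfl⟩ := Nat.exists_eq_add_of_lt hi
  rw [show m + k + 1 = k + (m + 1) by omega, pow_add, h.nil]; simp

theorem N_pow (i : ℕ) (x : V) : N ((N ^ i) x) = (N ^ (i + 1)) x := by rw [pow_succ']; rfl

theorem pow_N (i : ℕ) (x : V) : (N ^ i) (N x) = (N ^ (i + 1)) x := by rw [pow_succ]; rfl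

theorem pow_pow (i j : ℕ) (x : V) : (N ^ i) ((N ^ j) x) = (N ^ (i + j)) x := by rw [pow_add]; rfl

theorem u_top (x : V) : u ((N ^ m) x) = (N ^ m) x := by
  rw [h.eu, h.N_pow, h.pow_zero_of (i := m + 1) (by omega), add_zero]

theorem adj (x y : V) : B (N x) y = -B (u x) (N y) := by
  have := ug_map h.ug x y
  rw [h.eu y, map_add] at this
  have h1 : B (u x) y = B x y + B (N x) y := by rw [h.eu x, map_add, LinearMap.add_apply]
  linear_combination this - h1

theorem pair (i : ℕ) (x y : V) (hy : (N ^ (i + 1)) y = 0) :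
    B ((N ^ i) x) y = (-1) ^ i * B x ((N ^ i) y) := by
  induction i generalizing x y with
  | zero => simp
  | succ i ih =>
    rw [← h.N_pow, h.adj, show u ((N ^ i) x) = (N ^ i) (u x) by
      rw [h.eu, h.eu, map_add, h.N_pow, h.pow_N], ih _ _ (by rwa [h.pow_N]), h.pow_N]
    have : u ((N ^ (i + 1)) y) = (N ^ (i + 1)) y := by rw [h.eu, h.N_pow, hy, add_zero]
    rw [← this, ug_map h.ug, this]; ring

theorem pair_zero {i j : ℕ} (hij : m < i + j) (x y : V) : B ((N ^ i) x) ((N ^ j) y) = 0 := by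
  rw [h.pair i x _ (by rw [h.pow_pow, h.pow_zero_of (by omega)]), h.pow_pow, h.pow_zero_of hij]
  simp

theorem pair_top {i j : ℕ} (hij : i + j = m) (x y : V) :
    B ((N ^ i) x) ((N ^ j) y) = (-1) ^ i * B x ((N ^ m) y) := by
  rw [h.pair i x _ (by rw [h.pow_pow, h.pow_zero_of (by omega)]), h.pow_pow, hij]

theorem pair_ne {i j : ℕ} (hij : i + j = m) : B ((N ^ i) w) ((N ^ j) w) ≠ 0 := by
  rw [h.pair_top hij]; exact mul_ne_zero (by simp) h.top

theorem e_N {j : ℕ} (hj : 0 < j) (y : V) : B ((N ^ m) w) ((N ^ j) y) = 0 :=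
  h.pair_zero (by omega) _ _

variable [FiniteDimensional F V]

theorem cyc : RCyc F u w := rCyc_of_pow h.isNil (by simpa [h.dim] using h.e_ne) h.eu

theorem ker (x : V) (hx : N x = 0) : x ∈ F ∙ (N ^ m) w := by
  set c := B w x / B w ((N ^ m) w)
  have hN : N (x - c • (N ^ m) w) = 0 := by
    rw [map_sub, map_smul, hx, h.N_pow, h.pow_zero_of (i := m + 1) (by omega)]; simp
  have := h.cyc (perp B (F ∙ (x - c • (N ^ m) w)))
    (mem_perp_singleton.2 (h.hE.refl (by simp [c, h.top]))) fun y hy => by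
      rw [mem_perp_singleton] at hy ⊢
      rw [h.eu, map_add, hy, zero_add]
      exact h.hE.refl (by rw [h.adj, hN, map_zero, neg_zero])
  have h0 := h.hE.witt.nondeg _ fun y => mem_perp_singleton.1 (this ▸ Submodule.mem_top : y ∈ _)
  exact Submodule.mem_span_singleton.2 ⟨c, (sub_eq_zero.1 h0).symm⟩

theorem irr {g : V ≃ₗ[F] V} (hg : g w = (N ^ m) w) (hu : u ∈ H) (hv : g * u * g⁻¹ ∈ H) : RIrr H :=
  rIrr_of h.isNil (.of_mem hu h.eu) h.ker (.of_mem hv fun _ => rfl) (hg ▸ h.cyc.conj)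

theorem rq_N (hm : 0 < m) (hu : u ∈ H) {a : V} (ha : RQ B ε H ((N ^ m) w) a) :
    RQ B ε H ((N ^ m) w) (N a) := by
  have := h.hE.rq_sub (h.e_N hm w) (h.hE.rq_conj (h.e_N hm w) ha h.ug hu (h.u_top w)) ha
  rwa [h.eu, add_sub_cancel_left] at this

theorem rq_pow (hm : 0 < m) (hu : u ∈ H) {a : V} (ha : RQ B ε H ((N ^ m) w) a) (j : ℕ) :
    RQ B ε H ((N ^ m) w) ((N ^ j) a) := by
  induction j with
  | zero => simpa using ha
  | succ j ih => rw [← h.N_pow]; exact h.rq_N hm hu ih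

theorem full (hm : 0 < m) (hu : u ∈ H) {t : V} (ht : (N ^ (m - 1)) t ≠ 0)
    (hT : ∀ c : F, RQ B ε H ((N ^ m) w) (c • t)) (a : V) (ha : B ((N ^ m) w) a = 0) :
    RQ B ε H ((N ^ m) w) a := by
  set Y := h.hE.rqS (h.e_N hm w) H
  have h1 : Y ≤ perp B (F ∙ (N ^ m) w) := fun y hy => mem_perp_singleton.2 (by simpa using (hy 1).1)
  have h2 := h.hE.witt.finrank_perp (F ∙ (N ^ m) w)
  rw [finrank_span_singleton h.e_ne, h.dim] at h2
  have h3 := Cls.le_ker_pow_of_invariant h.isNil Y (fun v hv c => by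
    rw [← map_smul]; exact h.rq_N hm hu (hv c)) (show t ∈ Y from hT)
  have h4 : m ≤ finrank F Y := by
    by_contra! hc
    obtain ⟨k, hk⟩ : ∃ k, m - 1 = k + finrank F Y := ⟨m - 1 - finrank F Y, by omega⟩
    rw [hk, ← h.pow_pow, LinearMap.mem_ker.1 h3, map_zero] at ht
    exact ht rfl
  have h5 : a ∈ Y := Submodule.eq_of_le_of_finrank_le h1 (by omega) ▸ mem_perp_singleton.2 ha
  simpa using h5 1

theorem third (hm : 0 < m) (hu : u ∈ H) {y : V} (hy : B ((N ^ m) w) y = 0) {c : F}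
    (hx : rd B ε ((N ^ m) w) y c * u * (rd B ε ((N ^ m) w) y c)⁻¹ ∈ H) :
    rd B ε ((N ^ m) w) (-N y) (-(ε * B y (N y))) ∈ H := by
  have he := h.e_N hm w
  have := mul_mem hx (inv_mem hu)
  rw [mul_assoc, mul_assoc, ← mul_assoc u, h.hE.rd_inv he hy, h.hE.conj_rd h.ug he (by simp [hy]),
    h.u_top, h.hE.rd_mul he hy (by simpa [h.eu, hy] using h.e_N one_pos y)] at this
  convert this using 2
  · simp [h.eu]
  · simp [h.eu]; ring

theorem third_rq (hm : 0 < m) (hu : u ∈ H) {y : V} (hy : B ((N ^ m) w) y = 0) {c : F}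
    (hx : rd B ε ((N ^ m) w) y c * u * (rd B ε ((N ^ m) w) y c)⁻¹ ∈ H) :
    RQ B ε H ((N ^ m) w) (N y) := by
  have := h.hE.rq_neg (h.e_N hm w) (a := -N y) (H := H)
    ⟨by simpa using h.e_N one_pos y, _, ?_, h.third hm hu hy hx⟩
  · simpa using this
  have h1 := h.adj y y
  rw [h.eu, map_add, LinearMap.add_apply] at h1
  simp only [map_neg, map_mul, h.hE.fix, ← h.hE.symm, LinearMap.neg_apply, neg_neg]
  linear_combination -h1 - B y (N y) * h.hE.sq

end RegU

section tv

variable [FiniteDimensional F V] {u : V ≃ₗ[F] V} {N : End F V} {w : V} {k : ℕ}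
  (h : RegU B ε u N w (k + 2))
include h

theorem RegU.tv_step (hH : H ≤ UG B) (hu : u ∈ H) {v : V ≃ₗ[F] V} (hv : v ∈ H)
    (hve : v ((N ^ (k + 2)) w) = N w) {θ : F}
    (hθ : RQ B ε H ((N ^ (k + 2)) w) (θ • (N ^ (k + 1)) w)) {l : F}
    (hl : RQ B ε H ((N ^ (k + 2)) w) (l • (N ^ (k + 1)) w)) :
    RQ B ε H ((N ^ (k + 2)) w) ((l * ((ε * σ θ - θ) * B w ((N ^ (k + 2)) w))) • N w) := by
  have hE := h.hE
  have he := h.e_N (j := k + 2) (by omega) w
  obtain ⟨h1, c, -, h3⟩ := hθ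
  have h4 := hE.rd_conj_mem h.ug hu he h1 h3
  rw [h.u_top, h.eu, map_smul N, h.N_pow, hE.rd_shift he h1] at h4
  have h5 := mul_mem h4 (inv_mem h3)
  rw [hE.rd_div he h1] at h5
  have h6 := hE.rd_conj_mem (hH hv) hv he (map_zero _) h5
  rw [hve, map_zero] at h6
  have he' : B (N w) (N w) = 0 := by rw [← hve, ug_map (hH hv), he]
  refine hE.rq_step he (hH h6) h6 (hE.rd_fix he' (map_zero _) _ (hE.refl ?_) (by simp)) (s := 0) ?_ hl
  · simpa using h.e_N one_pos w
  · have := h.pair_top (i := 1) (j := k + 1) (by omega) w w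
    rw [pow_one] at this
    rw [hE.tv_apply he', this]; module

theorem RegU.exists_g (hww : B w w = 0) (hwN : B w (N w) = 0) :
    ∃ g ∈ UG B, g w = (N ^ (k + 2)) w ∧ g (u w) = N w := by
  have hE := h.hE
  have h0 : B (u w) (u w) = 0 := by rw [ug_map h.ug, hww]
  have h1 : B w (u w) = 0 := by rw [h.eu, map_add, hww, hwN, add_zero]
  have h2 : B ((N ^ (k + 2)) w) (N w) = 0 := by simpa using h.e_N one_pos w
  have h3 : B (N w) (N w) = 0 := by simpa [h.eu, hww, hwN, hE.refl hwN] using h0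
  have he := h.e_N (j := k + 2) (by omega) w
  have l1 : LinearIndependent F ![w, u w] := LinearIndependent.pair_iff.2 fun s t e => by
    have e1 := congrArg (N ^ (k + 2)) e
    have e2 := congrArg (N ^ (k + 1)) e
    simp only [h.eu, map_add, map_smul, h.pow_N, h.pow_zero_of (i := k + 2 + 1) (by omega),
      smul_zero, add_zero, map_zero, smul_add, ← add_assoc, ← add_smul] at e1 e2
    have e3 := (smul_eq_zero.1 e1).resolve_right h.e_ne
    rw [e3, zero_smul, zero_add] at e2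
    have := (smul_eq_zero.1 e2).resolve_right h.e_ne
    exact ⟨by simpa [this] using e3, this⟩
  have l2 : LinearIndependent F ![(N ^ (k + 2)) w, N w] :=
    LinearIndependent.pair_iff.2 fun s t e => by
      have e2 := congrArg (N ^ (k + 1)) e
      simp only [map_add, map_smul, h.pow_N, h.pow_pow, map_zero,
        h.pow_zero_of (i := k + 1 + (k + 2)) (by omega), smul_zero, zero_add] at e2
      have := (smul_eq_zero.1 e2).resolve_right h.e_ne
      exact ⟨by simpa [this, h.e_ne] using e, this⟩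
  obtain ⟨g, g1, -, g3⟩ := hE.witt.frame _ _ l1 l2
    (fun i j => by fin_cases i <;> fin_cases j <;> simp [*, hE.refl h1, hE.refl h2])
    (fun i => by fin_cases i <;> simp [*])
  exact ⟨g, mem_UG.2 g1, g3 0, g3 1⟩

end tv

/-! ### Existence of regular unipotent isometries -/

/-- A regular unipotent isometry of the non-degenerate subspace `W`. -/
structure RegW (B : V →ₛₗ[σ] V →ₗ[F] F) (W : Submodule F V) (u : V ≃ₗ[F] V) (N : End F V) (a : V)
    (k : ℕ) : Prop where
  nd : ND B W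
  dim : finrank F W = k + 1
  ug : u ∈ UG B
  eu : ∀ x, u x = x + N x
  mem : a ∈ W
  im : ∀ x, N x ∈ W
  ker : ∀ x ∈ perp B W, N x = 0
  nil : N ^ (k + 1) = 0
  top : B a ((N ^ k) a) ≠ 0

theorem finrank_sup_pair [FiniteDimensional F V] {W : Submodule F V} (hW : ND B W) {e f : V}
    (he : e ∈ perp B W) (hf : f ∈ perp B W) (h : HH B ε e f) :
    finrank F ↥(W ⊔ Submodule.span F {e, f}) = finrank F W + 2 := by
  have h1 := Submodule.finrank_sup_add_finrank_inf_eq W (Submodule.span F {e, f})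
  have h2 : finrank F (perp B (Submodule.span F {e, f})) + 2 = _ := h.finrank_U
  have h3 := h.hE.witt.finrank_perp (Submodule.span F {e, f})
  rw [(hW.mono_right (by rw [Submodule.span_le]; rintro _ (rfl | rfl) <;> assumption)).eq_bot,
    finrank_bot] at h1
  omega

theorem RegW.step [FiniteDimensional F V] {W : Submodule F V} {u : V ≃ₗ[F] V} {N : End F V} {a : V}
    {k : ℕ} (h : RegW B W u N a k) {e f : V} (he : e ∈ perp B W) (hf : f ∈ perp B W)
    (hh : HH B ε e f) : ∃ u' N', RegW B (W ⊔ Submodule.span F {e, f}) u' N' f (k + 2) ∧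
      (B a a = 0 → B f (N' f) = 0) := by
  have hE := hh.hE
  obtain ⟨c, hc, hc0⟩ : ∃ c, ε * c + σ c = B a a ∧ (B a a = 0 → c = 0) := by
    by_cases h0 : B a a = 0
    · exact ⟨0, by simp [h0], fun _ => rfl⟩
    · obtain ⟨c, hc⟩ := hE.ex a; exact ⟨c, hc, fun e => absurd e h0⟩
  have eW : ∀ x ∈ W, B e x = 0 := fun x hx => hE.refl (mem_perp.1 he x hx)
  have fW : ∀ x ∈ W, B f x = 0 := fun x hx => hE.refl (mem_perp.1 hf x hx)
  have ea := eW a h.mem
  have hfe : B f e = ε := by rw [hE.symm, hh.hef]; simp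
  set u' := rd B ε e a c * u
  let N' : End F V := (u' : End F V) - 1
  have eN : ∀ x, N' x = N x + B e x • a - (ε * B a (u x) + c * B e x) • e := fun x => by
    change rd B ε e a c (u x) - x = _
    rw [hE.rd_apply hh.he ea, h.eu, map_add (B e), eW _ (h.im x)]; module
  have Ne : N' e = 0 := by
    rw [eN, h.eu, h.ker e he, hh.he]; simp [hE.refl ea]
  have Nf : N' f = a - c • e := by
    rw [eN, h.eu, h.ker f hf, hh.hef]; simp [mem_perp.1 hf a h.mem]
  have key : ∀ x, B e x = 0 → ∀ j, (N' ^ (j + 1)) x =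
      (N ^ (j + 1)) x - (ε * B a (u ((N ^ j) x))) • e := fun x hx j => by
    induction j with
    | zero => simp [eN, hx]
    | succ j ih =>
      rw [pow_succ' N', End.mul_apply, ih, map_sub, map_smul, Ne, eN, pow_succ' N j, End.mul_apply,
        eW _ (h.im _), pow_succ' N (j + 1), pow_succ' N j]
      simp
  have heM : e ∈ W ⊔ Submodule.span F {e, f} :=
    Submodule.mem_sup_right (Submodule.subset_span (by simp))
  refine ⟨u', N', ⟨h.nd.sup_pair hE.witt he hf hh.he (by simp [hh.hef]), by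
    rw [finrank_sup_pair h.nd he hf hh, h.dim], mul_mem (hE.rd_mem_UG hh.he ea hc) h.ug,
    fun x => by simp [N'], Submodule.mem_sup_right (Submodule.subset_span (by simp)), fun x => ?_,
    fun x hx => ?_, LinearMap.ext fun x => ?_, ?_⟩, fun h0 => ?_⟩
  · rw [eN]
    exact sub_mem (add_mem (Submodule.mem_sup_left (h.im x))
      (Submodule.mem_sup_left (W.smul_mem _ h.mem))) (Submodule.smul_mem _ _ heM)
  · have h1 : x ∈ perp B W := perp_anti le_sup_left hx
    rw [eN, h.eu, h.ker x h1, mem_perp.1 hx e heM]; simp [mem_perp.1 h1 a h.mem]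
  · rw [pow_succ, End.mul_apply, key _ (by simp [eN, eW _ (h.im x), ea, hh.he]), h.nil, pow_succ,
      h.nil]
    simp
  · rw [pow_succ, End.mul_apply, Nf, map_sub, map_smul, key a ea, pow_succ N', End.mul_apply, Ne,
      h.nil, h.eu, ← End.mul_apply, ← pow_succ', h.nil]
    simpa [hfe, hE.ne_zero] using h.top
  · rw [Nf, hc0 h0]; simp [fW a h.mem]

theorem RegW.iter [FiniteDimensional F V] (hE : EH B ε)
    (hiso : ∀ X : Submodule F V, 2 ≤ finrank F X → ∃ s ∈ X, s ≠ 0 ∧ B s s = 0) (j : ℕ)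
    {W : Submodule F V} {u : V ≃ₗ[F] V} {N : End F V} {a : V} {k : ℕ} (h : RegW B W u N a k)
    (hd : finrank F V = k + 2 * (j + 1) + 1) : ∃ u N w, RegU B ε u N w (k + 2 * (j + 1)) ∧
      B w w = 0 ∧ (B a a = 0 ∨ 0 < j → B w (N w) = 0) := by
  induction j generalizing W u N a k with
  | zero =>
    obtain ⟨e, he, e0, hee⟩ := hiso (perp B W) (by
      have := hE.witt.finrank_perp W; rw [h.dim] at this; omega)
    obtain ⟨f, hf, hh⟩ := hE.exists_HH_perp h.nd he e0 hee
    obtain ⟨u', N', h1, h2⟩ := h.step he hf hh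
    exact ⟨u', N', f, ⟨hE, h1.ug, h1.eu, h1.nil, h1.top, hd⟩, hh.hf, fun h => h2 (by simpa using h)⟩
  | succ j ih =>
    obtain ⟨e, he, e0, hee⟩ := hiso (perp B W) (by
      have := hE.witt.finrank_perp W; rw [h.dim] at this; omega)
    obtain ⟨f, hf, hh⟩ := hE.exists_HH_perp h.nd he e0 hee
    obtain ⟨u', N', h1, -⟩ := h.step he hf hh
    obtain ⟨u2, N2, w, h3, h4, h5⟩ := ih h1 (by omega)
    exact ⟨u2, N2, w, by rwa [show k + 2 * (j + 1 + 1) = k + 2 + 2 * (j + 1) by ring], h4,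
      fun _ => h5 (Or.inl hh.hf)⟩

theorem regW_hyp [FiniteDimensional F V] {e f : V} (hh : HH B ε e f) {c : F} (c0 : c ≠ 0)
    (hc : ε * c + σ c = 0) : ∃ u N, RegW B (Submodule.span F {e, f}) u N f 1 := by
  have hE := hh.hE
  have hfe : B f e = ε := by rw [hE.symm, hh.hef]; simp
  have heM : e ∈ Submodule.span F {e, f} := Submodule.subset_span (by simp)
  refine ⟨rd B ε e 0 c, (-c • B e).smulRight e, hh.nd, ?_, hE.rd_mem_UG hh.he (map_zero _)
    (by simpa using hc), fun x => by simp [hE.tv_apply hh.he, sub_eq_add_neg],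
    Submodule.subset_span (by simp), fun x => Submodule.smul_mem _ _ heM,
    fun x hx => by simp [mem_perp.1 hx e heM], LinearMap.ext fun x => by simp [pow_succ, hh.he], ?_⟩
  · have := finrank_sup_pair nd_bot (by simp [mem_perp]) (by simp [mem_perp]) hh
    rwa [bot_sup_eq, finrank_bot] at this
  · simp [hh.hef, hfe, c0, hE.ne_zero]

theorem regW_one (hE : EH B ε) {d : V} (hd : B d d ≠ 0) : RegW B (F ∙ d) 1 0 d 0 :=
  ⟨by simpa using nd_bot.sup_single hE.witt (by simp [mem_perp]) hd,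
    finrank_span_singleton fun e => hd (by simp [e]), one_mem _, fun x => by simp,
    Submodule.mem_span_singleton_self d, fun x => by simp, fun x _ => rfl, by simp, by simpa using hd⟩

end CF.Classical
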