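/-
Irreducible subgroups of symplectic groups in characteristic two covering the radical of a point
stabiliser modulo its transvections.
-/
import Cfsg.Agent.Classical.RegGenD
import Cfsg.Agent.Classical.MinIdxSp1
import Cfsg.Agent.Classical.MinIdxO3

set_option autoImplicit false
set_option linter.unusedSectionVars false

namespace CF.Classical

open Module CF.Geom QuadraticMap

variable {F V : Type*} [Field F] [AddCommGroup V] [Module F V] {B : LinearMap.BilinForm F V}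
  {L : Subgroup (V ≃ₗ[F] V)}

theorem hua_sq (h2 : (2 : F) = 0) (φ φ' : F ≃+ F) (h : ∀ l, l ≠ 0 → φ' (l / φ l) = (φ l)⁻¹) (l : F) :
    φ l = l ^ 2 * φ 1 ∧ φ' l = l ^ 2 * φ 1 := by
  have k : ∀ u, u ≠ 0 → φ'.symm u⁻¹ = φ.symm u / u := fun u hu => by
    have := h (φ.symm u) (by simpa using hu)
    rw [φ.apply_symm_apply] at this
    rw [← this, φ'.symm_apply_apply]
  have k1 : ∀ u, φ.symm (u ^ 2) = u * φ.symm 1 := fun u => by
    by_cases h0 : u = 0
    · simp [h0]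
    by_cases h1 : 1 + u = 0
    · obtain rfl : u = 1 := by linear_combination h1 - h2
      simp
    have e : u⁻¹ + (1 + u)⁻¹ = (u + u ^ 2)⁻¹ := by
      rw [show u + u ^ 2 = u * (1 + u) by ring]; field_simp; linear_combination u * h2
    have := k (u + u ^ 2) (by rw [show u + u ^ 2 = u * (1 + u) by ring]; exact mul_ne_zero h0 h1)
    rw [← e, map_add, k _ h0, k _ h1, map_add, map_add, show u + u ^ 2 = u * (1 + u) by ring] at this
    field_simp at this
    linear_combination -this + u * φ.symm u * h2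
  have k0 : φ.symm 1 ≠ 0 := by simp
  have k2 : ∀ l, φ l = (l / φ.symm 1) ^ 2 := fun l => by
    rw [← φ.apply_symm_apply ((l / φ.symm 1) ^ 2), k1, div_mul_cancel₀ _ k0]
  have k3 : ∀ l, φ l = l ^ 2 * φ 1 := fun l => by rw [k2 l, k2 1]; ring
  refine ⟨k3 l, ?_⟩
  by_cases h0 : l = 0
  · simp [h0]
  have k4 : φ 1 ≠ 0 := by simp
  have := h (l * φ 1)⁻¹ (inv_ne_zero (mul_ne_zero h0 k4))
  rw [k3 (l * φ 1)⁻¹] at this
  convert this using 2 <;> field_simp

/-- An irreducible subgroup of a symplectic group in characteristic two. -/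
structure SpTwo (B : LinearMap.BilinForm F V) (L : Subgroup (V ≃ₗ[F] V)) : Prop where
  hB : B.Nondegenerate
  hA : B.IsAlt
  h2 : (2 : F) = 0
  le : L ≤ UG B
  irr : RIrr L

/-- `L` covers the radical at `s` modulo transvections. -/
def Fu (B : LinearMap.BilinForm F V) (L : Subgroup (V ≃ₗ[F] V)) (s : V) : Prop :=
  s ≠ 0 ∧ ∀ a, B s a = 0 → ∃ c, rd B (-1) s a c ∈ L

/-- The exceptional configuration over the field with two elements. -/
def SpExc (B : LinearMap.BilinForm F V) (L : Subgroup (V ≃ₗ[F] V)) : Prop :=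
  Nat.card F = 2 ∧ (∀ x, x ≠ 0 → Fu B L x) ∧
    ∃ s a, s ≠ 0 ∧ B s a = 0 ∧ a ∉ F ∙ s ∧ rd B (-1) s 0 1 * rd B (-1) a 0 1 ∈ L

namespace SpTwo

variable (h : SpTwo B L) {s s' a a' e f : V} {c c' : F}
include h

theorem hE : EH B (-1) := eh_alt h.hB h.hA

theorem z (x : V) : B x x = 0 := h.hA.self_eq_zero x

theorem sy (x y : V) : B x y = B y x := by
  linear_combination -h.hA.neg_eq y x - B y x * h.h2

theorem fu_map (hs : Fu B L s) {g : V ≃ₗ[F] V} (hg : g ∈ L) : Fu B L (g s) := by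
  refine ⟨by simpa using hs.1, fun a ha => ?_⟩
  have h1 : B s (g⁻¹ a) = 0 := by rw [← ug_map (h.le hg), apply_inv_apply, ha]
  obtain ⟨c, hc⟩ := hs.2 _ h1
  exact ⟨c, by simpa [apply_inv_apply] using h.hE.rd_conj_mem (h.le hg) hg (h.z s) h1 hc⟩

theorem fu_smul (hs : Fu B L s) {l : F} (hl : l ≠ 0) : Fu B L (l • s) := by
  refine ⟨smul_ne_zero hl hs.1, fun a ha => ?_⟩
  have h1 : B s a = 0 := by simpa [hl] using ha
  obtain ⟨c, hc⟩ := hs.2 (l • a) (by simp [h1])
  refine ⟨c / (l * l), ?_⟩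
  rwa [h.hE.rd_smul (h.z s) h1, RingHom.id_apply, mul_div_cancel₀ _ (mul_ne_zero hl hl)]

theorem fu_congr (hs : Fu B L s) (e : s = s') : Fu B L s' := e ▸ hs

theorem add (ha : B s a = 0) (ha' : B s a' = 0) (h1 : rd B (-1) s a c ∈ L)
    (h2 : rd B (-1) s a' c' ∈ L) : rd B (-1) s (a + a') (c + c' + B a a') ∈ L := by
  have := mul_mem h1 h2
  rw [h.hE.rd_mul (h.z s) ha ha'] at this
  convert this using 2
  linear_combination B a a' * h.h2

theorem congr (h1 : rd B (-1) s a c ∈ L) (e1 : a = a') (e2 : c = c') : rd B (-1) s a' c' ∈ L :=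
  e1 ▸ e2 ▸ h1

theorem two_smul (x : V) : x + x = 0 := by rw [← _root_.two_smul F, h.h2, zero_smul]

theorem div (ha : B s a = 0) (h1 : rd B (-1) s a c ∈ L) (h2 : rd B (-1) s a c' ∈ L) :
    rd B (-1) s 0 (c + c') ∈ L :=
  h.congr (h.add ha ha h1 h2) (h.two_smul a) (by rw [h.z, add_zero])

theorem shift (ha : B s a = 0) (k : F) (h1 : rd B (-1) s a c ∈ L) :
    rd B (-1) s (a + k • s) c ∈ L := by
  rw [h.hE.rd_shift (h.z s) ha]
  exact h.congr h1 rfl (by simp; linear_combination k * h.h2)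

theorem app (ha : B s a = 0) (c : F) (x : V) :
    rd B (-1) s a c x = x + B s x • a + (B a x + c * B s x) • s := by
  rw [h.hE.rd_apply (h.z s) ha]
  have := h.h2
  match_scalars <;> grind

theorem tapp (s : V) (c : F) (x : V) : rd B (-1) s 0 c x = x + (c * B s x) • s := by
  simp [h.app (map_zero _)]

theorem swap (hs : B s s' = 0) (l c c' : F) : rd B (-1) s (l • s') c * rd B (-1) s' (l • s) c' =
    rd B (-1) s 0 c * rd B (-1) s' 0 c' := by
  have hs' : B s' s = 0 := by rw [h.sy, hs]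
  ext x
  simp only [LinearEquiv.mul_apply, h.tapp]
  rw [h.app (by simp [hs]), h.app (by simp [hs'])]
  simp only [map_add, map_smul, LinearMap.smul_apply, hs, hs', h.z, smul_eq_mul]
  have := h.h2
  match_scalars <;> grind

theorem tcomm (hs : B s s' = 0) (c c' : F) :
    rd B (-1) s 0 c * rd B (-1) s' 0 c' = rd B (-1) s' 0 c' * rd B (-1) s 0 c := by
  have hs' : B s' s = 0 := by rw [h.sy, hs]
  ext x
  simp only [LinearEquiv.mul_apply, h.tapp, map_add, map_smul, hs, hs', smul_eq_mul]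
  module

variable [FiniteDimensional F V]

theorem top_of (hs : Fu B L s) (hZ : ∀ c, rd B (-1) s 0 c ∈ L) : UG B ≤ L :=
  h.hE.finish (polarG_alt h.hB h.hA) h.le h.irr hs.1 (h.z s) (fun a ha => by
    obtain ⟨c, hc⟩ := hs.2 a ha
    exact ⟨ha, c, cond_alt h.hA c a, hc⟩) fun c _ => hZ c

theorem sq_mem (hs : Fu B L s) (ha : B s a = 0) (has : a ∉ F ∙ s) {μ : F} (hμ : μ ≠ 0)
    (hk : rd B (-1) s 0 c * rd B (-1) a 0 μ ∈ L) (ν : F) :
    rd B (-1) s (ν • a) (ν ^ 2 * μ⁻¹) ∈ L := by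
  obtain ⟨y, h1, h3⟩ := h.hE.witt.exists_dual_vec has
  have h4 : B s ((ν / μ) • y) = 0 := by simp [h3 s (Submodule.mem_span_singleton_self s)]
  obtain ⟨c0, h5⟩ := hs.2 _ h4
  have h6 := h.hE.rd_conj_mem (h.le hk) hk (h.z s) h4 h5
  have e1 : (rd B (-1) s 0 c * rd B (-1) a 0 μ) s = s := by
    simp [h.tapp, h.z, h.sy a s, ha]
  have e2 : (rd B (-1) s 0 c * rd B (-1) a 0 μ) ((ν / μ) • y) = (ν / μ) • y + ν • a := by
    simp only [LinearEquiv.mul_apply, h.tapp, map_add, h4, map_smul (B a), map_smul (B s) _ a, ha, h1]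
    simp [mul_div_cancel₀ _ hμ]
  rw [e1, e2] at h6
  refine h.congr (h.add h4 (by simp [h4, ha]) h5 h6) ?_ ?_
  · rw [← add_assoc, h.two_smul, zero_add]
  · simp only [map_add, h.z, map_smul, LinearMap.smul_apply, smul_eq_mul, h.sy y a, h1]
    field_simp
    linear_combination c0 * μ ^ 2 * h.h2

variable [Finite F]

theorem top_of_two (hs : Fu B L s) (ha : B s a = 0) {α β : F} (hαβ : α ≠ β)
    (h1 : ∀ ν : F, rd B (-1) s (ν • a) (ν ^ 2 * α) ∈ L)
    (h2 : ∀ ν : F, rd B (-1) s (ν • a) (ν ^ 2 * β) ∈ L) : UG B ≤ L := by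
  refine h.top_of hs fun c => ?_
  have h0 : α + β ≠ 0 := fun e => hαβ (by linear_combination e - β * h.h2)
  obtain ⟨r, hr⟩ := exists_sqrt_two h.h2 (c / (α + β))
  refine h.congr (h.div (by simp [ha]) (h1 r) (h2 r)) rfl ?_
  rw [← mul_add, _root_.sq, hr, div_mul_cancel₀ _ h0]

theorem top_of_card (hF : Nat.card F = 2) (hs : Fu B L s) (h1 : rd B (-1) s 0 1 ∈ L) : UG B ≤ L :=
  h.top_of hs fun c => by
    rcases card_two_cases hF c with rfl | rfl
    · rw [h.hE.rd_zero (h.z s)]; exact one_mem _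
    · exact h1

theorem exc_of (hF : Nat.card F = 2) (hs : Fu B L s) (ha : B s a = 0) (has : a ∉ F ∙ s)
    (hk : rd B (-1) s 0 1 * rd B (-1) a 0 1 ∈ L) : SpExc B L := by
  refine ⟨hF, fun x hx => ?_, s, a, hs.1, ha, has, hk⟩
  obtain ⟨g, hg, h1⟩ := h.irr.exists_move h.hE.witt.nondeg hs.1 hs.1
  replace h1 := (card_two_cases hF _).resolve_left h1
  have hf := h.fu_map hs hg
  set f := g s
  have h2 := h.h2
  have hfs : Fu B L (f + s) := by
    rcases card_two_cases hF (B a f) with h3 | h3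
    · exact h.fu_congr (h.fu_map hf hk) (by simp [h.tapp, h1, h3])
    · refine h.fu_congr (h.fu_map (h.fu_map hf hk) (h.sq_mem hs ha has one_ne_zero hk 1)) ?_
      rw [h.app (by simp [ha])]
      simp only [LinearEquiv.mul_apply, h.tapp, map_add, map_smul, h1, h3, ha, h.z, smul_eq_mul,
        h.sy a s, one_smul]
      match_scalars <;> grind
  obtain ⟨g', hg', h3⟩ := h.irr.exists_move h.hE.witt.nondeg hx hs.1
  have h4 : B s (g'⁻¹ x) = 1 := by
    rw [← ug_map (h.le hg'), apply_inv_apply, h.sy]; exact (card_two_cases hF _).resolve_left h3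
  rw [← apply_inv_apply g' x]
  refine h.fu_map ?_ hg'
  set y := g'⁻¹ x
  have h5 : B s (y + f) = 0 := by rw [map_add, h4, h1]; linear_combination h2
  obtain ⟨c, hc⟩ := hs.2 _ h5
  rcases card_two_cases hF (B (y + f) f + c) with h6 | h6
  · refine h.fu_congr (h.fu_map hf hc) ?_
    rw [h.app h5, h1, mul_one, h6]; match_scalars <;> grind
  · refine h.fu_congr (h.fu_map hfs hc) ?_
    rw [h.app h5, map_add (B s), map_add (B (y + f)), h1, h.z, h.sy _ s, h5, add_zero, add_zero,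
      mul_one, h6]
    match_scalars <;> grind

theorem notMem_symm (h0 : s ≠ 0) (hs : s' ∉ F ∙ s) : s ∉ F ∙ s' := fun hc => by
  obtain ⟨c, rfl⟩ := Submodule.mem_span_singleton.1 hc
  exact hs (Submodule.mem_span_singleton.2 ⟨c⁻¹, inv_smul_smul₀ (left_ne_zero_of_smul h0) _⟩)

theorem not_exc (hN : ¬ UG B ≤ L) (h6 : 5 ≤ finrank F V) : ¬ SpExc B L := by
  rintro ⟨hF, hall, s, -, s0, -⟩
  have uniq : ∀ {x y : V} {c c' : F}, x ≠ 0 → B x y = 0 → rd B (-1) x y c ∈ L →
      rd B (-1) x y c' ∈ L → c = c' := fun {x y c c'} hx hy h1 h2 => by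
    rcases card_two_cases hF (c + c') with e | e
    · linear_combination e - c' * h.h2
    · exact absurd (h.top_of_card hF (hall x hx) (e ▸ h.div hy h1 h2)) hN
  have sym : ∀ {x y : V} {c : F}, x ≠ 0 → y ≠ 0 → B x y = 0 → rd B (-1) x y c ∈ L →
      rd B (-1) y x c ∈ L := fun {x y c} hx hy hxy h1 => by
    obtain ⟨c', h2⟩ := (hall y hy).2 x (by rw [h.sy, hxy])
    have := h.swap hxy 1 c c'
    simp only [one_smul] at this
    have h3 := this ▸ mul_mem h1 h2
    rcases card_two_cases hF c with rfl | rfl <;> rcases card_two_cases hF c' with rfl | rfl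
    · exact h2
    · rw [h.hE.rd_zero (h.z x), one_mul] at h3
      exact absurd (h.top_of_card hF (hall y hy) h3) hN
    · rw [h.hE.rd_zero (h.z y), mul_one] at h3
      exact absurd (h.top_of_card hF (hall x hx) h3) hN
    · exact h2
  obtain ⟨y', hh⟩ := h.hE.exists_HH s0 (h.z s)
  have hU := hh.finrank_U
  obtain ⟨x, hx, x0⟩ := exists_notMem_of_lt (Y := ⊥) (A := Upr B s y') (by rw [finrank_bot]; omega)
  replace x0 : x ≠ 0 := by simpa using x0
  obtain ⟨x', hx', x1⟩ := exists_notMem_of_lt (Y := F ∙ x) (A := Upr B s y' ⊓ perp B (F ∙ x)) (by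
    have := h.hE.witt.finrank_inf_perp_ge (Upr B s y') (F ∙ x)
    rw [finrank_span_singleton x0] at this ⊢; omega)
  obtain ⟨a1, a2⟩ := mem_Upr.1 hx
  obtain ⟨a3, a4⟩ := mem_Upr.1 hx'.1
  have a5 := mem_perp_singleton.1 hx'.2
  have b1 : B x s = 0 := by rw [h.sy, a1]
  have b2 : B x y' = 0 := by rw [h.sy, a2]
  have b3 : B x' s = 0 := by rw [h.sy, a3]
  have b4 : B x' y' = 0 := by rw [h.sy, a4]
  have n1 : x' ≠ 0 := fun e => x1 (e ▸ zero_mem _)
  have n2 : x + x' ≠ 0 := fun e => x1 (Submodule.mem_span_singleton.2 ⟨-1, by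
    rw [neg_one_smul, neg_eq_iff_add_eq_zero, e]⟩)
  have n3 : y' ≠ 0 := fun e => by simpa [e] using hh.hef
  have n4 : s + y' ≠ 0 := fun e => by simpa [h.z, hh.hef] using congrArg (B s) e
  obtain ⟨c1, k1⟩ := (hall x x0).2 s b1
  obtain ⟨c2, k2⟩ := (hall x x0).2 y' b2
  obtain ⟨c3, k3⟩ := (hall x' n1).2 s b3
  obtain ⟨c4, k4⟩ := (hall x' n1).2 y' b4
  have m1 := h.add (by simp [a1, a2]) (by simp [a3, a4])
    (sym x0 n4 (by simp [b1, b2]) (h.add b1 b2 k1 k2)) (sym n1 n4 (by simp [b3, b4]) (h.add b3 b4 k3 k4))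
  have m2 := sym n2 n4 (by simp [b1, b2, b3, b4]) (h.add (by simp [b1, b3]) (by simp [b2, b4])
    (sym s0 n2 (by simp [a1, a3]) (h.add a1 a3 (sym x0 s0 b1 k1) (sym n1 s0 b3 k3)))
    (sym n3 n2 (by simp [a2, a4]) (h.add a2 a4 (sym x0 n3 b2 k2) (sym n1 n3 b4 k4))))
  have := uniq n4 (by simp [a1, a2, a3, a4]) m1 m2
  rw [hh.hef, a5] at this
  exact one_ne_zero (α := F) (by linear_combination this)

variable (hN : ¬ UG B ≤ L) (hX : ¬ SpExc B L)
include hN hX

theorem perp_pair (hs : Fu B L s) (hs' : Fu B L s') (hp : B s s' = 0) (hi : s' ∉ F ∙ s) {μ : F}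
    (hk : rd B (-1) s 0 c * rd B (-1) s' 0 μ ∈ L) : μ = 0 := by
  by_contra hμ
  have hp' : B s' s = 0 := by rw [h.sy, hp]
  by_cases hF : Nat.card F = 2
  · obtain rfl := (card_two_cases hF μ).resolve_left hμ
    rcases card_two_cases hF c with rfl | rfl
    · rw [h.hE.rd_zero (h.z s), one_mul] at hk
      exact hN (h.top_of_card hF hs' hk)
    · exact hX (h.exc_of hF hs hp hi hk)
  obtain ⟨t, t0, t1⟩ := exists_ne_zero_ne_one_of_card hF
  have key : ∀ ν : F, ν ≠ 0 → ∀ κ : F, rd B (-1) s' (κ • s) (κ ^ 2 * (ν ^ 2 * μ⁻¹)⁻¹) ∈ L :=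
    fun ν hν => by
      obtain ⟨c', h1⟩ := hs'.2 (ν • s) (by simp [hp'])
      have := h.swap hp ν _ c' ▸ mul_mem (h.sq_mem hs hp hi hμ hk ν) h1
      rw [h.tcomm hp] at this
      exact h.sq_mem hs' hp' (h.notMem_symm hs.1 hi) (by simp [hν, hμ]) this
  refine hN (h.top_of_two hs' hp' (fun e => t1 ?_) (key 1 one_ne_zero) (key t t0))
  have := mul_right_cancel₀ (inv_ne_zero hμ) (inv_injective e)
  exact sub_eq_zero.1 (pow_eq_zero_iff two_ne_zero |>.1 (by
    linear_combination -this + (1 - t) * h.h2))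

theorem perp_zero (hs : Fu B L s) (hs' : Fu B L s') (hp : B s s' = 0) (hi : s' ∉ F ∙ s) {l : F}
    (h1 : rd B (-1) s' (l • s) c ∈ L) : c = 0 := by
  obtain ⟨c', h2⟩ := hs.2 (l • s') (by simp [hp])
  exact h.perp_pair hN hX hs hs' hp hi (h.swap hp l c' c ▸ mul_mem h2 h1)

theorem perp_line (hs : Fu B L s) (hsa : Fu B L (s + a)) (hp : B s a = 0) (hi : a ∉ F ∙ s) (l : F) :
    rd B (-1) s (l • a) 0 ∈ L := by
  obtain ⟨c, h1⟩ := hs.2 (l • a) (by simp [hp])
  have := h.perp_zero hN hX hsa hs (by simp [h.z, h.sy a s, hp]) (l := l) (c := c)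
    (h.notMem_symm hs.1 fun hc => hi (by
      simpa using sub_mem hc (Submodule.mem_span_singleton_self s)))
    (h.congr (h.shift (by simp [hp]) l h1) (by module) rfl)
  exact this ▸ h1

section pair

variable (he : Fu B L e) (hf : Fu B L f) (hef : B e f = 1)
include he hf hef

omit hN hX he hf in
theorem ne_span (ha : B e a = 0) (ha' : B f a = 0) (a0 : a ≠ 0) : a ∉ F ∙ f := fun hc => by
  obtain ⟨c, rfl⟩ := Submodule.mem_span_singleton.1 hc
  exact a0 (by simp_all)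

theorem zero_line (ha : B e a = 0) (ha' : B f a = 0) (a0 : a ≠ 0) (h1 : rd B (-1) e a 0 ∈ L)
    (l : F) : rd B (-1) f (l • a) 0 ∈ L :=
  h.perp_line hN hX hf (h.fu_congr (h.fu_map hf h1) (by simp [h.app ha, hef, h.sy a f, ha'])) ha'
    (h.ne_span hef ha ha' a0) l

omit hN hX hf hef in
theorem bij_line (ha : B e a = 0) (h0 : ∀ l : F, l ≠ 0 → rd B (-1) e (l • a) 0 ∉ L) :
    ∃ φ : F → F, Function.Bijective φ ∧ φ 0 = 0 ∧ ∀ l, rd B (-1) e (l • a) (φ l) ∈ L := by
  have : ∀ l : F, ∃ c, rd B (-1) e (l • a) c ∈ L ∧ (l = 0 → c = 0) := fun l => by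
    by_cases hl : l = 0
    · exact ⟨0, by simp [hl, h.hE.rd_zero (h.z e)], fun _ => rfl⟩
    · obtain ⟨c, hc⟩ := he.2 (l • a) (by simp [ha]); exact ⟨c, hc, fun e => absurd e hl⟩
  choose φ h1 h2 using this
  refine ⟨φ, Finite.injective_iff_bijective.1 fun l l' e => ?_, h2 0 rfl, h1⟩
  by_contra hc
  refine h0 (l + l') (fun e' => hc (by linear_combination e' - l' * h.h2))
    (h.congr (h.add (by simp [ha]) (by simp [ha]) (h1 l) (h1 l')) (by module) ?_)
  simp only [e, map_smul, LinearMap.smul_apply, h.z, smul_zero]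
  linear_combination φ l' * h.h2

theorem dich (ha : B e a = 0) (ha' : B f a = 0) (a0 : a ≠ 0) :
    (∀ l : F, rd B (-1) e (l • a) 0 ∈ L ∧ rd B (-1) f (l • a) 0 ∈ L) ∨
      ∀ l : F, l ≠ 0 → rd B (-1) e (l • a) 0 ∉ L ∧ rd B (-1) f (l • a) 0 ∉ L := by
  have hfe : B f e = 1 := by rw [h.sy, hef]
  have k1 : ∀ l : F, l ≠ 0 → rd B (-1) e (l • a) 0 ∈ L → ∀ l' : F, rd B (-1) f (l' • a) 0 ∈ L :=
    fun l hl h1 l' => h.congr (h.zero_line hN hX he hf hef (by simp [ha]) (by simp [ha'])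
      (smul_ne_zero hl a0) h1 (l' / l)) (by rw [smul_smul, div_mul_cancel₀ _ hl]) rfl
  have k2 : ∀ l : F, l ≠ 0 → rd B (-1) f (l • a) 0 ∈ L → ∀ l' : F, rd B (-1) e (l' • a) 0 ∈ L :=
    fun l hl h1 l' => h.congr (h.zero_line hN hX hf he hfe (by simp [ha']) (by simp [ha])
      (smul_ne_zero hl a0) h1 (l' / l)) (by rw [smul_smul, div_mul_cancel₀ _ hl]) rfl
  refine or_iff_not_imp_right.2 fun hc => ?_
  push Not at hc
  obtain ⟨l, hl, hc⟩ := hc
  by_cases h1 : rd B (-1) e (l • a) 0 ∈ L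
  · exact fun l' => ⟨k2 1 one_ne_zero (k1 l hl h1 1) l', k1 l hl h1 l'⟩
  · exact fun l' => ⟨k2 l hl (hc h1) l', k1 1 one_ne_zero (k2 l hl (hc h1) 1) l'⟩

variable (h3 : 3 ≤ finrank F V)
include h3

omit hN hX he hf in
theorem exists_U : ∃ a b, B e a = 0 ∧ B f a = 0 ∧ B e b = 0 ∧ B f b = 0 ∧ B a b = 1 := by
  have hh : HH B (-1) e f := ⟨h.hE, h.z e, h.z f, hef⟩
  have hU := hh.finrank_U
  obtain ⟨a, ha, a0⟩ := exists_notMem_of_lt (Y := ⊥) (A := Upr B e f) (by rw [finrank_bot]; omega)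
  obtain ⟨b, hb, hh'⟩ := h.hE.exists_HH_perp hh.nd ha (by simpa using a0) (h.z a)
  exact ⟨a, b, (mem_Upr.1 ha).1, (mem_Upr.1 ha).2, (mem_Upr.1 hb).1, (mem_Upr.1 hb).2, hh'.hef⟩

theorem z_zero' (h1 : rd B (-1) e 0 c ∈ L) : c = 0 := by
  obtain ⟨a, b, a1, a2, -, -, ab⟩ := h.exists_U hef h3
  have a0 : a ≠ 0 := fun e => by simp [e] at ab
  rcases h.dich hN hX he hf hef a1 a2 a0 with h2 | h2
  · have hfe : B f e = 1 := by rw [h.sy, hef]
    have := h.fu_map he (h2 1).2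
    rw [one_smul, h.app a2, hfe, h.sy a e, a1] at this
    refine h.perp_zero hN hX this he (by simp [h.z, h.sy a e, a1]) (l := 0) ?_ (by simpa using h1)
    refine h.notMem_symm he.1 fun hc => h.ne_span hfe a2 a1 a0 ?_
    simpa using sub_mem hc (Submodule.mem_span_singleton_self e)
  · obtain ⟨φ, φ1, φ0, φ2⟩ := h.bij_line he a1 fun l hl => (h2 l hl).1
    obtain ⟨l, rfl⟩ := φ1.2 c
    by_cases hl : l = 0
    · rw [hl, φ0]
    · exact absurd (h.congr (h.add (by simp [a1]) (map_zero _) (φ2 l) h1) (add_zero _) (by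
        simp; linear_combination φ l * h.h2)) (h2 l hl).1

theorem exists_val (c0 : c ≠ 0) : ∃ a, a ≠ 0 ∧ B e a = 0 ∧ B f a = 0 ∧ rd B (-1) e a c ∈ L := by
  obtain ⟨a, b, a1, a2, b1, b2, ab⟩ := h.exists_U hef h3
  have a0 : a ≠ 0 := fun e => by simp [e] at ab
  rcases h.dich hN hX he hf hef a1 a2 a0 with h2 | h2
  · obtain ⟨d, hd⟩ := he.2 b b1
    refine ⟨(c - d) • a + b, fun e => ?_, by simp [a1, b1], by simp [a2, b2],
      h.congr (h.add (by simp [a1]) b1 (h2 (c - d)).1 hd) rfl (by simp [ab])⟩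
    simpa [h.z, ab] using congrArg (B a) e
  · obtain ⟨φ, φ1, φ0, φ2⟩ := h.bij_line he a1 fun l hl => (h2 l hl).1
    obtain ⟨l, rfl⟩ := φ1.2 c
    exact ⟨l • a, smul_ne_zero (fun e => c0 (by rw [e, φ0])) a0, by simp [a1], by simp [a2], φ2 l⟩

theorem two_points {x : F} (hs : Fu B L (f + x • e)) : x = 0 := by
  by_contra x0
  have h2 := h.h2
  have hfe : B f e = 1 := by rw [h.sy, hef]
  obtain ⟨a, a0, a1, a2, ha⟩ := h.exists_val hN hX he hf hef h3 x0
  have a3 : B a e = 0 := by rw [h.sy, a1]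
  have a4 : B a f = 0 := by rw [h.sy, a2]
  have k1 := h.perp_line hN hX hf (a := a) (h.fu_congr (h.fu_map hs ha) (by
    simp only [h.app a1, map_add, map_smul, hef, h.z, a3, a4, smul_eq_mul]
    match_scalars <;> grind)) a2 (h.ne_span hef a1 a2 a0)
  have k2 := h.perp_line hN hX hs (a := a) (h.fu_congr (h.fu_map hf ha) (by
    simp only [h.app a1, hef, a4]
    module)) (by simp [a1, a2]) (h.ne_span (e := e) (by simp [hef, h.z]) a1 (by simp [a1, a2]) a0)
  have k3 : ∀ l c : F, rd B (-1) e ((l * x) • a) c ∈ L →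
      rd B (-1) e 0 c * rd B (-1) a 0 (l ^ 2 * x) ∈ L := fun l c hc => by
    convert mul_mem hc (mul_mem (k1 l) (k2 l)) using 1
    ext y
    simp only [LinearEquiv.mul_apply, h.tapp]
    rw [h.app (by simp [a1]), h.app (by simp [a2]), h.app (by simp [a1, a2])]
    simp only [map_add, map_smul, LinearMap.add_apply, LinearMap.smul_apply, hef, hfe, h.z, a1, a2,
      a3, a4, smul_eq_mul]
    match_scalars <;> grind
  have ae := h.ne_span hfe a2 a1 a0
  by_cases hF : Nat.card F = 2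
  · obtain rfl := (card_two_cases hF x).resolve_left x0
    exact hX (h.exc_of hF he a1 ae (by simpa using k3 1 1 (by simpa using ha)))
  obtain ⟨t, t0, t1⟩ := exists_ne_zero_ne_one_of_card hF
  obtain ⟨c1, h4⟩ := he.2 ((1 * x) • a) (by simp [a1])
  obtain ⟨c2, h5⟩ := he.2 ((t * x) • a) (by simp [a1])
  refine hN (h.top_of_two he a1 (fun e => t1 ?_) (h.sq_mem he a1 ae (by simp [x0]) (k3 _ _ h4))
    (h.sq_mem he a1 ae (by simp [x0, t0]) (k3 _ _ h5)))
  have := mul_right_cancel₀ x0 (inv_injective e)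
  exact sub_eq_zero.1 (pow_eq_zero_iff two_ne_zero |>.1 (by
    linear_combination -this + (1 - t) * h.h2))

theorem rel_inv (ha : B e a = 0) (ha' : B f a = 0) (c0 : c ≠ 0) (h1 : rd B (-1) e a c ∈ L) :
    rd B (-1) f (c⁻¹ • a) c⁻¹ ∈ L := by
  have h2 := h.h2
  have hfe : B f e = 1 := by rw [h.sy, hef]
  obtain ⟨d, hd⟩ := hf.2 (c⁻¹ • a) (by simp [ha'])
  by_cases h4 : 1 + c * d = 0
  · exact h.congr hd rfl (by field_simp; linear_combination h4 - h2)
  have := h.two_points hN hX he hf hef h3 (x := c / (1 + c * d)) (h.fu_congr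
    (h.fu_smul (h.fu_map (h.fu_map hf h1) hd) (inv_ne_zero h4)) (by
      rw [h.app (by simp [ha']), h.app ha]
      simp only [map_add, map_smul, LinearMap.smul_apply, hef, hfe, h.z, ha', h.sy a f, h.sy a e, ha,
        smul_eq_mul]
      match_scalars <;> field_simp <;> grind))
  simp [c0, h4] at this

end pair

variable (h3 : 3 ≤ finrank F V)
include h3

omit hN hX h3 in
theorem exists_partner (he : Fu B L e) : ∃ f, Fu B L f ∧ B e f = 1 := by
  obtain ⟨g, hg, h1⟩ := h.irr.exists_move h.hE.witt.nondeg he.1 he.1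
  exact ⟨(B e (g e))⁻¹ • g e, h.fu_smul (h.fu_map he hg) (inv_ne_zero h1), by simp [h1]⟩

theorem uniq (he : Fu B L e) (ha : B e a = 0) (h1 : rd B (-1) e a c ∈ L)
    (h2 : rd B (-1) e a c' ∈ L) : c = c' := by
  obtain ⟨f, hf, hef⟩ := h.exists_partner he
  linear_combination h.z_zero' hN hX he hf hef h3 (h.div ha h1 h2) - c' * h.h2

theorem quad (he : Fu B L e) (hf : Fu B L f) (hef : B e f = 1) (ha : B e a = 0) (ha' : B f a = 0)
    (h1 : rd B (-1) e a c ∈ L) (l : F) :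
    rd B (-1) e (l • a) (l ^ 2 * c) ∈ L ∧ rd B (-1) f (l • a) (l ^ 2 * c) ∈ L := by
  by_cases a0 : a = 0
  · subst a0
    rw [h.z_zero' hN hX he hf hef h3 h1, smul_zero, mul_zero, h.hE.rd_zero (h.z e),
      h.hE.rd_zero (h.z f)]
    exact ⟨one_mem _, one_mem _⟩
  rcases h.dich hN hX he hf hef ha ha' a0 with h2 | h2
  · rw [h.uniq hN hX h3 he ha h1 (by simpa using (h2 1).1), mul_zero]; exact h2 l
  have mk : ∀ {s : V}, Fu B L s → B s a = 0 → (∀ l : F, l ≠ 0 → rd B (-1) s (l • a) 0 ∉ L) →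
      ∃ φ : F ≃+ F, ∀ l, rd B (-1) s (l • a) (φ l) ∈ L := fun {s} hs hsa h0 => by
    obtain ⟨φ, φ1, -, φ2⟩ := h.bij_line hs hsa h0
    exact ⟨AddEquiv.ofBijective (AddMonoidHom.mk' φ fun l l' => h.uniq hN hX h3 hs
      (by simp [hsa]) (φ2 _) (h.congr (h.add (by simp [hsa]) (by simp [hsa]) (φ2 l) (φ2 l'))
        (by module) (by simp [h.z]))) φ1, φ2⟩
  obtain ⟨φ, φ1⟩ := mk he ha fun l hl => (h2 l hl).1
  obtain ⟨φ', φ2⟩ := mk hf ha' fun l hl => (h2 l hl).2
  have := hua_sq h.h2 φ φ' (fun l hl => h.uniq hN hX h3 hf (by simp [ha']) (φ2 _) (h.congr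
    (h.rel_inv hN hX he hf hef h3 (by simp [ha]) (by simp [ha']) (by simpa using hl) (φ1 l))
    (by rw [smul_smul, div_eq_inv_mul]) rfl)) l
  rw [h.uniq hN hX h3 he ha h1 (by simpa using φ1 1)]
  exact ⟨this.1 ▸ φ1 l, this.2 ▸ φ2 l⟩

theorem exists_quad (he : Fu B L e) (hf : Fu B L f) (hef : B e f = 1) :
    ∃ Q : QuadraticForm F V, (∀ x y, polar Q x y = B x y) ∧ Q e = 0 ∧ Q f = 0 ∧
      (∀ a, B e a = 0 → rd B (-1) e a (Q a) ∈ L) ∧ ∀ a, B f a = 0 → rd B (-1) f a (Q a) ∈ L := by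
  have h2 := h.h2
  have hfe : B f e = 1 := by rw [h.sy, hef]
  let π : V →ₗ[F] V := LinearMap.id - (B f).smulRight e - (B e).smulRight f
  have πa : ∀ v, π v = v - B f v • e - B e v • f := fun v => rfl
  have π1 : ∀ v, B e (π v) = 0 := fun v => by simp [πa, h.z, hef]
  have π2 : ∀ v, B f (π v) = 0 := fun v => by simp [πa, h.z, hfe]
  choose φ hφ using fun v => he.2 _ (π1 v)
  have u := fun {v c} (hc : rd B (-1) e (π v) c ∈ L) => h.uniq hN hX h3 he (π1 v) (hφ v) hc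
  have φ0 : ∀ v, π v = 0 → φ v = 0 := fun v hv => u (by
    rw [hv, h.hE.rd_zero (h.z e)]; exact one_mem _)
  let Q : QuadraticForm F V :=
    { toFun := fun v => φ v + B e v * B f v
      toFun_smul := fun l v => by
        rw [u (v := l • v) (by
          rw [map_smul]; exact (h.quad hN hX h3 he hf hef (π1 v) (π2 v) (hφ v) l).1)]
        simp only [map_smul, smul_eq_mul]; ring
      exists_companion' := ⟨B, fun v w => by
        rw [u (v := v + w) (by rw [map_add]; exact h.add (π1 v) (π1 w) (hφ v) (hφ w))]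
        simp only [πa, map_add, map_sub, map_smul, LinearMap.sub_apply, LinearMap.smul_apply, h.z,
          hef, hfe, h.sy v e, h.sy v f, smul_eq_mul]
        grind⟩ }
  have Qa : ∀ v, Q v = φ v + B e v * B f v := fun v => rfl
  refine ⟨Q, fun x y => ?_, ?_, ?_, fun a ha => ?_, fun a ha => ?_⟩
  · rw [polar, Qa, Qa, Qa, u (v := x + y) (by
      rw [map_add]; exact h.add (π1 x) (π1 y) (hφ x) (hφ y))]
    simp only [πa, map_add, map_sub, map_smul, LinearMap.sub_apply, LinearMap.smul_apply, h.z,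
      hef, hfe, h.sy x e, h.sy x f, smul_eq_mul]
    grind
  · rw [Qa, φ0 e (by simp [πa, h.z, hfe])]; simp [h.z]
  · rw [Qa, φ0 f (by simp [πa, h.z, hef])]; simp [h.z]
  · exact h.congr (h.shift (π1 a) (B f a) (hφ a)) (by simp [πa, ha]) (by simp [Qa, ha])
  · have := (h.quad hN hX h3 he hf hef (π1 a) (π2 a) (hφ a) 1).2
    rw [one_smul] at this
    exact h.congr (h.shift (π2 a) (B e a) this) (by simp [πa, ha]) (by simp [Qa, ha])

theorem main (he : Fu B L e) : ∃ Q : QuadraticForm F V, polarBilin Q = B ∧ L ≤ OG Q ∧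
    ∀ g ∈ eichlerSub Q, g.1 ∈ L := by
  obtain ⟨f, hf, hef⟩ := h.exists_partner he
  obtain ⟨Q, q1, qe, qf, q2, q3⟩ := h.exists_quad hN hX h3 he hf hef
  have h2 := h.h2
  have hQ : polarBilin Q = B := by ext x y; simp [q1]
  have hn : (polarBilin Q).Nondegenerate := hQ ▸ h.hB
  have ei : ∀ {u w : V} (hu : Q u = 0) (hw : polar Q u w = 0),
      (eichler hu hw).1 = rd B (-1) u w (Q w) := fun {u w} hu hw => by
    ext x
    rw [eichler_apply, h.app (q1 u w ▸ hw), q1, q1]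
    match_scalars <;> grind
  have good := (isWittPair_quad Q hn).good_of_pair (M := L) (A := ⊤) trivial trivial
    (by simpa using qe) (by simpa using qf) (by simp [q1, hef])
    ((Rad_le_iff_eichler hn he.1 qe Submodule.mem_top).2 fun w _ hw => ei qe hw ▸ q2 w (q1 e w ▸ hw))
    ((Rad_le_iff_eichler hn hf.1 qf Submodule.mem_top).2 fun w _ hw => ei qf hw ▸ q3 w (q1 f w ▸ hw))
  have hE : ∀ {u w : V} (hu : Q u = 0) (hw : polar Q u w = 0), (eichler hu hw).1 ∈ L :=
    fun {u w} hu hw => by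
      by_cases u0 : u = 0
      · subst u0; rw [eichler_zero_left]; exact one_mem _
      · exact good u trivial (by simpa using hu) (by
          rwa [(isWittPair_quad Q hn).perp_top, Submodule.mem_bot]) (eichler_mem_Rad hu hw trivial trivial)
  have hE' : ∀ g ∈ eichlerSub Q, g.1 ∈ L := fun g hg =>
    (Subgroup.closure_le (L.comap (OG Q).subtype)).2 (by rintro _ ⟨u, w, hu, hw, rfl⟩; exact hE hu hw) hg
  refine ⟨Q, hQ, fun g hg => mem_OG.2 fun v => ?_, hE'⟩
  have sing : ∀ s, Fu B L s → Q s = 0 := fun s hs => by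
    obtain ⟨t, ht, α, β, e1⟩ := exists_eichler_move hn qe qf (by rw [q1, hef]) s
    rw [← mem_OG.1 t.2 s, e1, quad_add, quad_smul, quad_smul, qe, qf]
    by_cases β0 : β = 0
    · simp [β0]
    have := h.two_points hN hX he hf hef h3 (x := α / β) (h.fu_congr
      (h.fu_smul (h.fu_map hs (hE' t ht)) (inv_ne_zero β0)) (by
        rw [e1]; match_scalars <;> field_simp))
    simp [β0] at this
    simp [this]
  have key : ∀ s a, Fu B L s → B s a = 0 → rd B (-1) s a (Q a) ∈ L → Q (g a) = Q a :=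
    fun s a hs ha h1 => by
      have h4 : B (g s) (g a) = 0 := by rw [ug_map (h.le hg), ha]
      exact h.uniq hN hX h3 (h.fu_map hs hg) h4
        (ei (sing _ (h.fu_map hs hg)) ((q1 _ _).trans h4) ▸ hE _ _)
        (h.hE.rd_conj_mem (h.le hg) hg (h.z s) ha h1)
  have e1 : B e (v - B e v • f) = 0 := by simp [hef]
  have e2 : B f (B e v • f) = 0 := by simp [h.z]
  rw [← sub_add_cancel v (B e v • f), map_add, quad_add, quad_add, key e _ he e1 (q2 _ e1),
    key f _ hf e2 (q3 _ e2), q1, q1, ug_map (h.le hg)]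

end SpTwo

end CF.Classical
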