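/-
Generation of symplectic and odd-dimensional unitary groups by three conjugate regular unipotent
elements.
-/
import Cfsg.Agent.Classical.RegGenE
import Cfsg.Agent.Classical.MinIdxU1

set_option autoImplicit false
set_option linter.unusedSectionVars false

namespace CF.Classical

open Module CF.Geom

variable {F V : Type*} [Field F] [AddCommGroup V] [Module F V]

/-- `G` is generated by three conjugate unipotent elements with `(u - 1) ^ k ≠ 0`. -/
def RGen3 (G : Subgroup (V ≃ₗ[F] V)) (k : ℕ) : Prop :=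
  ∃ u ∈ G, ∃ g ∈ G, ∃ h ∈ G, ∃ N : End F V, IsNilpotent N ∧ N ^ k ≠ 0 ∧ (∀ x, u x = x + N x) ∧
    ∀ K ≤ G, u ∈ K → g * u * g⁻¹ ∈ K → h * u * h⁻¹ ∈ K → G ≤ K

variable [FiniteDimensional F V] [Finite F]

section gen

variable {σ : F →+* F} {B : V →ₛₗ[σ] V →ₗ[F] F} {ε : F} {H G : Subgroup (V ≃ₗ[F] V)}
  {u : V ≃ₗ[F] V} {N : End F V} {w : V} {k : ℕ} (h : RegU B ε u N w (k + 2))
include h

theorem RegU.rq_mul (hu : u ∈ H) {ρ : F} {t : V} {s : F}
    (ht : (N ^ k) t = (N ^ (k + 1)) w + s • (N ^ (k + 2)) w)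
    (hρ : ∀ l : F, RQ B ε H ((N ^ (k + 2)) w) (l • (N ^ (k + 1)) w) →
      RQ B ε H ((N ^ (k + 2)) w) ((l * ρ) • t)) {r : F} (hr : r ∈ Subring.closure {ρ}) (l : F)
    (hl : RQ B ε H ((N ^ (k + 2)) w) (l • (N ^ (k + 1)) w)) :
    RQ B ε H ((N ^ (k + 2)) w) ((r * l) • (N ^ (k + 1)) w) := by
  have he := h.e_N (j := k + 2) (by omega) w
  refine mul_of_closure (P := fun l => RQ B ε H ((N ^ (k + 2)) w) (l • (N ^ (k + 1)) w))
    (by simpa using h.hE.rq_e he (H := H) 0) (fun a b ha hb => by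
      simpa [add_smul] using h.hE.rq_add he ha hb) (fun a ha => by
      simpa using h.hE.rq_neg he ha) (fun r hr a ha => ?_) hr l hl
  obtain rfl : r = ρ := hr
  refine h.hE.rq_congr he (h.rq_pow (by omega) hu (hρ a ha) k) (-(a * r * s)) ?_
  rw [map_smul, ht]; module

theorem RegU.full_of (hu : u ∈ H) {ρ : F} (ρ0 : ρ ≠ 0) {t : V} {s : F}
    (ht : (N ^ k) t = (N ^ (k + 1)) w + s • (N ^ (k + 2)) w)
    (hρ : ∀ l : F, RQ B ε H ((N ^ (k + 2)) w) (l • (N ^ (k + 1)) w) →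
      RQ B ε H ((N ^ (k + 2)) w) ((l * ρ) • t))
    (hl : ∀ l : F, RQ B ε H ((N ^ (k + 2)) w) (l • (N ^ (k + 1)) w)) (a : V)
    (ha : B ((N ^ (k + 2)) w) a = 0) : RQ B ε H ((N ^ (k + 2)) w) a := by
  refine h.full (by omega) hu (t := t) ?_ (fun c => ?_) a ha
  · rw [show k + 2 - 1 = k + 1 from rfl, ← h.N_pow, ht, map_add, map_smul, h.N_pow, h.N_pow,
      h.pow_zero_of (i := k + 2 + 1) (by omega), smul_zero, add_zero]
    exact h.e_ne
  · simpa [div_mul_cancel₀ _ ρ0] using hρ _ (hl (c / ρ))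

theorem RegU.fin_comm (hG : PolarG B (fun x => B x x) G) (hH : H ≤ UG B) (hi : RIrr H)
    (hT : ∀ a, B ((N ^ (k + 2)) w) a = 0 → RQ B ε H ((N ^ (k + 2)) w) a)
    (hZ : ∀ c, ε * c + σ c = 0 → ∃ b, c = ε * b - σ b) : G ≤ H := by
  have he := h.e_N (j := k + 2) (by omega) w
  refine h.hE.finish hG hH hi h.e_ne he hT fun c hc => ?_
  obtain ⟨b, rfl⟩ := hZ c hc
  exact h.hE.centre_of_comm he hT (h.e_N one_pos w) (h.e_N (j := k + 1) (by omega) w)
    (h.pair_ne (by omega)) b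

end gen

section sp

variable {B : LinearMap.BilinForm F V} (hB : B.Nondegenerate) (hA : B.IsAlt)
  {u : V ≃ₗ[F] V} {N : End F V} {w : V}
include hB hA

theorem sp_odd (h2 : (2 : F) ≠ 0) {k : ℕ} (hk : 0 < k) (h : RegU B (-1) u N w (k + 2))
    (hw : B w (N w) = 0) : RGen3 (UG B) (k + 2) := by
  obtain ⟨τ, τ0, hτ⟩ := exists_field_gen (F := F)
  obtain ⟨g, hg, g1, g2⟩ := h.exists_g (hA.self_eq_zero w) hw
  have he := h.e_N (j := k + 2) (by omega) w
  set θ := -τ / (2 * B w ((N ^ (k + 2)) w))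
  have θ0 : θ ≠ 0 := div_ne_zero (neg_ne_zero.2 τ0) (mul_ne_zero h2 h.top)
  have hy : B ((N ^ (k + 2)) w) (θ • (N ^ k) w) = 0 := by simp [h.e_N hk]
  refine ⟨u, h.ug, g, hg, _, h.hE.rd_mem_UG he hy (cond_alt hA 0 _), N, h.isNil, h.pow_ne, h.eu,
    fun K hK hu hv hx => ?_⟩
  have h1 := h.third_rq (by omega) hu hy hx
  rw [map_smul, h.N_pow] at h1
  have hρ := fun l => h.tv_step hK hu hv (by simp [← g1, inv_apply_apply, g2]) h1 (l := l)
  rw [show (-1 * RingHom.id F θ - θ) * B w ((N ^ (k + 2)) w) = τ by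
    have := h.top; simp only [RingHom.id_apply, θ]; field_simp; ring] at hρ
  have ht : (N ^ k) (N w) = (N ^ (k + 1)) w + (0 : F) • (N ^ (k + 2)) w := by simp [h.pow_N]
  refine h.fin_comm (polarG_alt hB hA) hK (h.irr g1 hu hv) (h.full_of hu τ0 ht hρ fun l => ?_)
    fun c _ => ⟨-c / 2, by simp only [RingHom.id_apply]; field_simp; ring⟩
  simpa [div_mul_cancel₀ _ θ0] using
    h.rq_mul hu ht hρ (r := l / θ) (hτ ▸ Subring.mem_top _) θ h1

theorem sp_two (h2 : (2 : F) = 0) {i : ℕ} (hi : Nat.card F ≠ 2 ∨ 0 < i)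
    (h : RegU B (-1) u N w (2 * i + 1 + 2)) (hw : B w (N w) = 0) :
    RGen3 (UG B) (2 * i + 1 + 2) := by
  obtain ⟨τ, τ0, hτ⟩ := exists_field_gen (F := F)
  have hE := h.hE
  have z := hA.self_eq_zero
  have he := h.e_N (j := 2 * i + 1 + 2) (by omega) w
  have β0 := h.pair_ne (i := i + 1) (j := i + 2) (by omega)
  have β1 := h.pair_ne (i := i + 2) (j := i + 1) (by omega)
  set e := (N ^ (2 * i + 1 + 2)) w with he'
  set s := (B w (N (N w)) - B ((N ^ (i + 2)) w) (N w)) / B ((N ^ (i + 2)) w) ((N ^ (i + 1)) w)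
  have hs : s = 0 ∨ 0 < i := by
    rcases Nat.eq_zero_or_pos i with rfl | h0
    · refine Or.inl (div_eq_zero_iff.2 (Or.inl ?_))
      have := h.adj w (N w)
      rw [z, h.eu, map_add, LinearMap.add_apply] at this
      simp only [zero_add, pow_succ, pow_zero, one_mul, End.mul_apply]
      linear_combination this + hA.neg_eq (N w) (N (N w))
    · exact Or.inr h0
  set t := N w + s • (N ^ (i + 1)) w
  have et : B e t = 0 := by
    simpa [t, he', h.e_N (j := i + 1) (by omega)] using h.e_N one_pos w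
  have tx : B t ((N ^ (2 * i + 1 + 1)) w) = -B w e := by
    have := h.pair_top (i := 1) (j := 2 * i + 1 + 1) (by omega) w w
    rw [pow_one] at this
    rcases hs with hs | hs
    · simp [t, hs, this, he']
    · simp [t, this, he', h.pair_zero (i := i + 1) (j := 2 * i + 1 + 1) (by omega)]
  obtain ⟨s', ht⟩ : ∃ s' : F, (N ^ (2 * i + 1)) t = (N ^ (2 * i + 1 + 1)) w + s' • e := by
    rcases hs with hs | hs
    · exact ⟨0, by simp [t, hs, h.pow_N]⟩
    obtain ⟨c, hc⟩ := Submodule.mem_span_singleton.1 (h.ker ((N ^ (2 * i + 1 + (i + 1))) w) (by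
      rw [h.N_pow, h.pow_zero_of (by omega)]))
    exact ⟨s * c, by rw [map_add, map_smul, h.pow_N, h.pow_pow, ← hc, smul_smul]⟩
  have e2 : B e ((N ^ (i + 2)) w) = 0 := h.e_N (by omega) w
  obtain ⟨w', hw'⟩ := u.surjective w
  have l1 : LinearIndependent F ![w', w, u w] := by
    rw [Fintype.linearIndependent_iff]
    intro c hc
    have h0 := congrArg u hc
    simp only [Fin.sum_univ_three, Matrix.cons_val_zero, Matrix.cons_val_one, Matrix.cons_val,
      map_add, map_smul, hw', map_zero] at h0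
    have k : ∀ j, (c 0 + c 1 + c 2) • (N ^ j) w + (c 1 + 2 * c 2) • (N ^ (j + 1)) w +
        c 2 • (N ^ (j + 2)) w = 0 := fun j => by
      rw [← (N ^ j).map_zero, ← h0]
      simp only [h.eu, map_add, map_smul, h.pow_N]; module
    have k0 := k (2 * i + 1 + 2)
    have k1 := k (2 * i + 1 + 1)
    have k2 := k (2 * i + 1)
    rw [h.pow_zero_of (i := 2 * i + 1 + 2 + 1) (by omega),
      h.pow_zero_of (i := 2 * i + 1 + 2 + 2) (by omega)] at k0
    have m0 : c 0 + c 1 + c 2 = 0 := by simpa [h.e_ne] using k0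
    rw [h.pow_zero_of (i := 2 * i + 1 + 1 + 2) (by omega), m0] at k1
    have m1 : c 1 + 2 * c 2 = 0 := by simpa [h.e_ne] using k1
    have m2 : c 2 = 0 := by simpa [m0, m1, h.e_ne] using k2
    intro j; fin_cases j
    · simp only [Fin.zero_eta]; linear_combination m0 - m1 + m2
    · simp only [Fin.mk_one]; linear_combination m1 - 2 * m2
    · exact m2
  have l2 : LinearIndependent F ![(N ^ (i + 2)) w, e, t] := by
    rw [Fintype.linearIndependent_iff]
    intro c hc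
    simp only [Fin.sum_univ_three, Matrix.cons_val_zero, Matrix.cons_val_one, Matrix.cons_val] at hc
    have k2 := congrArg (fun x => B x ((N ^ (2 * i + 1 + 1)) w)) hc
    have m2 : c 2 = 0 := by
      simpa [tx, h.top, he', h.pair_zero (i := i + 2) (j := 2 * i + 1 + 1) (by omega),
        h.e_N (j := 2 * i + 1 + 1) (by omega)] using k2
    have k0 := congrArg (fun x => B x ((N ^ (i + 1)) w)) hc
    have m0 : c 0 = 0 := by simpa [m2, β1, he', h.e_N (j := i + 1) (by omega)] using k0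
    have m1 : c 1 = 0 := by simpa [m2, m0, he', h.e_ne] using hc
    intro j; fin_cases j <;> assumption
  have a1 : B w (u w) = 0 := by rw [h.eu, map_add, z, hw, add_zero]
  have a2 : B w' w = 0 := by rw [← ug_map h.ug, hw', a1]
  have a3 : B w' (u w) = B ((N ^ (i + 2)) w) t := by
    rw [← ug_map h.ug, hw']
    simp only [h.eu, map_add, z, hw, t, map_smul, smul_eq_mul, s, div_mul_cancel₀ _ β1]; ring
  have a4 : B (u w) w' = B t ((N ^ (i + 2)) w) := by rw [← hA.neg_eq, a3, hA.neg_eq]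
  obtain ⟨g, g1, -, g3⟩ := hE.witt.frame _ _ l1 l2
    (fun i j => by
      fin_cases i <;> fin_cases j <;>
        simp [z, a1, a2, a3, a4, e2, et, hE.refl a1, hE.refl a2, hE.refl e2, hE.refl et])
    (fun i => by simp [z])
  have g4 : g w' = (N ^ (i + 2)) w := g3 0
  have g5 : g w = e := g3 1
  have g6 : g (u w) = t := g3 2
  obtain ⟨θ, hθ⟩ := exists_sqrt_two h2 (τ / (B ((N ^ (i + 1)) w) ((N ^ (i + 2)) w) * B w e))
  have θ0 : θ ≠ 0 := left_ne_zero_of_mul (hθ ▸ div_ne_zero τ0 (mul_ne_zero β0 h.top))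
  have hy : B e (θ • (N ^ (i + 1)) w) = 0 := by simp [he', h.e_N (j := i + 1) (by omega)]
  refine ⟨u, h.ug, g, mem_UG.2 g1, _, h.hE.rd_mem_UG he hy (cond_alt hA 0 _), N, h.isNil, h.pow_ne,
    h.eu, fun K hK hu hv hx => ?_⟩
  have h0 := h.third (by omega) hu hy hx
  have h1 := h.rq_pow (by omega) hu (h.third_rq (by omega) hu hy hx) i
  rw [map_smul, h.N_pow, ← neg_smul] at h0
  rw [h.pow_N, map_smul, h.pow_pow, show i + 1 + (i + 1) = 2 * i + 1 + 1 by omega] at h1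
  have v1 : (g * u * g⁻¹) ((N ^ (i + 2)) w) = e := by simp [← g4, hw', g5]
  have v2 : (g * u * g⁻¹) e = t := by simp [← g5, inv_apply_apply, g6]
  have h3 := hE.rd_conj_mem (hK hv) hv he (by simp [e2]) h0
  rw [map_smul, v1, v2] at h3
  have hρ := fun l => hE.rq_step he (hK h3) h3 (hE.rd_fix (z t) (by simp [hE.refl et]) _
    (hE.refl et) (by simp [z])) (l := l) (ρ := τ) (t := t) (s := θ * B w e)
    (x := (N ^ (2 * i + 1 + 1)) w) (by
      rw [hE.rd_apply (z t) (by simp [hE.refl et]), tx, ← div_mul_cancel₀ τ (mul_ne_zero β0 h.top),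
        ← hθ]
      simp only [map_smul, LinearMap.smul_apply, he', h.e_N (j := 2 * i + 1 + 1) (by omega),
        smul_eq_mul]
      module)
  have hT := h.full_of hu τ0 ht hρ fun l => by
    simpa [div_mul_cancel₀ _ θ0] using
      h.rq_mul hu ht hρ (r := l / θ) (hτ ▸ Subring.mem_top _) θ h1
  have S : SpTwo B K := ⟨hB, hA, h2, hK, h.irr g5 hu hv⟩
  have fu : Fu B K e := ⟨h.e_ne, fun a ha => (hT a ha).2.imp fun c hc => hc.2⟩
  by_contra hN
  have hX : ¬ SpExc B K := hi.elim (fun h1 h2 => h1 h2.1) fun h1 =>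
    S.not_exc hN (by rw [h.dim]; omega)
  have := S.perp_zero hN hX (S.fu_congr (S.fu_map fu (inv_mem hv)) (by
    rw [← v1, inv_apply_apply])) fu (hE.refl e2) (fun hc => ?_) h0
  · simp [θ0, β0] at this
  · obtain ⟨c, hc⟩ := Submodule.mem_span_singleton.1 hc
    have := congrArg (fun x => B x ((N ^ (i + 1)) w)) hc
    simp only [map_smul, LinearMap.smul_apply, he', h.e_N (j := i + 1) (by omega), smul_eq_mul,
      mul_eq_zero, β1, or_false] at this
    exact h.e_ne (by rw [← he', ← hc, this, zero_smul])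

theorem sp_gen3 {n : ℕ} (hd : finrank F V = 2 * n) (hn : 2 ≤ n) (h22 : ¬ (n = 2 ∧ Nat.card F = 2)) :
    RGen3 (UG B) (2 * n - 1) := by
  have hE := eh_alt hB hA
  obtain ⟨i, rfl⟩ : ∃ i, n = i + 2 := ⟨n - 2, by omega⟩
  have : Nontrivial V := Module.nontrivial_of_finrank_pos (R := F) (by omega)
  obtain ⟨e, e0⟩ := exists_ne (0 : V)
  obtain ⟨f, hh⟩ := hE.exists_HH e0 (hA.self_eq_zero e)
  obtain ⟨u, N, h0⟩ := regW_hyp hh (c := 1) one_ne_zero (by simp)
  obtain ⟨u, N, w, h, -, hw⟩ := h0.iter hE (fun X hX => by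
    obtain ⟨s, h1, h2⟩ := exists_notMem_of_lt (Y := ⊥) (A := X) (by rw [finrank_bot]; omega)
    exact ⟨s, h1, by simpa using h2, hA.self_eq_zero s⟩) i (by omega)
  rw [show 1 + 2 * (i + 1) = 2 * i + 1 + 2 by ring] at h
  rw [show 2 * (i + 2) - 1 = 2 * i + 1 + 2 by omega]
  by_cases h2 : (2 : F) = 0
  · exact sp_two hB hA h2 (by omega) h (hw (Or.inl hh.hf))
  · exact sp_odd hB hA h2 (by omega) h (hw (Or.inl hh.hf))

end sp

section su

variable {σ : F →+* F} {B : V →ₛₗ[σ] V →ₗ[F] F}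

theorem herm_skew (hH : IsHerm B) (c : F) (hc : 1 * c + σ c = 0) : ∃ b, c = 1 * b - σ b := by
  obtain ⟨t, ht⟩ := exists_trace_ne_zero σ (Or.inl hH.ne_id)
  refine ⟨c * t / (t + σ t), ?_⟩
  simp only [map_div₀, map_mul, map_add, hH.invol, show σ c = -c by linear_combination hc]
  rw [add_comm (σ t) t]
  field_simp; ring

theorem exists_skew_gen {q : ℕ} (hU : UQ B q) : ∃ ρ : F, ρ ≠ 0 ∧ 1 * ρ + σ ρ = 0 ∧
    ∀ x, σ x = x → x ∈ Subring.closure {ρ} := by
  obtain ⟨γ, γ0, hγ⟩ := exists_prim (F := F)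
  have k : ∀ x, σ x = x → x ≠ 0 → ∃ j : ℕ, x = (γ * σ γ) ^ j := fun x hx x0 => by
    obtain ⟨a, rfl⟩ := hU.exists_norm hx
    obtain ⟨j, rfl⟩ := hγ a (left_ne_zero_of_mul x0)
    exact ⟨j, by rw [map_pow, mul_pow]⟩
  have k1 : σ (γ * σ γ) = γ * σ γ := by rw [map_mul, hU.hH.invol, mul_comm]
  have n0 : γ * σ γ ≠ 0 := mul_ne_zero γ0 ((map_ne_zero σ).2 γ0)
  suffices ∃ ρ : F, ρ ≠ 0 ∧ 1 * ρ + σ ρ = 0 ∧ γ * σ γ ∈ Subring.closure {ρ} by
    obtain ⟨ρ, h1, h2, h3⟩ := this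
    refine ⟨ρ, h1, h2, fun x hx => ?_⟩
    by_cases x0 : x = 0
    · exact x0 ▸ zero_mem _
    obtain ⟨j, rfl⟩ := k x hx x0
    exact pow_mem h3 _
  by_cases h2 : (2 : F) = 0
  · exact ⟨_, n0, by rw [k1]; linear_combination γ * σ γ * h2, Subring.subset_closure rfl⟩
  obtain ⟨δ, hδ, δ0⟩ := hU.exists_skew
  have hδ' : σ δ = -δ := by linear_combination mem_Zs.1 hδ
  obtain ⟨j, hj⟩ := k (δ * δ) (by simp [hδ']) (mul_ne_zero δ0 δ0)
  obtain ⟨l, rfl | rfl⟩ := Nat.even_or_odd' j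
  · have : σ δ = δ := by
      rcases mul_self_eq_mul_self_iff.1 (show δ * δ = (γ * σ γ) ^ l * (γ * σ γ) ^ l by
        rw [hj]; ring) with e | e <;> rw [e] <;> simp only [map_neg, map_pow, k1]
    exact absurd (mul_eq_zero.1 (show 2 * δ = 0 by linear_combination hδ' - this)) (by simp [h2, δ0])
  refine ⟨δ / (γ * σ γ) ^ l, div_ne_zero δ0 (pow_ne_zero _ n0), by
    rw [map_div₀, map_pow, k1, hδ']; ring, ?_⟩
  have := Subring.subset_closure (s := {δ / (γ * σ γ) ^ l}) rfl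
  convert mul_mem this this using 1
  rw [div_mul_div_comm, hj]; field_simp; ring

theorem su_five {q : ℕ} (hU : UQ B q) {u : V ≃ₗ[F] V} {N : End F V} {w : V} {j : ℕ} (hj : Even j)
    (h : RegU B 1 u N w (j + 2 + 2)) (hww : B w w = 0) (hw : B w (N w) = 0) :
    RGen3 (SUG B) (j + 2 + 2) := by
  have hH := hU.hH
  have hE := h.hE
  obtain ⟨ρ, ρ0, hρ1, hρ2⟩ := exists_skew_gen hU
  obtain ⟨g, hg, g1, g2⟩ := h.exists_g hww hw
  have he := h.e_N (j := j + 2 + 2) (by omega) w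
  have hG := polarG_su hH hU.hB h.e_ne he
  obtain ⟨a, ha, a', ha', haa⟩ := hE.witt.exists_not_isotropic
    (C := perp B (Submodule.span F {w, u w})) (by
      have := hE.witt.finrank_perp (Submodule.span F {w, u w})
      have := IsWittPair.finrank_span_pair_le (F := F) w (u w)
      have := h.dim
      omega)
  obtain ⟨α, β, hd⟩ := exists_nonisotropic (Or.inl hH.ne_id) hH.symm haa
  obtain ⟨d1, d2⟩ := mem_perp_pair.1 (add_mem (Submodule.smul_mem _ α ha) (Submodule.smul_mem _ β ha'))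
  obtain ⟨r, -, r2, r3⟩ := su_fix hH hU.hB hg hd
  rw [← r3 (u w) (hE.refl d2)] at g2
  have g1' : (g * r) w = (N ^ (j + 2 + 2)) w := by rw [LinearEquiv.mul_apply, r3 w (hE.refl d1), g1]
  have b0 : σ (B w ((N ^ (j + 2 + 2)) w)) = B w ((N ^ (j + 2 + 2)) w) := by
    rw [hH.eq, h.pair (j + 2 + 2) w w (h.pow_zero_of (by omega) w)]
    rw [(hj.add (by decide : Even 4)).neg_one_pow, one_mul]
  obtain ⟨θ, hθ⟩ := herm_skew hH (-ρ / B w ((N ^ (j + 2 + 2)) w)) (by
    rw [map_div₀, b0, map_neg]; linear_combination (-(B w ((N ^ (j + 2 + 2)) w))⁻¹) * hρ1)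
  have θ0 : θ ≠ 0 := fun e => by simp [e, ρ0, h.top] at hθ
  obtain ⟨ω, hω⟩ : ∃ ω, σ ω ≠ ω := by
    by_contra! hc; exact hH.ne_id (RingHom.ext hc)
  have hy : B ((N ^ (j + 2 + 2)) w) (θ • (N ^ (j + 1)) w + (θ * ω) • (N ^ (j + 2)) w) = 0 := by
    simp [h.e_N (j := j + 1) (by omega), h.e_N (j := j + 2) (by omega)]
  obtain ⟨c, hc⟩ := hE.ex (θ • (N ^ (j + 1)) w + (θ * ω) • (N ^ (j + 2)) w)
  refine ⟨u, ⟨h.ug, det_eq_one_of_nil h.isNil h.eu⟩, g * r, r2, _, hE.rd_mem hG he hy hc, N,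
    h.isNil, h.pow_ne, h.eu, fun K hK hu hv hx => ?_⟩
  have hK' : K ≤ UG B := hK.trans inf_le_left
  have h0 := h.third_rq (by omega) hu hy hx
  rw [map_add, map_smul, map_smul, h.N_pow, h.N_pow] at h0
  have h1 : RQ B 1 K ((N ^ (j + 2 + 2)) w) (θ • (N ^ (j + 2 + 1)) w) :=
    hE.rq_congr he (h.rq_N (by omega) hu h0) (-(θ * ω)) (by
      rw [map_add, map_smul, map_smul, h.N_pow, h.N_pow]; module)
  have hρ := fun l => h.tv_step hK' hu hv (by
    rw [← g1', LinearEquiv.mul_apply, inv_apply_apply]; exact g2) h1 (l := l)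
  rw [show (1 * σ θ - θ) * B w ((N ^ (j + 2 + 2)) w) = ρ by
    have := h.top; field_simp at hθ; linear_combination hθ] at hρ
  have ht : (N ^ (j + 2)) (N w) = (N ^ (j + 2 + 1)) w + (0 : F) • (N ^ (j + 2 + 2)) w := by
    simp [h.pow_N]
  have hm := fun r hr => h.rq_mul hu ht hρ (r := r) hr
  have h2 := h.rq_pow (by omega) hu (hρ _ (hm ρ⁻¹ (inv_mem_subring _
    (Subring.subset_closure rfl)) θ h1)) (j + 1)
  rw [map_smul, h.pow_N, show ρ⁻¹ * θ * ρ = θ by field_simp] at h2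
  have h3 := hE.rq_sub he h0 h2
  rw [add_sub_cancel_left] at h3
  refine h.fin_comm hG hK' (h.irr g1' hu hv) (h.full_of hu ρ0 ht hρ fun l => ?_) (herm_skew hH)
  have hω' : σ ω - ω ≠ 0 := sub_ne_zero.2 hω
  have hω'' : ω - σ ω ≠ 0 := sub_ne_zero.2 hω.symm
  have e2 : σ ((σ (l / θ) - l / θ) / (σ ω - ω)) = (σ (l / θ) - l / θ) / (σ ω - ω) := by
    rw [map_div₀, map_sub, map_sub, hH.invol, hH.invol]; field_simp; ring
  convert hE.rq_add he (hm _ (hρ2 (l / θ - (σ (l / θ) - l / θ) / (σ ω - ω) * ω) (by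
    rw [map_sub, map_mul, e2]; field_simp; ring)) _ h1) (hm _ (hρ2 _ e2) _ h3) using 1
  rw [← add_smul]; congr 1; field_simp; ring

theorem su_gen5 {q : ℕ} (hU : UQ B q) {n : ℕ} (hd : finrank F V = n) (hn : 5 ≤ n) (ho : Odd n) :
    RGen3 (SUG B) (n - 1) := by
  obtain ⟨i, rfl⟩ : ∃ i, n = 2 * i + 5 := by obtain ⟨k, rfl⟩ := ho; exact ⟨k - 2, by omega⟩
  obtain ⟨d, -, hd'⟩ := exists_noniso_nd hU.hH hU.hB nd_bot (by
    have := hU.hW.finrank_perp ⊥; rw [finrank_bot] at this; omega)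
  obtain ⟨u, N, w, h, h1, h2⟩ := (regW_one hU.hE hd').iter hU.hE (fun X hX =>
    exists_isotropic_mem hU.hH.ne_id hU.hH.invol hU.hH.symm hX) (i + 1) (by omega)
  rw [show 0 + 2 * (i + 1 + 1) = 2 * i + 2 + 2 by ring] at h
  exact su_five hU (even_two_mul i) h h1 (h2 (Or.inr (by omega)))

end su

theorem RGen3.transfer {ι : Type} [Fintype ι] [DecidableEq ι] {G : Type*} [Group G]
    {L : Subgroup ((ι → F) ≃ₗ[F] (ι → F))} {k : ℕ} (h : RGen3 L k) (ε : G ≃* L)
    (toMat : G → Matrix ι ι F) (hε : ∀ g v, (ε g).1 v = (toMat g).mulVec v) :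
    ∃ u g h : G, (IsNilpotent (toMat u - 1) ∧ (toMat u - 1) ^ k ≠ 0) ∧
      Subgroup.closure {u, g * u * g⁻¹, h * u * h⁻¹} = ⊤ := by
  obtain ⟨u, hu, g, hg, x, hx, N, h1, h2, h3, h4⟩ := h
  exact gen3_transfer ε toMat hε hu hg hx h1 h2 h3 h4

end CF.Classical
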