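/-
Generation of `SU_3(q)` by two conjugate regular unipotent elements.
-/
import Cfsg.Agent.Classical.RegGenF
import Cfsg.Agent.Classical.RegGenC

set_option autoImplicit false
set_option linter.unusedSectionVars false

namespace CF.Classical

open Module CF.Geom

variable {F : Type*} [Field F] {σ : F →+* F}

/-- `G` is generated by two conjugate unipotent elements with `(u - 1) ^ k ≠ 0`. -/
def RGen2 {V : Type*} [AddCommGroup V] [Module F V] (G : Subgroup (V ≃ₗ[F] V)) (k : ℕ) : Prop :=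
  ∃ u ∈ G, ∃ g ∈ G, ∃ N : End F V, IsNilpotent N ∧ N ^ k ≠ 0 ∧ (∀ x, u x = x + N x) ∧
    ∀ K ≤ G, u ∈ K → g * u * g⁻¹ ∈ K → G ≤ K

theorem RGen2.congr {V W : Type*} [AddCommGroup V] [Module F V] [AddCommGroup W] [Module F W]
    {G : Subgroup (V ≃ₗ[F] V)} {G' : Subgroup (W ≃ₗ[F] W)} {k : ℕ} (h : RGen2 G k) (e : V ≃ₗ[F] W)
    (he : ∀ g, autCongr e g ∈ G' ↔ g ∈ G) : RGen2 G' k := by
  obtain ⟨u, hu, g, hg, N, h1, h2, h3, h4⟩ := h
  refine ⟨autCongr e u, (he u).2 hu, autCongr e g, (he g).2 hg, e.conjAlgEquiv F N,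
    h1.map _, fun h => h2 ((e.conjAlgEquiv F).injective (by rw [map_pow, h, map_zero])),
    fun x => by simp [autCongr_apply, h3], fun K hK k1 k2 x hx => ?_⟩
  obtain ⟨x, rfl⟩ := (autCongr e).surjective x
  exact h4 (K.comap (autCongr e).toMonoidHom) (fun y hy => (he y).1 (hK hy)) k1
    (by simpa using k2) ((he x).1 hx)

/-- The anti-diagonal Hermitian form in dimension three. -/
def hB3 (σ : F →+* F) : (Fin 3 → F) →ₛₗ[σ] (Fin 3 → F) →ₗ[F] F :=
  LinearMap.mk₂'ₛₗ σ (RingHom.id F) (fun u v => σ (u 0) * v 2 + σ (u 1) * v 1 + σ (u 2) * v 0)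
    (fun u u' v => by simp; ring) (fun c u v => by simp; ring)
    (fun u v v' => by simp; ring) (fun c u v => by simp; ring)

theorem hB3_apply (u v : Fin 3 → F) :
    hB3 σ u v = σ (u 0) * v 2 + σ (u 1) * v 1 + σ (u 2) * v 0 := rfl

variable [Finite F] {q : ℕ}

theorem UQ.exists_B3 {V : Type*} [AddCommGroup V] [Module F V] [FiniteDimensional F V]
    {B : V →ₛₗ[σ] V →ₗ[F] F} (hU : UQ B q) (hd : finrank F V = 3) :
    UQ (hB3 σ) q ∧ ∃ P : (Fin 3 → F) ≃ₗ[F] V, ∀ x y, B (P x) (P y) = hB3 σ x y := by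
  have hH := hU.hH
  have h3 : UQ (hB3 σ) q := ⟨⟨hH.ne_id, hH.invol, ⟨fun u v => by
    simp [hB3_apply, hH.invol]; ring⟩⟩, ⟨fun u hu => ext3 (by simpa [hB3_apply] using hu ![0, 0, 1])
      (by simpa [hB3_apply] using hu ![0, 1, 0]) (by simpa [hB3_apply] using hu ![1, 0, 0]),
    fun u hu => ext3 (by simpa [hB3_apply] using hu ![0, 0, 1])
      (by simpa [hB3_apply] using hu ![0, 1, 0]) (by simpa [hB3_apply] using hu ![1, 0, 0])⟩,
    hU.hF, hU.hσ⟩
  obtain ⟨e, e0, he⟩ := exists_isotropic_of_two_le hH.ne_id hH.invol hH.symm (V := V) (by omega)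
  obtain ⟨f, hh⟩ := hU.hE.exists_HH e0 he
  obtain ⟨d, hd1, hd2⟩ := exists_noniso_nd hH hU.hB hh.nd (by
    have := hh.finrank_U; change 1 ≤ finrank F (Upr B e f); omega)
  obtain ⟨a, ha⟩ := hU.exists_norm (c := (B d d)⁻¹) (by rw [map_inv₀, hH.eq])
  obtain ⟨d1, d2⟩ := mem_Upr.1 hd1
  let P : (Fin 3 → F) →ₗ[F] V := (LinearMap.proj 0).smulRight e +
    (LinearMap.proj 1).smulRight (a • d) + (LinearMap.proj 2).smulRight f
  have hP : ∀ x y, B (P x) (P y) = hB3 σ x y := fun x y => by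
    simp [P, hB3_apply, he, hh.hf, hh.hef, d1, d2, hH.refl d1, hH.refl d2, hH.flip_one hh.hef]
    exact Or.inl (by linear_combination y 1 * B d d * ha + y 1 * mul_inv_cancel₀ hd2)
  have hi : Function.Injective P := (injective_iff_map_eq_zero P).2 fun x hx =>
    h3.hB.1 x fun y => by rw [← hP, hx]; simp
  exact ⟨h3, LinearEquiv.ofBijective P ⟨hi,
    (LinearMap.injective_iff_surjective_of_finrank_eq_finrank (by simp [hd])).1 hi⟩, hP⟩

theorem su3_of (hU : UQ (hB3 σ) q) {a b c δ l lam : F} (a0 : a ≠ 0) (δ0 : δ ≠ 0) (l0 : l ≠ 0)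
    (lam0 : lam ≠ 0) (hab : b + σ b = a * σ a) (hcδ : δ + σ δ = c * σ c) (hl : c * l = -a * σ l ^ 2)
    (hρ : Subring.closure {σ lam ^ 2 / lam} = ⊤)
    (hw : ∀ K : Subgroup ((Fin 3 → F) ≃ₗ[F] (Fin 3 → F)),
      RHas K (fun x => m3 1 (-σ a) (-b) 0 1 a 0 0 1 x) →
      RHas K (fun x => m3 1 0 0 c 1 0 (-δ) (-σ c) 1 x) →
        ∃ f, RHas K f ∧ f ![1, 0, 0] = lam • ![1, 0, 0]) : RGen2 (SUG (hB3 σ)) 2 := by
  have hE := hU.hE
  have hH := hU.hH
  have he : hB3 σ ![1, 0, 0] ![1, 0, 0] = 0 := by simp [hB3_apply]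
  have hf : hB3 σ ![0, 0, 1] ![0, 0, 1] = 0 := by simp [hB3_apply]
  have e0 : (![1, 0, 0] : Fin 3 → F) ≠ 0 := fun e => by simpa using congrFun e 0
  have hed : ∀ t : F, hB3 σ ![1, 0, 0] (t • ![0, 1, 0]) = 0 := fun t => by simp [hB3_apply]
  have hfd : ∀ t : F, hB3 σ ![0, 0, 1] (t • ![0, 1, 0]) = 0 := fun t => by simp [hB3_apply]
  have hG := polarG_su hH hU.hB e0 he
  have eu : ∀ a b x, rd (hB3 σ) 1 ![1, 0, 0] (a • ![0, 1, 0]) b x =
      m3 1 (-σ a) (-b) 0 1 a 0 0 1 x := fun a b x => by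
    rw [hE.rd_apply he (hed a)]
    refine ext3 ?_ ?_ ?_ <;> simp [hB3_apply, -Matrix.add_cons, -Matrix.sub_cons] <;> ring
  have ev : ∀ x, rd (hB3 σ) 1 ![0, 0, 1] (c • ![0, 1, 0]) δ x =
      m3 1 0 0 c 1 0 (-δ) (-σ c) 1 x := fun x => by
    rw [hE.rd_apply hf (hfd c)]
    refine ext3 ?_ ?_ ?_ <;> simp [hB3_apply, -Matrix.add_cons, -Matrix.sub_cons] <;> ring
  have σl : σ l ≠ 0 := (map_ne_zero σ).2 l0
  let W := (slEquiv 3 F ⟨!![0, 0, (σ l)⁻¹; 0, -σ l / l, 0; l, 0, 0], by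
    simp [Matrix.det_fin_three]; field_simp⟩).1
  have eW : ∀ x, W x = m3 0 0 (σ l)⁻¹ 0 (-σ l / l) 0 l 0 0 x := fun x => rfl
  have hW : W ∈ SUG (hB3 σ) := ⟨mem_UG.2 fun x y => by
    simp [eW, hB3_apply, hH.invol]; field_simp; ring, (slEquiv 3 F _).2⟩
  obtain ⟨z, hz⟩ := herm_skew hH (δ / (l * σ l) - b) (by
    have h1 := congrArg σ hl
    simp only [map_mul, map_neg, map_pow, hH.invol] at h1
    rw [map_sub, map_div₀, map_mul, hH.invol]
    field_simp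
    refine mul_left_cancel₀ (mul_ne_zero l0 σl) ?_
    linear_combination l * σ l * hcδ - (l * σ l) ^ 2 * hab + σ c * σ l * hl - a * σ l ^ 2 * h1)
  obtain ⟨c0, hc0⟩ := hE.ex (σ (z / a) • ![0, 1, 0])
  have hc : 1 * b + σ b = hB3 σ (a • ![0, 1, 0]) (a • ![0, 1, 0]) := by
    simp [hB3_apply, hab, mul_comm]
  refine ⟨_, hE.rd_mem hG he (hed a) hc, _, mul_mem hW (hE.rd_mem hG he (hed _) hc0), _,
    nil3_up (-σ a) (-b) a, up3_pow_ne (by simpa using a0) a0, fun x => by rw [eu, up3_apply],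
    fun K hK hu hv => ?_⟩
  replace hv : rd (hB3 σ) 1 ![0, 0, 1] (c • ![0, 1, 0]) δ ∈ K := by
    convert hv using 1
    rw [eq_mul_inv_iff_mul_eq]
    ext x : 1
    have h1 : c = -a * σ l ^ 2 / l := by rw [← hl]; field_simp
    have h2 : δ = (z - σ z + b) * (l * σ l) := by
      rw [one_mul] at hz; rw [← hz]; field_simp; ring
    have σa : σ a ≠ 0 := (map_ne_zero σ).2 a0
    simp only [LinearEquiv.mul_apply, ev, eu, eW]
    refine ext3 ?_ ?_ ?_ <;> simp [h1, h2, hH.invol] <;> field_simp <;> ring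
  obtain ⟨_, ⟨h, hh, h0⟩, h1⟩ := hw K (.of_mem hu (eu a b)) (.of_mem hv ev)
  rw [← h0] at h1
  have hK' : K ≤ UG (hB3 σ) := hK.trans inf_le_left
  have σm : σ lam ≠ 0 := (map_ne_zero σ).2 lam0
  have k1 := ug_map (hK' hh) ![1, 0, 0] ![0, 1, 0]
  have k2 := ug_map (hK' hh) ![1, 0, 0] ![0, 0, 1]
  have k3 := (mem_SUG.1 (hK hh)).2
  have s0 : Pi.single (0 : Fin 3) (1 : F) = ![1, 0, 0] := ext3 (by simp) (by simp) (by simp)
  have s1 : Pi.single (1 : Fin 3) (1 : F) = ![0, 1, 0] := ext3 (by simp) (by simp) (by simp)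
  have s2 : Pi.single (2 : Fin 3) (1 : F) = ![0, 0, 1] := ext3 (by simp) (by simp) (by simp)
  rw [h1] at k1 k2
  simp [hB3_apply, lam0] at k1 k2
  rw [← LinearMap.det_toMatrix', Matrix.det_fin_three] at k3
  simp only [LinearMap.toMatrix'_apply, s0, s1, s2, LinearEquiv.coe_coe, h1, k1] at k3
  simp at k3
  have k4 : h ![0, 1, 0] 1 = σ lam / lam := by
    field_simp; linear_combination σ lam * k3 - lam * h ![0, 1, 0] 1 * k2
  have hP := forall_of_closure (P := fun t => RQ (hB3 σ) 1 K ![1, 0, 0] ((t * a) • ![0, 1, 0])) hρ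
    (by rw [one_mul]; exact ⟨hed a, b, hc, hu⟩)
    (fun s t hs ht => by rw [add_mul, add_smul]; exact hE.rq_add he hs ht)
    (fun s hs => by rw [neg_mul, neg_smul]; exact hE.rq_neg he hs)
    (fun r hr s hs => hE.rq_congr he (hE.rq_scale he hs (hK' hh) hh lam0 h1)
      (-(σ lam * s * a * h ![0, 1, 0] 0)) (by
        rw [Set.mem_singleton_iff.1 hr, map_smul]
        refine ext3 ?_ ?_ ?_ <;> simp [k1, k4, -Matrix.add_cons, -Matrix.smul_cons] <;> ring))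
  have hT : ∀ y, hB3 σ ![1, 0, 0] y = 0 → RQ (hB3 σ) 1 K ![1, 0, 0] y := fun y hy => by
    refine hE.rq_congr he (hP (y 1 / a)) (y 0) ?_
    simp [hB3_apply] at hy
    refine ext3 ?_ ?_ ?_ <;> simp [hy, a0]
  refine hG.le_of_move (by simpa using he) (hE.rad_le_of he e0 hT fun t ht => ?_) (hK' hv) hv
    (by rw [ev]; simpa [hB3_apply] using δ0)
  obtain ⟨t, rfl⟩ := herm_skew hH t ht
  exact hE.centre_of_comm he hT (hed 1) (hed 1) (by simp [hB3_apply]) t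

theorem su3_generic (hU : UQ (hB3 σ) q) (h3 : 3 ≤ q) (h5 : q ≠ 5) (h8 : q ≠ 8) :
    RGen2 (SUG (hB3 σ)) 2 := by
  have hH := hU.hH
  obtain ⟨δ, δ0, hδ⟩ := exists_prim (F := F)
  have σδ : σ δ ≠ 0 := (map_ne_zero σ).2 δ0
  obtain ⟨r, rfl⟩ : ∃ r, q = r + 1 := ⟨q - 1, by omega⟩
  have e1 : σ δ / δ = δ ^ r := by rw [hU.hσ, pow_succ, mul_div_cancel_right₀ _ δ0]
  have ord : ∀ m, (σ δ / δ) ^ m = 1 → r + 2 ∣ m := fun m hm => by
    have := prim_pow_eq_one δ0 hδ (m := r * m) (by rw [pow_mul, ← e1, hm])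
    rw [hU.hF, show (r + 1) ^ 2 - 1 = r * (r + 2) by rw [Nat.sub_eq_iff_eq_add (by nlinarith)]; ring]
      at this
    exact Nat.dvd_of_mul_dvd_mul_left (by omega) this
  have T0 : δ + σ δ ≠ 0 := fun e => by
    have := Nat.le_of_dvd two_pos (ord 2 (by
      rw [show σ δ = -δ by linear_combination e, neg_div, div_self δ0]; simp))
    omega
  obtain ⟨c, hc⟩ := hU.exists_norm (c := δ + σ δ) (by rw [map_add, hH.invol, add_comm])
  have c0 : c ≠ 0 := left_ne_zero_of_mul (hc ▸ T0)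
  have hc' : σ c = (δ + σ δ) / c := by rw [← hc]; field_simp
  have T1 : σ δ + δ ≠ 0 := by rwa [add_comm]
  refine su3_of hU (a := c * (δ + σ δ) / (δ * σ δ)) (c := c) (δ := δ) (lam := δ / σ δ)
    (b := (δ / σ δ - 1 + (δ + σ δ) ^ 2 / (δ * σ δ)) / δ) (l := -(δ * σ δ) / (δ + σ δ))
    (by positivity) δ0 (div_ne_zero (neg_ne_zero.2 (mul_ne_zero δ0 σδ)) T0) (div_ne_zero δ0 σδ)
    (by simp [hH.invol, hc']; field_simp; ring) hc.symm (by simp [hH.invol]; field_simp; ring) ?_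
    fun K hu hv => ⟨_, hv.comp (hu.comp hv), ?_⟩
  · rw [show σ (δ / σ δ) ^ 2 / (δ / σ δ) = (σ δ / δ) ^ 3 by simp [hH.invol]; field_simp]
    refine closure_eq_top_of_orderOf (by positivity) fun s h1 h2 => or_iff_not_imp_right.2 fun hm e => ?_
    obtain ⟨m, hm⟩ := not_not.1 hm
    have h4 := ord (3 * (s - 1)) (by rw [pow_mul, e])
    rw [hU.hF] at h1 hm
    obtain ⟨t, rfl⟩ : ∃ t, s = t + 1 := ⟨s - 1, by omega⟩
    rw [add_tsub_cancel_right] at h4
    have h6 : t ≤ r := by nlinarith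
    rcases m with _ | _ | _ | m
    · rw [pow_zero] at hm; nlinarith
    · simp at hm; nlinarith
    · obtain rfl : t = r := by simpa using (Nat.pow_left_injective two_ne_zero hm)
      have h7 : t + 2 ∣ 6 := (Nat.dvd_add_right h4).1 ⟨3, by ring⟩
      have : t ≤ 4 := by have := Nat.le_of_dvd (by norm_num) h7; omega
      interval_cases t <;> omega
    · have h7 : (t + 1) ^ 3 ≤ (r + 1) ^ 2 := hm ▸ Nat.pow_le_pow_right (by omega) (by omega)
      have h9 := Nat.le_of_dvd (by omega) h4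
      have h10 : (r + 1 + 1) ^ 2 ≤ (3 * t) ^ 2 := Nat.pow_le_pow_left h9 2
      have h11 : t = 3 := by
        by_contra h12
        have : 0 < ((t : ℤ) - 3) ^ 2 := sq_pos_of_ne_zero (by omega)
        zify at h7 h9 h2 h3
        nlinarith
      subst h11
      have : r = 7 := by nlinarith
      omega
  · refine ext3 ?_ ?_ ?_ <;> simp [hH.invol, hc'] <;> field_simp <;> ring

theorem su3_five (hU : UQ (hB3 σ) 5) : RGen2 (SUG (hB3 σ)) 2 := by
  have := Fintype.ofFinite F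
  have hF : Fintype.card F = 25 := by rw [← Nat.card_eq_fintype_card, hU.hF]; norm_num
  have h5 : (5 : F) = 0 := pow_eq_zero_iff two_ne_zero |>.1 (by
    have := FiniteField.cast_card_eq_zero F
    rw [hF] at this; linear_combination this)
  have h2 : (2 : F) ≠ 0 := fun e => one_ne_zero (α := F) (by linear_combination h5 - 2 * e)
  obtain ⟨t, ht⟩ : IsSquare (2 : F) := (FiniteField.isSquare_iff (fun e => h2 (by
    exact_mod_cast (ringChar.spec F 2).2 (by rw [e]))) h2).2 (by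
      rw [hF]; linear_combination 819 * h5)
  have hs : σ t = -t := by rw [hU.hσ]; grind
  refine su3_of hU (a := 2 * t) (b := 1 + 3 * t) (c := 1) (δ := 3 + 2 * t) (l := t)
    (lam := 1 + 3 * t) (by grind) (by grind) (by grind) (by grind)
    (by simp [map_ofNat, hs]; grind) (by simp [map_ofNat, hs]; grind) (by simp [hs]; grind) ?_
    fun K hu hv => ⟨_, hv.comp (hv.comp (hu.comp hv)), ?_⟩
  · rw [show σ (1 + 3 * t) ^ 2 / (1 + 3 * t) = -t by
      rw [div_eq_iff (by grind)]; simp [map_ofNat, hs]; grind]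
    refine closure_eq_top_of_orderOf (by grind) fun s h1 h2 => or_iff_not_imp_right.2 fun hm e => ?_
    obtain ⟨m, hm⟩ := not_not.1 hm
    rw [hU.hF] at h1 hm
    have h3 : s ∣ 5 ^ 2 := hm ▸ dvd_pow_self s (by rintro rfl; simp at hm)
    have : s ≤ 5 := by nlinarith
    interval_cases s <;> simp at h3
    grind
  · refine ext3 ?_ ?_ ?_ <;> simp [map_ofNat, hs] <;> grind

theorem su3_eight (hU : UQ (hB3 σ) 8) : RGen2 (SUG (hB3 σ)) 2 := by
  have h2 : (2 : F) = 0 := two_eq_zero_of_card (m := 6) (by rw [hU.hF]; norm_num)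
  obtain ⟨γ, γ0, hγ⟩ := exists_prim (F := F)
  have ord : ∀ m, γ ^ m = 1 → 63 ∣ m := fun m hm => by
    simpa [hU.hF] using prim_pow_eq_one γ0 hγ hm
  have h63 : γ ^ 63 = 1 := by
    have := Fintype.ofFinite F
    have h1 := FiniteField.pow_card_sub_one_eq_one γ γ0
    rwa [← Nat.card_eq_fintype_card, hU.hF] at h1
  obtain ⟨w, hw⟩ : ∃ w : F, w ^ 2 + w + 1 = 0 := ⟨γ ^ 21, by
    have : γ ^ 21 - 1 ≠ 0 := fun e => by simpa using ord 21 (sub_eq_zero.1 e)
    exact mul_left_cancel₀ this (by linear_combination h63)⟩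
  obtain ⟨t, ht⟩ : ∃ t : F, t ^ 3 + t + 1 = 0 := by
    have h1 : γ ^ 9 - 1 ≠ 0 := fun e => by simpa using ord 9 (sub_eq_zero.1 e)
    have h3 : (γ ^ 9) ^ 7 = 1 := by rw [← pow_mul, h63]
    generalize γ ^ 9 = x at h1 h3
    by_cases h4 : x ^ 3 + x + 1 = 0
    · exact ⟨x, h4⟩
    · exact ⟨x + 1, mul_left_cancel₀ (mul_ne_zero h1 h4) (by grind)⟩
  have hs : σ t = t := by rw [hU.hσ]; grind
  have hs' : σ w = w + 1 := by rw [hU.hσ]; grind
  refine su3_of hU (a := t + t ^ 2) (b := t ^ 2 + t * w) (c := 1) (δ := t ^ 2 + w) (l := 1 + t)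
    (lam := 1 + t + t ^ 2 + (1 + t) * w) (by grind) (by grind) (by grind) (by grind)
    (by simp [hs, hs']; grind) (by simp [hs, hs']; grind) (by simp [hs]; grind) ?_
    fun K hu hv => ⟨_, hv.comp (hv.comp (hv.comp (hu.comp (hu.comp (hv.comp (hu.comp hv)))))), ?_⟩
  · rw [show σ (1 + t + t ^ 2 + (1 + t) * w) ^ 2 / (1 + t + t ^ 2 + (1 + t) * w) = t + t * w by
      rw [div_eq_iff (by grind)]; simp [hs, hs']; grind]
    refine closure_eq_top_of_orderOf (by grind) fun s h1 h2 => or_iff_not_imp_right.2 fun hm e => ?_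
    obtain ⟨m, hm⟩ := not_not.1 hm
    rw [hU.hF] at h1 hm
    have h3 : s ∣ 8 ^ 2 := hm ▸ dvd_pow_self s (by rintro rfl; simp at hm)
    have : s ≤ 8 := by nlinarith
    interval_cases s <;> simp at h3 <;> grind
  · refine ext3 ?_ ?_ ?_ <;> simp [hs, hs'] <;> grind

theorem su3_gen {V : Type*} [AddCommGroup V] [Module F V] [FiniteDimensional F V]
    {B : V →ₛₗ[σ] V →ₗ[F] F} (hU : UQ B q) (hd : finrank F V = 3) (h3 : 3 ≤ q) :
    RGen2 (SUG B) 2 := by
  obtain ⟨h, P, hP⟩ := hU.exists_B3 hd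
  have : RGen2 (SUG (hB3 σ)) 2 := by
    by_cases h5 : q = 5
    · exact su3_five (h5 ▸ h)
    by_cases h8 : q = 8
    · exact su3_eight (h8 ▸ h)
    exact su3_generic h h3 h5 h8
  refine this.congr P fun g => and_congr ?_ (autCongr_mem_SLG P g)
  change _ ∈ UG B ↔ g ∈ UG _
  rw [mem_UG, mem_UG, P.surjective.forall₂]
  simp [autCongr_apply, hP]

theorem RGen2.transfer {ι : Type} [Fintype ι] [DecidableEq ι] {G : Type*} [Group G]
    {L : Subgroup ((ι → F) ≃ₗ[F] (ι → F))} {k : ℕ} (h : RGen2 L k) (ε : G ≃* L)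
    (toMat : G → Matrix ι ι F) (hε : ∀ g v, (ε g).1 v = (toMat g).mulVec v) :
    ∃ u g : G, (IsNilpotent (toMat u - 1) ∧ (toMat u - 1) ^ k ≠ 0) ∧
      Subgroup.closure {u, g * u * g⁻¹} = ⊤ := by
  obtain ⟨u, hu, g, hg, N, h1, h2, h3, h4⟩ := h
  exact gen2_transfer ε toMat hε hu hg h1 h2 h3 h4

end CF.Classical
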