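/-
Singer groups: centralizer, normalizer, intersections, conjugacy of abelian subgroups of the same
order.
-/
import Cfsg.Agent.Cls.SS
import Cfsg.Agent.Fgs2.Zsigmondy

set_option autoImplicit false

namespace CF.Classical

open Module Polynomial
open scoped IntermediateField

variable (F K : Type*) [Field F] [Field K] [Algebra F K]

/-- Multiplications by non-zero elements. -/
noncomputable abbrev singerHom : Kˣ →* (End F K)ˣ :=
  Units.map ((Algebra.lmul F K : K →ₐ[F] End F K) : K →* End F K)

variable {F K}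

theorem singerHom_apply (a : Kˣ) (x : K) : (singerHom F K a).1 x = a * x := rfl

theorem singerHom_injective : Function.Injective (singerHom F K) := fun a b h =>
  Units.ext (by simpa [singerHom_apply] using congrArg (fun g : (End F K)ˣ => g.1 1) h)

theorem card_singer : Nat.card (singerHom F K).range = Nat.card K - 1 := by
  rw [← Nat.card_units, ← Nat.card_congr (MonoidHom.ofInjective singerHom_injective).toEquiv]

theorem unit_apply_one_ne (g : (End F K)ˣ) : g.1 1 ≠ 0 := fun h => by
  have : (g⁻¹ * g).1 1 = 0 := by simp only [Units.val_mul, End.mul_apply, h, map_zero]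
  simp at this

theorem mem_singer_of_commute [Algebra.IsAlgebraic F K] {S : Set K}
    (hS : IntermediateField.adjoin F S = ⊤) {g : (End F K)ˣ}
    (h : ∀ a ∈ S, ∀ x, g.1 (a * x) = a * g.1 x) : g ∈ (singerHom F K).range := by
  have h1 : ∀ a ∈ Algebra.adjoin F S, ∀ x, g.1 (a * x) = a * g.1 x := fun a ha => by
    induction ha using Algebra.adjoin_induction with
    | mem a ha => exact h a ha
    | algebraMap c => intro x; simp [← Algebra.smul_def]
    | add a b _ _ ha hb => intro x; simp [add_mul, ha, hb]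
    | mul a b _ _ ha hb => intro x; simp [mul_assoc, ha, hb]
  rw [← IntermediateField.adjoin_toSubalgebra_of_isAlgebraic fun x _ =>
    Algebra.IsAlgebraic.isAlgebraic x, hS] at h1
  refine ⟨Units.mk0 _ (unit_apply_one_ne g), Units.ext (LinearMap.ext fun x => ?_)⟩
  simpa [singerHom_apply, mul_comm] using (h1 x trivial 1).symm

theorem centralizer_singer [Algebra.IsAlgebraic F K] :
    Subgroup.centralizer ((singerHom F K).range : Set (End F K)ˣ) = (singerHom F K).range := by
  refine le_antisymm (fun g hg => mem_singer_of_commute (S := Set.univ) (by simp) fun a _ x => ?_)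
    ?_
  · rcases eq_or_ne a 0 with rfl | ha
    · simp
    · exact (congrArg (fun g : (End F K)ˣ => g.1 x) (hg _ ⟨Units.mk0 a ha, rfl⟩)).symm
  · rintro _ ⟨a, rfl⟩ _ ⟨b, rfl⟩
    rw [← map_mul, ← map_mul, mul_comm]

theorem card_normalizer_singer [Finite K] :
    Nat.card (Subgroup.normalizer ((singerHom F K).range : Set (End F K)ˣ)) =
      finrank F K * (Nat.card K - 1) := by
  let φ : Gal(K/F) × Kˣ → (End F K)ˣ := fun p =>
    singerHom F K p.2 * LinearMap.GeneralLinearGroup.ofLinearEquiv p.1.toLinearEquiv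
  have h1 : ∀ p x, (φ p).1 x = p.2 * p.1 x := fun p x => rfl
  have h2 : Function.Injective φ := fun p p' h => by
    have e : ∀ x, (p.2 : K) * p.1 x = p'.2 * p'.1 x := fun x => by rw [← h1, h, h1]
    have e2 : p.2 = p'.2 := Units.ext (by simpa using e 1)
    exact Prod.ext (AlgEquiv.ext fun x => by simpa [e2] using e x) e2
  have : Finite (End F K) := Finite.of_injective _ DFunLike.coe_injective
  rw [← IsGalois.card_aut_eq_finrank, ← Nat.card_units, ← Nat.card_prod,
    Nat.card_congr (Equiv.ofInjective φ h2)]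
  refine Nat.card_congr (Equiv.subtypeEquivRight fun g => ⟨fun hg => ?_, ?_⟩)
  · have h3 : ∀ a x, g.1 (a * x) * g.1 1 = g.1 a * g.1 x := fun a x => by
      rcases eq_or_ne a 0 with rfl | ha
      · simp
      obtain ⟨b, hb⟩ := (hg _).1 ⟨Units.mk0 a ha, rfl⟩
      have : ∀ y, g.1 (a * y) = b * g.1 y := fun y =>
        (congrArg (fun g : (End F K)ˣ => g.1 y) (eq_mul_inv_iff_mul_eq.1 hb)).symm
      rw [this, ← mul_one a, this]; ring
    have h4 := unit_apply_one_ne g
    let σ : K →ₐ[F] K := AlgHom.ofLinearMap ((Algebra.lmul F K (g.1 1)⁻¹).comp g.1)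
      (by simp [h4]) fun x y => by
        simp only [LinearMap.comp_apply, Algebra.coe_lmul_eq_mul, LinearMap.mul_apply']
        field_simp
        rw [← h3 x y, mul_comm]
    refine ⟨(AlgEquiv.ofBijective σ (Finite.injective_iff_bijective.1 σ.toRingHom.injective),
      Units.mk0 _ h4), Units.ext (LinearMap.ext fun x => ?_)⟩
    simp [h1, σ, h4]
  · rintro ⟨p, rfl⟩
    refine Subgroup.mem_normalizer_fintype ?_
    rintro _ ⟨a, rfl⟩
    refine ⟨Units.map (p.1 : K →* K) a, eq_mul_inv_iff_mul_eq.2 (Units.ext (LinearMap.ext fun x => ?_))⟩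
    change p.1 a * (p.2 * p.1 x) = p.2 * p.1 (a * x)
    rw [map_mul]; ring

theorem eq_singer_of_adjoin [Finite K] {U : Subgroup (End F K)ˣ} [IsMulCommutative U]
    (hc : Nat.card U = Nat.card K - 1)
    (h : IntermediateField.adjoin F (Units.val '' (U.comap (singerHom F K) : Set Kˣ)) = ⊤) :
    U = (singerHom F K).range := by
  have : Finite (End F K) := Finite.of_injective _ DFunLike.coe_injective
  refine Subgroup.eq_of_le_of_card_ge (fun g hg => mem_singer_of_commute h ?_)
    (by rw [hc, card_singer])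
  rintro _ ⟨a, ha, rfl⟩ x
  exact congrArg (fun g : (End F K)ˣ => g.1 x) (setLike_mul_comm hg ha)

theorem card_inf_singer_dvd [Finite K] {U : Subgroup (End F K)ˣ} [IsMulCommutative U]
    (hc : Nat.card U = Nat.card K - 1) (hU : U ≠ (singerHom F K).range) :
    ∃ r, 1 ≤ r ∧ r ∣ finrank F K ∧ r < finrank F K ∧
      Nat.card ↥(U ⊓ (singerHom F K).range) ∣ Nat.card F ^ r - 1 := by
  set E := IntermediateField.adjoin F (Units.val '' (U.comap (singerHom F K) : Set Kˣ)) with hE
  have h1 := finrank_mul_finrank F E K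
  have h2 : finrank E K ≠ 1 := fun h => hU (eq_singer_of_adjoin hc
    (IntermediateField.finrank_eq_one_iff_eq_top.1 h))
  have h3 : 0 < finrank F E := finrank_pos
  have h4 : 0 < finrank E K := finrank_pos
  have h5 : 2 ≤ finrank E K := by omega
  refine ⟨finrank F E, h3, ⟨_, h1.symm⟩, by rw [← h1]; nlinarith, ?_⟩
  have h6 : Function.Injective (Units.map (E.val : E →* K)) :=
    Units.map_injective Subtype.val_injective
  rw [inf_comm, ← Subgroup.map_comap_eq, Subgroup.card_map_of_injective singerHom_injective,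
    ← Module.natCard_eq_pow_finrank, ← Nat.card_units,
    Nat.card_congr (MonoidHom.ofInjective h6).toEquiv]
  exact Subgroup.card_dvd_of_le fun a ha => ⟨Units.mk0 ⟨a, IntermediateField.subset_adjoin _ _
    ⟨a, ha, rfl⟩⟩ fun h => a.ne_zero (congrArg Subtype.val h), Units.ext rfl⟩

theorem adjoin_eq_top_of_primitive [Finite K] {r : ℕ} (hr : r.Prime) {a : K} (h1 : a ^ r = 1)
    (h2 : a ≠ 1) (h : ∀ k, 1 ≤ k → k < finrank F K → ¬ r ∣ Nat.card F ^ k - 1) :
    (minpoly F a).natDegree = finrank F K := by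
  have h3 := IntermediateField.adjoin.finrank (Algebra.IsIntegral.isIntegral (R := F) a)
  rw [← h3]
  by_contra h4
  refine h (finrank F F⟮a⟯) finrank_pos (lt_of_le_of_ne (Submodule.finrank_le F⟮a⟯.toSubmodule) h4) ?_
  have h5 : a ≠ 0 := by rintro rfl; simp [hr.ne_zero] at h1
  have := Fact.mk hr
  let b : F⟮a⟯ˣ := Units.mk0 (IntermediateField.AdjoinSimple.gen F a)
    fun h => h5 (congrArg Subtype.val h)
  rw [← Module.natCard_eq_pow_finrank, ← Nat.card_units, ← orderOf_eq_prime (x := b)
    (Units.ext (Subtype.ext h1)) fun e => h2 (congrArg (·.1.1) e)]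
  exact orderOf_dvd_natCard b

theorem exists_conj_singer [Finite K] {r : ℕ} (hr : r.Prime) (h1 : r ∣ Nat.card K - 1)
    (h : ∀ k, 1 ≤ k → k < finrank F K → ¬ r ∣ Nat.card F ^ k - 1) {U : Subgroup (End F K)ˣ}
    [IsMulCommutative U] (hc : Nat.card U = Nat.card K - 1) :
    ∃ g : (End F K)ˣ, U.map (MulAut.conj g).toMonoidHom = (singerHom F K).range := by
  have := Fact.mk hr
  have : Finite (End F K) := Finite.of_injective _ DFunLike.coe_injective
  obtain ⟨⟨u, hu⟩, h2⟩ := exists_prime_orderOf_dvd_card' r (hc ▸ h1)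
  rw [Subgroup.orderOf_mk] at h2
  have h3 : u.1 ^ r = 1 := congrArg Units.val (h2 ▸ pow_orderOf_eq_one u)
  have hrK : (r : K) ≠ 0 := fun e => by
    have := Fintype.ofFinite K
    have h4 : r ∣ Nat.card K := by
      rw [Nat.card_eq_fintype_card, ← prime_dvd_char_iff_dvd_card]
      exact (ringChar.spec K r).1 e |> fun h => by
        rcases (Nat.dvd_prime hr).1 h with h | h
        · exact absurd h CharP.ringChar_ne_one
        · rw [h]
    exact hr.one_lt.ne' (Nat.dvd_one.1 ((Nat.dvd_sub_iff_right Nat.card_pos h4).1 h1))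
  have hrF : (r : F) ≠ 0 := fun e => hrK (by rw [← map_natCast (algebraMap F K), e, map_zero])
  have h4 : ∀ π ∈ Cls.ed u.1, π ∣ X ^ r - 1 := (Cls.aeval_eq_zero_iff_ed _ _).1 (by simp [h3])
  obtain ⟨π, h5, h6⟩ : ∃ π ∈ Cls.ed u.1, ¬ π ∣ X - 1 := by
    by_contra! h5
    have := (Cls.aeval_eq_zero_iff_ed _ _).2 h5
    rw [map_sub, aeval_X, map_one, sub_eq_zero] at this
    exact hr.one_lt.ne' (by rw [← h2, Units.ext this (v := 1), orderOf_one])
  have h7 := (Cls.ed_isPP _ π h5).irreducible_of_squarefree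
    ((Cls.squarefree_X_pow_sub_one hrF).squarefree_of_dvd (h4 π h5))
  obtain ⟨ζ, hζ⟩ : ∃ ζ : K, IsPrimitiveRoot ζ r := by
    obtain ⟨z, hz⟩ := exists_prime_orderOf_dvd_card' (G := Kˣ) r (by rwa [Nat.card_units])
    exact ⟨z, IsPrimitiveRoot.coe_units_iff.2 (hz ▸ IsPrimitiveRoot.orderOf z)⟩
  obtain ⟨a, ha⟩ : ∃ a : K, aeval a π = 0 := by
    have h8 : ((X ^ r - 1 : F[X]).map (algebraMap F K)).Splits := by
      simpa using X_pow_sub_one_splits hζ
    obtain ⟨a, ha⟩ := (h8.of_dvd (map_ne_zero (X_pow_sub_C_ne_zero hr.pos 1))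
      (map_dvd _ (h4 π h5))).exists_eval_eq_zero (by
        rw [degree_map]; exact (degree_pos_of_irreducible h7).ne')
    exact ⟨a, by rwa [← eval_map_algebraMap]⟩
  have h8 := minpoly.eq_of_irreducible_of_monic h7 ha (Cls.ed_isPP _ π h5).monic
  have h9 : a ^ r = 1 := by simpa [sub_eq_zero] using aeval_eq_zero_of_dvd_aeval_eq_zero (h4 π h5) ha
  have h10 := adjoin_eq_top_of_primitive hr h9 (by
    rintro rfl
    exact h6 (h8 ▸ minpoly.dvd F 1 (by simp))) h
  have h11 : a ≠ 0 := by rintro rfl; simp [hr.ne_zero] at h9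
  have h12 : ∀ f : End F K, π ∣ f.charpoly → f.charpoly = π := fun f hf =>
    eq_of_monic_of_dvd_of_natDegree_le (Cls.ed_isPP _ π h5).monic f.charpoly_monic hf
      (by rw [f.charpoly_natDegree, h8, h10])
  obtain ⟨e, he⟩ := ((Cls.ss_of_pow_eq_one hrF h3).sim (Cls.ss_of_pow_eq_one
    (f := Algebra.lmul F K a) hrF (by rw [← map_pow, h9, map_one])) (by
      rw [h12 _ (by rw [Cls.charpoly_eq_ed]; exact Multiset.dvd_prod h5), h12]
      rw [h8]
      refine minpoly.dvd F a ((Algebra.lmul_injective (R := F)) ?_)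
      rw [← aeval_algHom_apply, LinearMap.aeval_self_charpoly, map_zero])).exists_conj
  let g := LinearMap.GeneralLinearGroup.ofLinearEquiv e
  have : IsMulCommutative (U.map (MulAut.conj g).toMonoidHom) := Subgroup.map_isMulCommutative _ _
  refine ⟨g, eq_singer_of_adjoin (by rw [Subgroup.card_map_of_injective (MulAut.conj g).injective, hc])
    (top_le_iff.1 ?_)⟩
  have h13 : F⟮a⟯ = ⊤ := IntermediateField.eq_of_le_of_finrank_eq le_top (by
    rw [IntermediateField.adjoin.finrank (Algebra.IsIntegral.isIntegral a), h10,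
      IntermediateField.finrank_top'])
  rw [← h13]
  exact IntermediateField.adjoin.mono _ _ _ (Set.singleton_subset_iff.2
    ⟨Units.mk0 a h11, ⟨u, hu, Units.ext he⟩, rfl⟩)

end CF.Classical
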